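import Cfsg.Agent.Lib.FischerUnique23.NormalizerThree
import Cfsg.Agent.Lib.FischerPresented.Mult23
import Cfsg.Agent.Lib.FischerPresented.Out23Bound

/-!
Counts and subgroups in a primitive group of type M(23), in the form used one level up.
-/

set_option autoImplicit false
set_option maxRecDepth 100000

namespace Cfsg.Agent.FischerUnique24

open Cfsg.Agent.CosetCert
open Cfsg.Agent.CosetData
open Cfsg.Agent.Fischer
open Cfsg.Agent.Fischer.Factor
open Cfsg.Agent.FischerPresented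
open Cfsg.Agent.FischerUnique23 (exists_iso exists_lab exists_frame_noncomm gT_nine_mem nine_not_commute)
open Cfsg.Agent.Fi22Local (tapp)

local notation "FT" => Fi23A.setup

/-- The hypotheses on the lower level. -/
structure Is23 {X : Type*} [Group X] (D1 : Set X) : Prop where
  group : Cfsg.IsThreeTranspositionGroup D1
  prim : Cfsg.IsPrimitiveUnderConj D1
  type : Cfsg.IsOfTypeM23 X D1

theorem pair_count_ok : (Out23.countBelow (fun q => Nat.beq (tapp 0 q) q && !Nat.beq q 0) 3510 == 693) = true := by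
  decide +kernel

/-- A coset moved differently by the first and the third generator. -/
def gptB : ℕ := 1000

theorem comm_zero_two : wordFixPts Fi23A.P 31671 Fi23.pts [0, 2, 0, 2] = true ∧
    Fi23A.P.T.get (gptB * 10 + 0) ≠ Fi23A.P.T.get (gptB * 10 + 2) := by
  decide +kernel

universe u

variable {X : Type u} [Group X] [Finite X] {D1 : Set X}

theorem Is23.card_class (h : Is23 D1) : D1.ncard = 31671 := by
  obtain ⟨Φ, hΦ⟩ := exists_iso h.group h.prim h.type
  rw [← hΦ, Set.ncard_image_of_injective _ Φ.injective, ← Nat.card_coe_set_eq, Fi23.card_D]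

theorem Is23.card_group (h : Is23 D1) : Nat.card X = 4089470473293004800 := by
  obtain ⟨Φ, -⟩ := exists_iso h.group h.prim h.type
  rw [← Nat.card_congr Φ.toEquiv, Fi23.order_facts.2.1]

theorem Is23.simple (h : Is23 D1) : IsSimpleGroup X := by
  obtain ⟨Φ, -⟩ := exists_iso h.group h.prim h.type
  exact Φ.isSimpleGroup_congr.1 Fi23.isSimpleGroup

theorem Is23.card_nb (h : Is23 D1) {d : X} (hd : d ∈ D1) : (Nb D1 d).ncard = 3510 := by
  obtain ⟨hLab, -⟩ := exists_lab h.group h.prim h.type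
  obtain ⟨L, hL⟩ := hLab d hd
  have : Nb D1 d = L '' {p | p < 3510} :=
    Set.Subset.antisymm (fun y hy => by obtain ⟨p, hp, e⟩ := hL.surj y hy; exact ⟨p, hp, e⟩)
      (fun y ⟨p, hp, e⟩ => e ▸ hL.mem p hp)
  rw [this, Set.InjOn.ncard_image (s := {p : ℕ | p < 3510}) fun p hp q hq e => hL.inj p hp q hq e]
  exact Set.ncard_Iio_nat 3510

theorem Is23.card_pair (h : Is23 D1) {u v : X} (hu : u ∈ D1) (hv : v ∈ Nb D1 u) :
    (Nb D1 u ∩ Nb D1 v).ncard = 693 := by
  obtain ⟨hLab, -⟩ := exists_lab h.group h.prim h.type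
  obtain ⟨L₀, hL₀⟩ := hLab u hu
  obtain ⟨p, hp, rfl⟩ := hL₀.surj v hv
  obtain ⟨g, hg⟩ := FischerUnique23.exists_to_zero hp
  have hL := hL₀.reindex g
  set L := fun q => L₀ (Fi22Local.apt g q) with hLdef
  rw [show L₀ p = L 0 from (congrArg L₀ hg).symm]
  have : Nb D1 u ∩ Nb D1 (L 0) = L '' {q | q < 3510 ∧ (tapp 0 q = q ∧ q ≠ 0)} := by
    refine Set.Subset.antisymm ?_ ?_
    · rintro y ⟨hy1, hy2⟩
      obtain ⟨q, hq, rfl⟩ := hL.surj y hy1
      exact ⟨q, ⟨hq, (hL.comm 0 (by norm_num) q hq).1 hy2.2.2, fun e => hy2.2.1 (by rw [e])⟩, rfl⟩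
    · rintro _ ⟨q, ⟨hq, hc, hne⟩, rfl⟩
      exact ⟨hL.mem q hq, (hL.mem q hq).1, fun e => hne (hL.inj q hq 0 (by norm_num) e),
        (hL.comm 0 (by norm_num) q hq).2 hc⟩
  rw [this, Set.InjOn.ncard_image fun q hq r hr e => hL.inj q hq.1 r hr.1 e]
  have hc := eq_of_beq pair_count_ok
  rw [Out23.countBelow_eq] at hc
  rw [← hc, ← Set.ncard_image_of_injective _ Fin.val_injective]
  congr 1
  ext q
  simp only [Set.mem_ofPred_eq, Set.mem_image, Bool.and_eq_true, Nat.beq_eq, Bool.not_eq_true']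
  constructor
  · rintro ⟨hq, hc, hne⟩
    exact ⟨⟨q, hq⟩, ⟨hc, Bool.eq_false_iff.2 fun e => hne (Nat.eq_of_beq_eq_true e)⟩, rfl⟩
  · rintro ⟨q, ⟨hc, hne⟩, rfl⟩
    exact ⟨q.2, hc, Nat.ne_of_beq_eq_false hne⟩

/-- The members not commuting with one. -/
def Far (D : Set X) (u : X) : Set X := {y | y ∈ D ∧ ¬ Commute u y}

omit [Finite X] in
theorem insert_union_far {D : Set X} {u : X} (hu : u ∈ D) : insert u (Nb D u) ∪ Far D u = D := by
  refine Set.Subset.antisymm (fun y hy => ?_) (fun y hy => ?_)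
  · rcases hy with (rfl | hy) | hy
    exacts [hu, hy.1, hy.1]
  · by_cases hc : Commute u y
    · by_cases e : y = u
      exacts [Or.inl (Or.inl e), Or.inl (Or.inr ⟨hy, e, hc⟩)]
    · exact Or.inr ⟨hy, hc⟩

omit [Finite X] in
theorem disjoint_far {D : Set X} {u : X} : Disjoint (insert u (Nb D u)) (Far D u) := by
  rw [Set.disjoint_left]
  rintro y (rfl | hy) hy'
  exacts [hy'.2 (Commute.refl _), hy'.2 hy.2.2]

theorem Is23.card_far (h : Is23 D1) {u : X} (hu : u ∈ D1) : (Far D1 u).ncard = 28160 := by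
  have := h.card_class
  rw [← insert_union_far hu, Set.ncard_union_eq disjoint_far, Set.ncard_insert_of_notMem (fun e => e.2.1 rfl),
    h.card_nb hu] at this
  omega

/-- Counting the pairs of a relation between two finite sets in both ways. -/
theorem double_count {A B : Type*} [Finite A] [Finite B] {S : Set A} {T : Set B} (R : A → B → Prop) {k m : ℕ}
    (hk : ∀ a ∈ S, {b | b ∈ T ∧ R a b}.ncard = k) (hm : ∀ b ∈ T, {a | a ∈ S ∧ R a b}.ncard = m) :
    S.ncard * k = T.ncard * m := by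
  classical
  obtain ⟨s, rfl⟩ := S.toFinite.exists_finset_coe
  obtain ⟨t, rfl⟩ := T.toFinite.exists_finset_coe
  simp only [Set.ncard_coe_finset, Finset.mem_coe] at hk hm ⊢
  have h1 : ∀ a ∈ s, (t.filter fun b => R a b).card = k := fun a ha => by
    rw [← hk a ha, ← Set.ncard_coe_finset, Finset.coe_filter]
  have h2 : ∀ b ∈ t, (s.filter fun a => R a b).card = m := fun b hb => by
    rw [← hm b hb, ← Set.ncard_coe_finset, Finset.coe_filter]
  exact Finset.card_mul_eq_card_mul R (fun a ha => h1 a ha) (fun b hb => h2 b hb)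

theorem Is23.card_common (h : Is23 D1) {u v : X} (hu : u ∈ D1) (hv : v ∈ Far D1 u) :
    (Nb D1 u ∩ Nb D1 v).ncard = 351 := by
  have hw : ∃ a ∈ D1, ∃ b ∈ D1, a ≠ b ∧ Commute a b := by
    obtain ⟨y, hy⟩ := Set.nonempty_of_ncard_ne_zero (s := Nb D1 u) (by rw [h.card_nb hu]; norm_num)
    exact ⟨u, hu, y, hy.1, hy.2.1.symm, hy.2.2⟩
  have hconst : ∀ b ∈ Far D1 u,
      {a | a ∈ Nb D1 u ∧ b ∈ Nb D1 a}.ncard = (Nb D1 u ∩ Nb D1 v).ncard := by
    intro b hb
    obtain ⟨g, hg, hgb⟩ := prim_trans_noncommuting h.group h.prim hw hu b hb.1 v hv.1 hb.2 hv.2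
    have hgu : g * u * g⁻¹ = u := conj_eq_self_of_commute (commute_of_mem_commClosure hg)
    have hset : {a | a ∈ Nb D1 u ∧ b ∈ Nb D1 a} = Nb D1 u ∩ Nb D1 b := Set.ext fun a =>
      ⟨fun ⟨h1, h2⟩ => ⟨h1, h1.1, h2.2.1.symm, h2.2.2.symm⟩,
        fun ⟨h1, h2⟩ => ⟨h1, hb.1, h2.2.1.symm, h2.2.2.symm⟩⟩
    have himg : (fun a => g * a * g⁻¹) '' (Nb D1 u ∩ Nb D1 b) = Nb D1 u ∩ Nb D1 v := by
      refine Set.Subset.antisymm ?_ fun a ha => ?_
      · rintro _ ⟨a, ⟨h1, h2⟩, rfl⟩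
        exact ⟨hgu ▸ nb_conj h.group g h1, hgb ▸ nb_conj h.group g h2⟩
      · refine ⟨g⁻¹ * a * g, ⟨?_, ?_⟩, by group⟩
        · have := nb_conj h.group g⁻¹ ha.1
          rwa [inv_inv, show g⁻¹ * u * g = u by (conv_lhs => rw [← hgu]); group] at this
        · have := nb_conj h.group g⁻¹ ha.2
          rwa [inv_inv, show g⁻¹ * v * g = b by rw [← hgb]; group] at this
    rw [hset, ← himg, Set.ncard_image_of_injective _ fun a c e => mul_left_cancel (mul_right_cancel e)]
  have hk : ∀ a ∈ Nb D1 u, {b | b ∈ Far D1 u ∧ b ∈ Nb D1 a}.ncard = 2816 := by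
    intro a ha
    have hua : u ∈ Nb D1 a := ⟨hu, ha.2.1.symm, ha.2.2.symm⟩
    have e : Nb D1 a = insert u (Nb D1 u ∩ Nb D1 a) ∪ {b | b ∈ Far D1 u ∧ b ∈ Nb D1 a} := by
      refine Set.Subset.antisymm (fun b hb => ?_) ?_
      · by_cases hc : Commute u b
        · by_cases e : b = u
          exacts [Or.inl (Or.inl e), Or.inl (Or.inr ⟨⟨hb.1, e, hc⟩, hb⟩)]
        · exact Or.inr ⟨⟨hb.1, hc⟩, hb⟩
      · rintro b ((rfl | hb) | hb)
        exacts [hua, hb.2, hb.2]
    have hd : Disjoint (insert u (Nb D1 u ∩ Nb D1 a)) {b | b ∈ Far D1 u ∧ b ∈ Nb D1 a} :=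
      Set.disjoint_of_subset (Set.insert_subset_insert Set.inter_subset_left) (fun b hb => hb.1) disjoint_far
    have := h.card_nb ha.1
    rw [e, Set.ncard_union_eq hd, Set.ncard_insert_of_notMem (fun e => e.1.2.1 rfl), h.card_pair hu ha] at this
    omega
  have := double_count (fun a b => b ∈ Nb D1 a) hk hconst
  rw [h.card_nb hu, h.card_far hu] at this
  omega

theorem Is23.closure_nb (h : Is23 D1) {d : X} (hd : d ∈ D1) :
    Subgroup.closure (Nb D1 d) = Subgroup.centralizer ({d} : Set X) :=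
  (FischerUnique23.centralizer_facts h.group h.prim h.type hd).1

/-- The joint centraliser of a non-commuting pair and the transpositions centralised by it. -/
theorem Is23.pair (h : Is23 D1) {a d : X} (ha : a ∈ D1) (hd : d ∈ Far D1 a) :
    Subgroup.closure (Nb D1 a ∩ Nb D1 d) = Subgroup.centralizer ({a, d} : Set X) ∧
    Nat.card ↥(Subgroup.closure (Nb D1 a ∩ Nb D1 d)) = 4585351680 ∧
    IsSimpleGroup ↥(Subgroup.closure (Nb D1 a ∩ Nb D1 d)) ∧
    (∀ u ∈ D1, (∀ y ∈ Nb D1 a ∩ Nb D1 d, Commute u y) → u = a ∨ u = d ∨ u = a * d * a) ∧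
    ∃ u ∈ Nb D1 a ∩ Nb D1 d, ∃ v ∈ Nb D1 a ∩ Nb D1 d, u ≠ v ∧ Commute u v := by
  obtain ⟨T, hTD, rfl, rfl⟩ := exists_frame_noncomm h.group h.prim h.type ha hd.1 hd.2
  have hiff : ∀ w, T w ∈ D1 ↔ w ∈ Fi23.D := fun w => by
    rw [← hTD]; exact T.injective.mem_set_image
  have hgen : ∀ i ∈ FischerUnique23.om7Gens,
      T (Setup.gen FT i) ∈ Nb D1 (T Fi23.z) ∩ Nb D1 (T (Setup.gen FT 9)) := by
    intro i hi
    obtain ⟨h1, h2, h3⟩ := FischerUnique23.gen_nb i (FischerUnique23.om7Gens_lt i hi)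
    refine ⟨⟨(hiff _).2 h1, fun e => h2 (T.injective e), h3.map T.toMonoidHom⟩,
      (hiff _).2 h1, fun e => ?_, ((FischerUnique23.gen_comm_nine hi).symm).map T.toMonoidHom⟩
    have e' : Setup.gen FT i = FischerUnique23.gT 9 := T.injective e
    exact nine_not_commute (e' ▸ h3)
  have hCm : FischerUnique23.C1.map T.toMonoidHom =
      Subgroup.centralizer ({T Fi23.z, T (Setup.gen FT 9)} : Set X) := by
    ext x
    obtain ⟨w, rfl⟩ := T.surjective x
    simp only [Subgroup.mem_map_equiv, T.symm_apply_apply, Subgroup.mem_centralizer_iff, FischerUnique23.C1,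
      Set.forall_mem_insert, Set.mem_singleton_iff, forall_eq, ← map_mul, T.injective.eq_iff]
  have hK : Subgroup.closure (Nb D1 (T Fi23.z) ∩ Nb D1 (T (Setup.gen FT 9))) =
      FischerUnique23.C1.map T.toMonoidHom := by
    refine le_antisymm ?_ ?_
    · rw [hCm, Subgroup.closure_le]
      rintro y ⟨h1, h2⟩
      rw [SetLike.mem_coe, Subgroup.mem_centralizer_iff]
      rintro v (rfl | rfl)
      exacts [h1.2.2.eq, h2.2.2.eq]
    · rw [FischerUnique23.C1_eq, FischerUnique23.K1, MonoidHom.map_closure, Subgroup.closure_le]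
      rintro _ ⟨_, ⟨i, hi, rfl⟩, rfl⟩
      exact Subgroup.subset_closure (hgen i hi)
  obtain ⟨hcard, ⟨ι⟩⟩ := FischerUnique23.K1_iso
  obtain ⟨e⟩ : Nonempty (FischerUnique23.K1 ≃* ↥(FischerUnique23.C1.map T.toMonoidHom)) :=
    ⟨(MulEquiv.subgroupCongr FischerUnique23.C1_eq.symm).trans (MulEquiv.subgroupMap T FischerUnique23.C1)⟩
  refine ⟨hK.trans hCm, ?_, ?_, ?_, ?_⟩
  · rw [hK, ← Nat.card_congr e.toEquiv, hcard]
  · rw [hK]
    have hsimp := Cfsg.Agent.Orth.pomega_congr (Cfsg.Agent.Orth.qOdd_nondeg (F := ZMod 3) (by decide) 3)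
      (show 7 ≤ Fintype.card (Unit ⊕ (Fin 3 ⊕ Fin 3)) by simp)
    rw [Cfsg.Agent.Orth.coe_qOdd] at hsimp
    exact (e.symm.trans ι).isSimpleGroup_congr.2 hsimp
  · intro u hu hall
    obtain ⟨w, rfl⟩ := T.surjective u
    rcases FischerUnique23.centralizes_K1 ((hiff w).1 hu) fun i hi => by
        simpa using ((hall _ (hgen i hi)).symm.map T.symm.toMonoidHom) with e | e | e
    · exact Or.inl (congrArg T e)
    · exact Or.inr (Or.inl (congrArg T e))
    · refine Or.inr (Or.inr ?_)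
      rw [e, map_mul, map_mul, (FischerUnique23.product_facts h.group ha hd.1 hd.2).2.2.1]
  · have h02 := Fi23.word_one comm_zero_two.1
    simp only [wprod, List.map_cons, List.map_nil, List.prod_cons, List.prod_nil, mul_one] at h02
    refine ⟨_, hgen 0 (by decide), _, hgen 2 (by decide), fun e => comm_zero_two.2 ?_, ?_⟩
    · have e' := T.injective e
      have hd := congrArg (fun g => (Out23.hm g (⟨gptB, by decide⟩ : Fin 31671) : ℕ)) e'
      simpa only [Out23.hom_gen_val (show 0 < 10 by norm_num), Out23.hom_gen_val (show 2 < 10 by norm_num)] using hd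
    · exact ((Fischer.commute_iff_sq_eq_one (Setup.gen_invol FT 0) (Setup.gen_invol FT 2)).2
        (by rw [pow_two, mul_assoc]; exact h02)).map T.toMonoidHom

/-- Every automorphism is inner. -/
theorem Is23.inner (h : Is23 D1) (φ : MulAut X) : ∃ x : X, ∀ y, φ y = x * y * x⁻¹ := by
  obtain ⟨Φ, -⟩ := exists_iso h.group h.prim h.type
  haveI := Fi23.order_facts.1
  have hsub := Out23.card_out
  have htop : Cfsg.Inn (Setup.G FT) = ⊤ := Subgroup.index_eq_one.1 (by rw [Subgroup.index_eq_card]; exact hsub)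
  obtain ⟨g, hg⟩ : ((Φ.trans φ).trans Φ.symm : MulAut (Setup.G FT)) ∈ Cfsg.Inn (Setup.G FT) :=
    htop.ge (Subgroup.mem_top _)
  refine ⟨Φ g, fun y => ?_⟩
  obtain ⟨w, rfl⟩ := Φ.surjective y
  have := congrArg Φ (DFunLike.congr_fun hg w)
  simpa [MulAut.conj_apply] using this.symm

/-- Stem extensions are trivial. -/
theorem Is23.stem (h : Is23 D1) {E : Type*} [Group E] [Finite E] (σ : E →* X) (hs : Function.Surjective σ)
    (hz : σ.ker ≤ Subgroup.center E) (hc : σ.ker ≤ commutator E) : σ.ker = ⊥ := by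
  obtain ⟨Φ, -⟩ := exists_iso h.group h.prim h.type
  obtain ⟨e, ρ, hρ⟩ : ∃ (e : Shrink.{0} E ≃* E) (ρ : Shrink.{0} E →* Setup.G FT),
      ∀ x, ρ x = Φ.symm (σ (e x)) :=
    ⟨Shrink.mulEquiv, Φ.symm.toMonoidHom.comp (σ.comp Shrink.mulEquiv.toMonoidHom), fun x => rfl⟩
  have hker : ∀ x, x ∈ ρ.ker ↔ e x ∈ σ.ker := fun x => by
    rw [MonoidHom.mem_ker, MonoidHom.mem_ker, hρ, MulEquiv.map_eq_one_iff]
  have hb := Mult23.ker_eq_bot (σ := ρ) (fun x hx => Subgroup.mem_center_iff.2 fun y => e.injective (by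
      rw [map_mul, map_mul]; exact Subgroup.mem_center_iff.1 (hz ((hker x).1 hx)) (e y)))
    (fun g => by
      obtain ⟨y, hy⟩ := hs (Φ g)
      exact ⟨e.symm y, by rw [hρ, e.apply_symm_apply, hy, Φ.symm_apply_apply]⟩)
    (fun x hx => by
      have h1 : (commutator E).map e.symm.toMonoidHom = commutator (Shrink.{0} E) := by
        rw [commutator_def, commutator_def, Subgroup.map_commutator,
          Subgroup.map_top_of_surjective e.symm.toMonoidHom e.symm.surjective]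
      rw [← h1]
      exact ⟨e x, hc ((hker x).1 hx), e.symm_apply_apply x⟩)
  rw [eq_bot_iff]
  intro x hx
  have h2 : e.symm x ∈ ρ.ker := (hker _).2 (by rwa [e.apply_symm_apply])
  rw [hb, Subgroup.mem_bot] at h2
  rw [Subgroup.mem_bot, ← e.apply_symm_apply x, h2, map_one]

end Cfsg.Agent.FischerUnique24
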