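import Cfsg.Agent.Lib.FischerUnique24.Local
import Cfsg.Agent.Lib.FischerUnique24.Model
import Cfsg.Agent.S0293

/-!
Groups of type M(24): charts of the neighbourhoods, centralisers of transpositions and their parity.
-/

set_option autoImplicit false

namespace Cfsg.Agent.FischerUnique24

open Cfsg.Agent.Fischer
open Cfsg.Agent.Fischer.Factor
open scoped commutatorElement

variable {G X : Type*} [Group G] [Group X] {D : Set G} {D1 : Set X}

/-- The group of the neighbours. -/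
def Hd (D : Set G) (t : G) : Subgroup G := Subgroup.closure (Nb D t)

/-- A map of the group of the neighbours of `t` onto the lower level. -/
structure IsChart (D : Set G) (D1 : Set X) (t : G) (f : G → X) : Prop where
  map_mul : ∀ x ∈ Hd D t, ∀ y ∈ Hd D t, f (x * y) = f x * f y
  surj : ∀ z, ∃ x ∈ Hd D t, f x = z
  ker : ∀ x ∈ Hd D t, f x = 1 ↔ ∀ y ∈ Nb D t, Commute x y
  mem : ∀ y ∈ Nb D t, f y ∈ D1
  lift : ∀ z ∈ D1, ∃ y ∈ Nb D t, f y = z
  inj : ∀ y ∈ Nb D t, ∀ y' ∈ Nb D t, f y = f y' → y = y'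
  comm : ∀ y ∈ Nb D t, ∀ y' ∈ Nb D t, Commute (f y) (f y') ↔ Commute y y'

namespace IsChart

variable {t : G} {f : G → X}

theorem map_one (h : IsChart D D1 t f) : f 1 = 1 := by
  have := h.map_mul 1 (one_mem _) 1 (one_mem _)
  rw [one_mul] at this
  exact left_eq_mul.1 this

theorem map_inv (h : IsChart D D1 t f) {x : G} (hx : x ∈ Hd D t) : f x⁻¹ = (f x)⁻¹ := by
  refine eq_inv_of_mul_eq_one_left ?_
  rw [← h.map_mul _ (inv_mem hx) _ hx, inv_mul_cancel, h.map_one]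

theorem nb_inter (h : IsChart D D1 t f) {u : G} (hu : u ∈ Nb D t) :
    f '' (Nb D t ∩ Nb D u) = Nb D1 (f u) := by
  refine Set.Subset.antisymm ?_ fun z hz => ?_
  · rintro _ ⟨y, ⟨h1, h2⟩, rfl⟩
    exact ⟨h.mem y h1, fun e => h2.2.1 (h.inj y h1 u hu e), (h.comm u hu y h1).2 h2.2.2⟩
  · obtain ⟨y, hy, rfl⟩ := h.lift z hz.1
    exact ⟨y, ⟨hy, hy.1, fun e => hz.2.1 (congrArg f e), (h.comm u hu y hy).1 hz.2.2⟩, rfl⟩

theorem nb_inter₂ (h : IsChart D D1 t f) {u v : G} (hu : u ∈ Nb D t) (hv : v ∈ Nb D t) :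
    f '' (Nb D t ∩ Nb D u ∩ Nb D v) = Nb D1 (f u) ∩ Nb D1 (f v) := by
  rw [← h.nb_inter hu, ← h.nb_inter hv]
  refine Set.Subset.antisymm ?_ ?_
  · rintro _ ⟨y, ⟨⟨h1, h2⟩, h3⟩, rfl⟩
    exact ⟨⟨y, ⟨h1, h2⟩, rfl⟩, ⟨y, ⟨h1, h3⟩, rfl⟩⟩
  · rintro _ ⟨⟨y, ⟨h1, h2⟩, rfl⟩, ⟨w, ⟨g1, g3⟩, e⟩⟩
    rw [h.inj w g1 y h1 e] at g3
    exact ⟨y, ⟨⟨h1, h2⟩, g3⟩, rfl⟩

/-- The image of a generated subgroup. -/
theorem exists_of_mem_closure (h : IsChart D D1 t f) {S : Set G} (hS : S ⊆ Hd D t) {z : X}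
    (hz : z ∈ Subgroup.closure (f '' S)) : ∃ x ∈ Subgroup.closure S, x ∈ Hd D t ∧ f x = z := by
  induction hz using Subgroup.closure_induction with
  | mem y hy =>
    obtain ⟨x, hx, rfl⟩ := hy
    exact ⟨x, Subgroup.subset_closure hx, hS hx, rfl⟩
  | one => exact ⟨1, one_mem _, one_mem _, h.map_one⟩
  | mul a b _ _ ha hb =>
    obtain ⟨x, hx, hx', rfl⟩ := ha
    obtain ⟨y, hy, hy', rfl⟩ := hb
    exact ⟨x * y, mul_mem hx hy, mul_mem hx' hy', h.map_mul x hx' y hy'⟩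
  | inv a _ ha =>
    obtain ⟨x, hx, hx', rfl⟩ := ha
    exact ⟨x⁻¹, inv_mem hx, inv_mem hx', h.map_inv hx'⟩

end IsChart

/-- A group of type M(24) over its quotient. -/
structure Ctx (D : Set G) (D1 : Set X) : Prop where
  group : Cfsg.IsThreeTranspositionGroup D
  prim : Cfsg.IsPrimitiveUnderConj D
  center : Subgroup.center G = ⊥
  low : Is23 D1
  chart : ∀ t ∈ D, ∃ f : G → X, IsChart D D1 t f
  frame : ∃ a ∈ D, ∃ b ∈ D, ¬ Commute a b ∧
    Nat.card (↥(Subgroup.closure (Nb D a ∩ Nb D b)) ⧸ Subgroup.center ↥(Subgroup.closure (Nb D a ∩ Nb D b))) =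
      29713078886400

theorem exists_ctx [Finite G] (hT : Cfsg.IsThreeTranspositionGroup D)
    (hprim : Cfsg.IsPrimitiveUnderConj D) (ht : Cfsg.IsOfTypeM24 G D) :
    ∃ d ∈ D, Ctx D (img D d) := by
  classical
  obtain ⟨d, hd, hT1, hp1, h23⟩ := local_m23 hT hprim ht
  have hfree : TwinFree D := fun x v hx hs => prim_sameComm_trivial hT hprim hx hs
  refine ⟨d, hd, hT, hprim, ht.1, ⟨hT1, hp1, h23⟩, fun t htD => ?_, ?_⟩
  rotate_left
  · obtain ⟨-, a, ha, b, hb, hab, -, N, hN, ⟨eN⟩, ⟨eS⟩⟩ := ht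
    refine ⟨a, ha, b, hb, hab, ?_⟩
    haveI := hN
    have h8 := S0293.result (F := ZMod 3) (q := 3) (ZMod.card 3) 4 le_rfl
    rw [← Nat.card_congr eN.toEquiv] at h8
    norm_num [Finset.prod_range_succ, -Nat.card_eq_fintype_card] at h8
    have hS : Nat.card (Equiv.Perm (Fin 3)) = 6 := by rw [Nat.card_perm, Nat.card_fin]; rfl
    rw [← Nat.card_congr eS.toEquiv] at hS
    refine (Subgroup.card_eq_card_quotient_mul_card_subgroup N).trans ?_
    rw [hS]
    omega
  obtain ⟨g, hg⟩ := hprim.1 d hd t htD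
  have hnb : ∀ {x}, x ∈ Nb D t → g⁻¹ * x * g ∈ Nb D d := fun {x} hx => by
    have := nb_conj hT g⁻¹ hx
    rwa [inv_inv, show g⁻¹ * t * g = d by rw [← hg]; group] at this
  have hnb' : ∀ {x}, x ∈ Nb D d → g * x * g⁻¹ ∈ Nb D t := fun {x} hx => hg ▸ nb_conj hT g hx
  have hH : ∀ {x}, x ∈ Hd D t → g⁻¹ * x * g ∈ Subgroup.closure (Nb D d) := by
    intro x hx
    unfold Hd at hx
    induction hx using Subgroup.closure_induction with
    | mem y hy => exact Subgroup.subset_closure (hnb hy)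
    | one => simp
    | mul a b _ _ ha hb => simpa [mul_assoc] using mul_mem ha hb
    | inv a _ ha => simpa [mul_assoc] using inv_mem ha
  have hH' : ∀ {x}, x ∈ Subgroup.closure (Nb D d) → g * x * g⁻¹ ∈ Hd D t := by
    intro x hx
    induction hx using Subgroup.closure_induction with
    | mem y hy => exact Subgroup.subset_closure (hnb' hy)
    | one => simp
    | mul a b _ _ ha hb => simpa [mul_assoc] using mul_mem ha hb
    | inv a _ ha => simpa [mul_assoc] using inv_mem ha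
  obtain ⟨f, hf⟩ : ∃ f : G → Q D d, ∀ x (h : x ∈ Subgroup.closure (Nb D d)),
      f (g * x * g⁻¹) = QuotientGroup.mk ⟨x, h⟩ :=
    ⟨fun y => if h : g⁻¹ * y * g ∈ Subgroup.closure (Nb D d) then QuotientGroup.mk ⟨_, h⟩ else 1,
      fun x h => by
        have e : g⁻¹ * (g * x * g⁻¹) * g = x := by group
        simp only [e, dif_pos h]⟩
  have hf' : ∀ {y} (hy : y ∈ Hd D t), f y = QuotientGroup.mk ⟨_, hH hy⟩ := fun {y} hy => by
    rw [← hf _ (hH hy)]
    congr 1
    group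
  have hsub : ∀ {y}, y ∈ Nb D t → y ∈ Hd D t := fun hy => Subgroup.subset_closure hy
  refine ⟨f, ⟨fun x hx y hy => ?_, fun z => ?_, fun x hx => ?_, fun y hy => ?_, fun z hz => ?_,
    fun y hy y' hy' e => ?_, fun y hy y' hy' => ?_⟩⟩
  · rw [hf' (mul_mem hx hy), hf' hx, hf' hy, ← QuotientGroup.mk_mul]
    exact congrArg _ (Subtype.ext (by simp [mul_assoc]))
  · obtain ⟨⟨x, hx⟩, rfl⟩ := QuotientGroup.mk_surjective z
    exact ⟨_, hH' hx, hf x hx⟩
  · rw [hf' hx, mk_eq_one_iff]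
    constructor
    · intro h y hy
      have := (h _ (hnb hy))
      rw [← commute_conj_iff g, show g * (g⁻¹ * x * g) * g⁻¹ = x by group,
        show g * (g⁻¹ * y * g) * g⁻¹ = y by group] at this
      exact this
    · intro h y hy
      rw [← commute_conj_iff g, show g * (g⁻¹ * x * g) * g⁻¹ = x by group]
      exact h _ (hnb' hy)
  · rw [hf' (hsub hy)]
    exact ⟨_, hnb hy, rfl⟩
  · obtain ⟨x, hx, rfl⟩ := img_lift hz
    exact ⟨_, hnb' hx, hf _ x.2⟩
  · rw [hf' (hsub hy), hf' (hsub hy')] at e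
    have := congrArg Subtype.val (img_inj hT hprim.1 hfree hd (x := ⟨_, hH (hsub hy)⟩)
      (y := ⟨_, hH (hsub hy')⟩) (hnb hy) (hnb hy') e)
    exact mul_left_cancel (mul_right_cancel this)
  · rw [hf' (hsub hy), hf' (hsub hy'), mk_commute_iff hT.1 (hnb hy).1 (hnb hy').1]
    show Commute (g⁻¹ * y * g) (g⁻¹ * y' * g) ↔ _
    rw [← commute_conj_iff g, show g * (g⁻¹ * y * g) * g⁻¹ = y by group,
      show g * (g⁻¹ * y' * g) * g⁻¹ = y' by group]

variable [Finite G] [Finite X]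

namespace Ctx

theorem card_nb (C : Ctx D D1) {t : G} (ht : t ∈ D) : (Nb D t).ncard = 31671 := by
  obtain ⟨f, hf⟩ := C.chart t ht
  have e : f '' Nb D t = D1 := Set.Subset.antisymm (by rintro _ ⟨y, hy, rfl⟩; exact hf.mem y hy)
    fun z hz => hf.lift z hz
  rw [← C.low.card_class, ← e, Set.InjOn.ncard_image fun a ha b hb => hf.inj a ha b hb]

theorem card_edge (C : Ctx D D1) {t u : G} (ht : t ∈ D) (hu : u ∈ Nb D t) :
    (Nb D t ∩ Nb D u).ncard = 3510 := by
  obtain ⟨f, hf⟩ := C.chart t ht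
  rw [← C.low.card_nb (hf.mem u hu), ← hf.nb_inter hu,
    Set.InjOn.ncard_image fun a ha b hb => hf.inj a ha.1 b hb.1]

theorem card_triangle (C : Ctx D D1) {t u v : G} (ht : t ∈ D) (hu : u ∈ Nb D t) (hv : v ∈ Nb D t)
    (hv' : v ∈ Nb D u) : (Nb D t ∩ Nb D u ∩ Nb D v).ncard = 693 := by
  obtain ⟨f, hf⟩ := C.chart t ht
  rw [← C.low.card_pair (hf.mem u hu) (v := f v) (hf.nb_inter hu ▸ ⟨v, ⟨hv, hv'⟩, rfl⟩),
    ← hf.nb_inter₂ hu hv, Set.InjOn.ncard_image fun a ha b hb => hf.inj a ha.1.1 b hb.1.1]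

theorem card_angle (C : Ctx D D1) {t u v : G} (ht : t ∈ D) (hu : u ∈ Nb D t) (hv : v ∈ Nb D t)
    (hv' : ¬ Commute u v) : (Nb D t ∩ Nb D u ∩ Nb D v).ncard = 351 := by
  obtain ⟨f, hf⟩ := C.chart t ht
  rw [← C.low.card_common (hf.mem u hu) (v := f v) ⟨hf.mem v hv, fun h => hv' ((hf.comm u hu v hv).1 h)⟩,
    ← hf.nb_inter₂ hu hv, Set.InjOn.ncard_image fun a ha b hb => hf.inj a ha.1.1 b hb.1.1]

theorem nb_nonempty (C : Ctx D D1) {t : G} (ht : t ∈ D) : (Nb D t).Nonempty :=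
  Set.nonempty_of_ncard_ne_zero (by rw [C.card_nb ht]; norm_num)

theorem has_pair (C : Ctx D D1) : ∃ a ∈ D, ∃ b ∈ D, a ≠ b ∧ Commute a b := by
  obtain ⟨a, ha, -⟩ := C.prim.2.1
  obtain ⟨b, hb⟩ := C.nb_nonempty ha
  exact ⟨a, ha, b, hb.1, hb.2.1.symm, hb.2.2⟩

theorem exists_far (C : Ctx D D1) {t : G} (ht : t ∈ D) : ∃ b ∈ D, ¬ Commute t b := by
  by_contra h
  push Not at h
  have : t ∈ Subgroup.center G := mem_center_of_commute_gen C.group.2.2 h
  rw [C.center, Subgroup.mem_bot] at this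
  exact TSet.ne_one C.group.1 ht this

/-- Non-commuting pairs are conjugate. -/
theorem trans_far (C : Ctx D D1) {a b p q : G} (ha : a ∈ D) (hb : b ∈ D) (hab : ¬ Commute a b)
    (hp : p ∈ D) (hq : q ∈ D) (hpq : ¬ Commute p q) :
    ∃ g : G, g * a * g⁻¹ = p ∧ g * b * g⁻¹ = q := by
  obtain ⟨g, hg⟩ := C.prim.1 a ha p hp
  obtain ⟨m, hm, hmq⟩ := prim_trans_noncommuting C.group C.prim C.has_pair hp (g * b * g⁻¹)
    (C.group.2.1 g b hb) q hq (fun h => hab (by rwa [← hg, commute_conj_iff] at h)) hpq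
  refine ⟨m * g, ?_, ?_⟩
  · rw [show m * g * a * (m * g)⁻¹ = m * (g * a * g⁻¹) * m⁻¹ by group, hg]
    exact conj_eq_self_of_commute (commute_of_mem_commClosure hm)
  · rw [← hmq]; group

/-- Commuting pairs are conjugate. -/
theorem trans_near (C : Ctx D D1) {a b p q : G} (ha : a ∈ D) (hb : b ∈ Nb D a)
    (hp : p ∈ D) (hq : q ∈ Nb D p) : ∃ g : G, g * a * g⁻¹ = p ∧ g * b * g⁻¹ = q := by
  obtain ⟨g, hg⟩ := C.prim.1 a ha p hp
  obtain ⟨m, hm, hmq⟩ := prim_trans_commuting C.group C.prim C.has_pair hp (g * b * g⁻¹)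
    (hg ▸ nb_conj C.group g hb) q hq
  refine ⟨m * g, ?_, ?_⟩
  · rw [show m * g * a * (m * g)⁻¹ = m * (g * a * g⁻¹) * m⁻¹ by group, hg]
    exact conj_eq_self_of_commute (commute_of_mem_closure_nb hm).symm
  · rw [← hmq]; group

theorem exists_common (C : Ctx D D1) {t b : G} (ht : t ∈ D) (hb : b ∈ D) (h : ¬ Commute t b) :
    ∃ s, s ∈ Nb D t ∧ s ∈ Nb D b := by
  obtain ⟨f, hf⟩ := C.chart t ht
  obtain ⟨u, hu⟩ := C.nb_nonempty ht
  obtain ⟨V, hV⟩ := Set.nonempty_of_ncard_ne_zero (s := Far D1 (f u)) (by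
    rw [C.low.card_far (hf.mem u hu)]; norm_num)
  obtain ⟨v, hv, rfl⟩ := hf.lift V hV.1
  obtain ⟨g, hgt, hgb⟩ := C.trans_far hu.1 hv.1 (fun h' => hV.2 ((hf.comm u hu v hv).2 h')) ht hb h
  have h1 := nb_conj C.group g (show t ∈ Nb D u from ⟨ht, hu.2.1.symm, hu.2.2.symm⟩)
  have h2 := nb_conj C.group g (show t ∈ Nb D v from ⟨ht, hv.2.1.symm, hv.2.2.symm⟩)
  rw [hgt] at h1
  rw [hgb] at h2
  exact ⟨g * t * g⁻¹, h1, h2⟩

/-- Only 1 and `t` centralise `t` and all its neighbours. -/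
theorem kernel (C : Ctx D D1) {t g : G} (ht : t ∈ D) (hgt : Commute g t)
    (hg : ∀ y ∈ Nb D t, Commute g y) : g = 1 ∨ g = t := by
  obtain ⟨b, hb, htb⟩ := C.exists_far ht
  obtain ⟨s, hst, hsb⟩ := C.exists_common ht hb htb
  obtain ⟨f, hf⟩ := C.chart s hst.1
  have hts : t ∈ Nb D s := ⟨ht, hst.2.1.symm, hst.2.2.symm⟩
  have hbs : b ∈ Nb D s := ⟨hb, hsb.2.1.symm, hsb.2.2.symm⟩
  have hfix : ∀ {x}, Commute g x → g * x * g⁻¹ = x := fun h => conj_eq_self_of_commute h
  have hb's : g * b * g⁻¹ ∈ Nb D s := by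
    have := nb_conj C.group g hbs
    rwa [hfix (hg s hst)] at this
  have hTB : ¬ Commute (f t) (f b) := fun h => htb ((hf.comm t hts b hbs).1 h)
  obtain ⟨-, -, -, h3, -⟩ := C.low.pair (hf.mem t hts) (d := f b) ⟨hf.mem b hbs, hTB⟩
  have key : ∀ Y ∈ Nb D1 (f t) ∩ Nb D1 (f b), Commute (f (g * b * g⁻¹)) Y := by
    rw [← hf.nb_inter₂ hts hbs]
    rintro _ ⟨y, ⟨⟨hys, hyt⟩, hyb⟩, rfl⟩
    refine (hf.comm _ hb's y hys).2 ?_
    have := (commute_conj_iff g b y).2 hyb.2.2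
    rwa [hfix (hg y hyt)] at this
  have hts' : t ∈ Hd D s := Subgroup.subset_closure hts
  have hbs' : b ∈ Hd D s := Subgroup.subset_closure hbs
  have htbt : t * b * t⁻¹ ∈ Nb D s := by
    have := nb_conj C.group t hbs
    rwa [conj_eq_self_of_commute hst.2.2] at this
  obtain ⟨g', hg'b, hg't, hg'n, hgg⟩ : ∃ g', Commute g' b ∧ Commute g' t ∧
      (∀ y ∈ Nb D t, Commute g' y) ∧ (g = g' ∨ g = t * g') := by
    rcases h3 _ (hf.mem _ hb's) key with e | e | e
    · exfalso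
      have e' := hf.inj _ hb's t hts e
      replace e' := e'.trans (hfix hgt).symm

      exact htb (mul_left_cancel (mul_right_cancel e') ▸ Commute.refl _)
    · exact ⟨g, mul_inv_eq_iff_eq_mul.1 (hf.inj _ hb's b hbs e), hgt, hg, Or.inl rfl⟩
    · have hsq := TSet.sq C.group.1 ht
      have hti := TSet.inv C.group.1 ht
      have e' : g * b * g⁻¹ = t * b * t⁻¹ := hf.inj _ hb's _ htbt (by
        rw [e, hf.map_mul _ (mul_mem hts' hbs') _ (inv_mem hts'), hf.map_mul _ hts' _ hbs',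
          hti])
      refine ⟨t * g, ?_, (Commute.refl t).mul_left hgt, fun y hy => hy.2.2.mul_left (hg y hy),
        Or.inr (by rw [← mul_assoc, hsq, one_mul])⟩
      refine mul_inv_eq_iff_eq_mul.1 ?_
      calc t * g * b * (t * g)⁻¹ = t * (g * b * g⁻¹) * t⁻¹ := by group
        _ = (t * t) * b * (t * t)⁻¹ := by rw [e']; group
        _ = b := by rw [hsq]; group
  have hcl : ∀ x ∈ commClosure D t, Commute g' x := by
    intro x hx
    unfold commClosure at hx
    induction hx using Subgroup.closure_induction with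
    | mem y hy =>
      by_cases e : y = t
      · exact e ▸ hg't
      · exact hg'n y ⟨hy.1, e, hy.2⟩
    | one => exact Commute.one_right _
    | mul a c _ _ h1 h2 => exact h1.mul_right h2
    | inv a _ h1 => exact h1.inv_right
  have : g' ∈ Subgroup.center G := mem_center_of_commute_gen C.group.2.2 fun y hy => by
    by_cases hc : Commute t y
    · exact hcl y (Subgroup.subset_closure ⟨hy, hc⟩)
    obtain ⟨m, hm, rfl⟩ := prim_trans_noncommuting C.group C.prim C.has_pair ht b hb y hy htb hc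
    exact ((hcl m hm).mul_right hg'b).mul_right (hcl m hm).inv_right
  rw [C.center, Subgroup.mem_bot] at this
  subst this
  simpa using hgg

theorem mem_self (C : Ctx D D1) {t : G} (ht : t ∈ D) : t ∈ Hd D t := by
  obtain ⟨s, hs⟩ := C.nb_nonempty ht
  obtain ⟨f, hf⟩ := C.chart s hs.1
  have hts : t ∈ Nb D s := ⟨ht, hs.2.1.symm, hs.2.2.symm⟩
  have hT : f t ∈ Subgroup.closure (f '' (Nb D s ∩ Nb D t)) := by
    rw [hf.nb_inter hts, C.low.closure_nb (hf.mem t hts)]
    exact Subgroup.mem_centralizer_singleton_iff.2 rfl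
  obtain ⟨x, hx, hxs, hxt⟩ := hf.exists_of_mem_closure
    (S := Nb D s ∩ Nb D t) (fun y hy => Subgroup.subset_closure hy.1) hT
  have hxH : x ∈ Hd D t := Subgroup.closure_mono Set.inter_subset_right hx
  have hts' : t ∈ Hd D s := Subgroup.subset_closure hts
  have h1 : f (x⁻¹ * t) = 1 := by
    rw [hf.map_mul _ (inv_mem hxs) _ hts', hf.map_inv hxs, hxt, inv_mul_cancel]
  have hm := mul_mem (inv_mem hxs) hts'
  rcases C.kernel hs.1 (commute_of_mem_closure_nb hm).symm ((hf.ker _ hm).1 h1) with e | e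
  · rwa [inv_mul_eq_one.1 e] at hxH
  · have e2 : x * s = t := by rw [← e, mul_inv_cancel_left]
    have h2 := mul_mem hxH (Subgroup.subset_closure hs : s ∈ Hd D t)
    rwa [e2] at h2

theorem ker_iff (C : Ctx D D1) {t : G} (ht : t ∈ D) {f : G → X} (hf : IsChart D D1 t f) {x : G}
    (hx : x ∈ Hd D t) : f x = 1 ↔ x = 1 ∨ x = t := by
  rw [hf.ker x hx]
  refine ⟨C.kernel ht (commute_of_mem_closure_nb hx).symm, ?_⟩
  rintro (rfl | rfl)
  exacts [fun y _ => Commute.one_left y, fun y hy => hy.2.2]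

theorem card_Hd (C : Ctx D D1) {t : G} (ht : t ∈ D) : Nat.card (Hd D t) = 2 * Nat.card X := by
  obtain ⟨f, hf⟩ := C.chart t ht
  let φ : Hd D t →* X := MonoidHom.mk' (fun x => f x) fun x y => hf.map_mul x x.2 y y.2
  have hs : Function.Surjective φ := fun z => by
    obtain ⟨x, hx, rfl⟩ := hf.surj z
    exact ⟨⟨x, hx⟩, rfl⟩
  have hk : (φ.ker : Set (Hd D t)) = {1, ⟨t, C.mem_self ht⟩} := by
    ext x
    simp only [SetLike.mem_coe, MonoidHom.mem_ker, Set.mem_insert_iff, Set.mem_singleton_iff]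
    exact (C.ker_iff ht hf x.2).trans
      ⟨fun h => h.imp (fun e => Subtype.ext e) (fun e => Subtype.ext e),
        fun h => h.imp (fun e => congrArg Subtype.val e) (fun e => congrArg Subtype.val e)⟩
  have h := Subgroup.card_eq_card_quotient_mul_card_subgroup φ.ker
  have hk' : Nat.card φ.ker = 2 := by
    show Nat.card ↥(φ.ker : Set (Hd D t)) = 2
    rw [hk, Nat.card_coe_set_eq,
      Set.ncard_pair (fun e => TSet.ne_one C.group.1 ht (congrArg Subtype.val e).symm)]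
  rw [Nat.card_congr (QuotientGroup.quotientKerEquivOfSurjective φ hs).toEquiv, hk'] at h

  omega

theorem centralizer (C : Ctx D D1) {t : G} (ht : t ∈ D) :
    Subgroup.centralizer ({t} : Set G) = Hd D t := by
  refine le_antisymm (fun g hg => ?_) fun g hg =>
    Subgroup.mem_centralizer_singleton_iff.2 (commute_of_mem_closure_nb hg).symm.eq
  have hgt : Commute g t := Subgroup.mem_centralizer_singleton_iff.1 hg
  have hnb : ∀ {y}, y ∈ Nb D t → g * y * g⁻¹ ∈ Nb D t := fun {y} hy => by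
    have := nb_conj C.group g hy
    rwa [conj_eq_self_of_commute hgt] at this
  obtain ⟨f, hf⟩ := C.chart t ht
  have hmem : ∀ {x}, x ∈ Hd D t → g * x * g⁻¹ ∈ Hd D t := by
    intro x hx
    unfold Hd at hx
    induction hx using Subgroup.closure_induction with
    | mem y hy => exact Subgroup.subset_closure (hnb hy)
    | one => simp
    | mul a b _ _ ha hb => simpa [mul_assoc] using mul_mem ha hb
    | inv a _ ha => simpa [mul_assoc] using inv_mem ha
  have heq : ∀ {x y}, x ∈ Hd D t → y ∈ Hd D t → f x = f y →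
      f (g * x * g⁻¹) = f (g * y * g⁻¹) := by
    intro x y hx hy e
    have h1 : f (x⁻¹ * y) = 1 := by rw [hf.map_mul _ (inv_mem hx) _ hy, hf.map_inv hx, e, inv_mul_cancel]
    rcases (C.ker_iff ht hf (mul_mem (inv_mem hx) hy)).1 h1 with h | h
    · rw [inv_mul_eq_one.1 h]
    · have hy' : y = x * t := by rw [← h, mul_inv_cancel_left]
      rw [hy', show g * (x * t) * g⁻¹ = (g * x * g⁻¹) * (g * t * g⁻¹) by group,
        conj_eq_self_of_commute hgt, hf.map_mul _ (hmem hx) _ (C.mem_self ht),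
        (C.ker_iff ht hf (C.mem_self ht)).2 (Or.inr rfl), mul_one]
  choose σ hσ hσ' using hf.surj
  obtain ⟨φ, hφ⟩ : ∃ φ : X →* X, ∀ {x}, x ∈ Hd D t → φ (f x) = f (g * x * g⁻¹) :=
    ⟨MonoidHom.mk' (fun z => f (g * σ z * g⁻¹)) fun a b => by
      rw [← hf.map_mul _ (hmem (hσ a)) _ (hmem (hσ b)),
        show g * σ a * g⁻¹ * (g * σ b * g⁻¹) = g * (σ a * σ b) * g⁻¹ by group]
      exact heq (hσ _) (mul_mem (hσ a) (hσ b)) (by rw [hσ', hf.map_mul _ (hσ a) _ (hσ b), hσ', hσ']),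
     fun {x} hx => heq (hσ _) hx (hσ' _)⟩
  have hinj : Function.Injective φ := by
    haveI := C.low.simple
    refine φ.ker_eq_bot_iff.1 (φ.normal_ker.eq_bot_or_eq_top.resolve_right fun h => ?_)
    obtain ⟨y, hy⟩ := C.nb_nonempty ht
    refine TSet.ne_one C.low.group.1 (hf.mem _ (hnb hy)) ?_
    rw [← hφ (Subgroup.subset_closure hy)]
    exact MonoidHom.mem_ker.1 (h ▸ Subgroup.mem_top _)
  obtain ⟨a, ha⟩ := C.low.inner (MulEquiv.ofBijective φ (Finite.injective_iff_bijective.1 hinj))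
  obtain ⟨h, hh, rfl⟩ := hf.surj a
  have hg' : ∀ y ∈ Nb D t, Commute (h⁻¹ * g) y := by
    intro y hy
    have hy' : y ∈ Hd D t := Subgroup.subset_closure hy
    have h2 : h * y * h⁻¹ ∈ Nb D t := by
      have := nb_conj C.group h hy
      rwa [conj_eq_self_of_commute (commute_of_mem_closure_nb hh).symm] at this
    have e := ha (f y)
    rw [MulEquiv.ofBijective_apply, hφ hy', ← hf.map_inv hh, ← hf.map_mul _ hh _ hy',
      ← hf.map_mul _ (mul_mem hh hy') _ (inv_mem hh)] at e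
    have e' := hf.inj _ (hnb hy) _ h2 e
    refine mul_inv_eq_iff_eq_mul.1 ?_
    calc h⁻¹ * g * y * (h⁻¹ * g)⁻¹ = h⁻¹ * (g * y * g⁻¹) * h := by group
      _ = y := by rw [e']; group
  have hht : Commute (h⁻¹ * g) t := ((commute_of_mem_closure_nb hh).symm.inv_left).mul_left hgt
  rcases C.kernel ht hht hg' with e | e
  · rw [← inv_mul_eq_one.1 e]; exact hh
  · rw [← mul_inv_cancel_left h g, e]
    exact mul_mem hh (C.mem_self ht)

/-- The derived subgroup of the centraliser. -/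
def Ev (t : G) : Subgroup G :=
  ⁅Subgroup.centralizer ({t} : Set G), Subgroup.centralizer ({t} : Set G)⁆

omit [Finite G] in
theorem ev_le (t : G) : Ev t ≤ Subgroup.centralizer ({t} : Set G) := Subgroup.commutator_le_self _

omit [Finite G] in
theorem ev_conj (g : G) {t x : G} (hx : x ∈ Ev t) : g * x * g⁻¹ ∈ Ev (g * t * g⁻¹) := by
  have hm : (Subgroup.centralizer ({t} : Set G)).map (MulAut.conj g).toMonoidHom =
      Subgroup.centralizer ({g * t * g⁻¹} : Set G) := by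
    ext y
    rw [Subgroup.mem_map_equiv, Subgroup.mem_centralizer_singleton_iff, Subgroup.mem_centralizer_singleton_iff,
      MulAut.conj_symm_apply]
    refine (commute_conj_iff g (g⁻¹ * y * g) t).symm.trans ?_
    rw [show g * (g⁻¹ * y * g) * g⁻¹ = y by group]
    exact Iff.rfl
  rw [Ev, ← hm, ← Subgroup.map_commutator]
  exact ⟨x, hx, rfl⟩

theorem parity (C : Ctx D D1) {t : G} (ht : t ∈ D) :
    t ∉ Ev t ∧ (∀ y ∈ Nb D t, y ∉ Ev t) ∧ (∀ g ∈ Hd D t, g ∈ Ev t ∨ t * g ∈ Ev t) ∧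
      ∀ g ∈ Hd D t, ∀ h ∈ Hd D t, g * h ∈ Ev t ↔ (g ∈ Ev t ↔ h ∈ Ev t) := by
  obtain ⟨f, hf⟩ := C.chart t ht
  set H := Hd D t
  let φ : H →* X := MonoidHom.mk' (fun x => f x) fun x y => hf.map_mul x x.2 y y.2
  have hs : Function.Surjective φ := fun z => by
    obtain ⟨x, hx, rfl⟩ := hf.surj z
    exact ⟨⟨x, hx⟩, rfl⟩
  have hcm : Ev t = (commutator H).map H.subtype := by
    rw [Ev, C.centralizer ht, commutator_def, Subgroup.map_commutator, ← MonoidHom.range_eq_map,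
      Subgroup.range_subtype]
  have hEle : Ev t ≤ H := (ev_le t).trans (C.centralizer ht).le
  have hsq := TSet.sq C.group.1 ht
  have hker : ∀ x : H, φ x = 1 ↔ (x : G) = 1 ∨ (x : G) = t := fun x => C.ker_iff ht hf x.2
  have hnot : t ∉ Ev t := by
    intro hin
    obtain ⟨x, hx, hxt⟩ := hcm ▸ hin
    have hc : φ.ker ≤ commutator H := fun y hy => by
      rcases (hker y).1 hy with e | e
      · rw [show y = 1 from Subtype.ext e]; exact one_mem _
      · rwa [show y = x from Subtype.ext (e.trans hxt.symm)]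
    have hz : φ.ker ≤ Subgroup.center H := fun y hy => Subgroup.mem_center_iff.2 fun w => Subtype.ext (by
      rcases (hker y).1 hy with e | e <;> rw [Subgroup.coe_mul, Subgroup.coe_mul, e]
      · simp
      · exact (commute_of_mem_closure_nb w.2).symm.eq)
    have hb := C.low.stem φ hs hz hc
    have : (⟨t, C.mem_self ht⟩ : H) ∈ φ.ker := (hker _).2 (Or.inr rfl)
    rw [hb, Subgroup.mem_bot] at this
    exact TSet.ne_one C.group.1 ht (congrArg Subtype.val this)
  have hcov : ∀ g ∈ H, g ∈ Ev t ∨ t * g ∈ Ev t := by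
    intro g hg
    haveI := C.low.simple
    have htop : commutator X = ⊤ := by
      refine ((Subgroup.commutator_normal (⊤ : Subgroup X) ⊤).eq_bot_or_eq_top).resolve_left fun h => ?_
      obtain ⟨y, hy⟩ := C.nb_nonempty ht
      obtain ⟨V, hV⟩ := Set.nonempty_of_ncard_ne_zero (s := Far D1 (f y)) (by
        rw [C.low.card_far (hf.mem y hy)]; norm_num)
      refine hV.2 (commutatorElement_eq_one_iff_commute.1 ?_)
      rw [← Subgroup.mem_bot, ← h]
      exact Subgroup.commutator_mem_commutator (Subgroup.mem_top _) (Subgroup.mem_top _)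
    obtain ⟨n, hn, hne⟩ : φ ⟨g, hg⟩ ∈ (commutator H).map φ := by
      rw [commutator_def, Subgroup.map_commutator, Subgroup.map_top_of_surjective φ hs, ← commutator_def, htop]
      trivial
    have h1 : φ (⟨g, hg⟩ * n⁻¹) = 1 := by rw [map_mul, map_inv, hne, mul_inv_cancel]
    have hn' : (n : G) ∈ Ev t := hcm ▸ ⟨n, hn, rfl⟩
    rcases (hker _).1 h1 with e | e <;> simp only [Subgroup.coe_mul, Subgroup.coe_inv] at e
    · exact Or.inl (by rwa [mul_inv_eq_one.1 e])
    · refine Or.inr ?_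
      rwa [mul_inv_eq_iff_eq_mul.1 e, ← mul_assoc, hsq, one_mul]
  have hop : ∀ g ∈ H, ∀ h ∈ H, g * h ∈ Ev t ↔ (g ∈ Ev t ↔ h ∈ Ev t) := by
    intro g hg h hh
    have hflip : ∀ x, t * x ∈ Ev t → x ∉ Ev t := fun x h1 h2 =>
      hnot (by simpa [mul_assoc] using mul_mem h1 (inv_mem h2))
    by_cases h1 : g ∈ Ev t
    · exact (Subgroup.mul_mem_cancel_left _ h1).trans (by simp [h1])
    by_cases h2 : h ∈ Ev t
    · exact (Subgroup.mul_mem_cancel_right _ h2).trans (by simp [h1, h2])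
    simp only [h1, h2, iff_true]
    have := mul_mem ((hcov g hg).resolve_left h1) ((hcov h hh).resolve_left h2)
    rwa [mul_assoc, ← mul_assoc g t h, (commute_of_mem_closure_nb hg).symm.eq, mul_assoc t g h, ← mul_assoc,
      hsq, one_mul] at this
  refine ⟨hnot, fun y hy hin => hnot ?_, hcov, hop⟩
  have hall : Hd D t ≤ Ev t := by
    refine (Subgroup.closure_le _).2 fun z hz => ?_
    obtain ⟨g, hg, rfl⟩ := prim_trans_commuting C.group C.prim C.has_pair ht y hy z hz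
    have := ev_conj g hin
    rwa [conj_eq_self_of_commute (commute_of_mem_closure_nb hg).symm] at this
  exact hall (C.mem_self ht)

end Ctx

end Cfsg.Agent.FischerUnique24
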