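import Cfsg.Agent.Lib.FischerUnique24.Pair

/-!
The counts in a group of type M(24), and a common neighbour for a non-commuting pair and a neighbour
of one of them.
-/

set_option autoImplicit false

namespace Cfsg.Agent.FischerUnique24

open Cfsg.Agent.Fischer
open Cfsg.Agent.Fischer.Factor

variable {G X : Type*} [Group G] [Group X] [Finite G] [Finite X] {D : Set G} {D1 : Set X}

namespace Ctx

variable (C : Ctx D D1)
include C

theorem card_com {a b : G} (hab : ¬ Commute a b) (ha : a ∈ D) (hb : b ∈ D) :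
    (Com D a b).ncard = 3240 := by
  obtain ⟨p, hp, q, hq, hpq, hcard⟩ := C.frame
  have hL := C.card_pair_cent hpq hp hq
  have hz := C.center_pair hpq hp hq
  have h := Subgroup.card_eq_card_quotient_mul_card_subgroup
    (Subgroup.center (Subgroup.closure (Com D p q)))
  rw [Subgroup.card_eq_one.2 hz, mul_one, hL] at h
  have h0 : (Com D p q).ncard * 9170703360 = 29713078886400 := h.trans hcard
  have h1 : (Com D p q).ncard = 3240 := by omega
  obtain ⟨g, hga, hgb⟩ := C.trans_far hp hq hpq ha hb hab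
  rw [← h1, ← Set.ncard_image_of_injective (Com D p q) (f := fun x => g * x * g⁻¹)
    fun x y e => mul_left_cancel (mul_right_cancel e)]
  congr 1
  refine Set.Subset.antisymm (fun y hy => ⟨g⁻¹ * y * g, ⟨?_, ?_⟩, by group⟩) ?_
  · have := nb_conj C.group g⁻¹ hy.1
    rwa [inv_inv, show g⁻¹ * a * g = p by rw [← hga]; group] at this
  · have := nb_conj C.group g⁻¹ hy.2
    rwa [inv_inv, show g⁻¹ * b * g = q by rw [← hgb]; group] at this
  · rintro _ ⟨y, hy, rfl⟩
    exact ⟨hga ▸ nb_conj C.group g hy.1, hgb ▸ nb_conj C.group g hy.2⟩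

theorem card_far {t : G} (ht : t ∈ D) : {y | y ∈ D ∧ ¬ Commute t y}.ncard = 275264 := by
  have hk : ∀ s ∈ Nb D t, {b | b ∈ {y | y ∈ D ∧ ¬ Commute t y} ∧ b ∈ Nb D s}.ncard = 28160 := by
    intro s hs
    have h1 : insert t (Nb D t ∩ Nb D s) ∪ {b | b ∈ {y | y ∈ D ∧ ¬ Commute t y} ∧ b ∈ Nb D s} = Nb D s := by
      refine Set.Subset.antisymm ?_ fun b hb => ?_
      · rintro b ((rfl | hb) | hb)
        exacts [⟨ht, hs.2.1.symm, hs.2.2.symm⟩, hb.2, hb.2]
      · by_cases hc : Commute t b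
        · by_cases e : b = t
          exacts [Or.inl (Or.inl e), Or.inl (Or.inr ⟨⟨hb.1, e, hc⟩, hb⟩)]
        · exact Or.inr ⟨⟨hb.1, hc⟩, hb⟩
    have hd : Disjoint (insert t (Nb D t ∩ Nb D s))
        {b | b ∈ {y | y ∈ D ∧ ¬ Commute t y} ∧ b ∈ Nb D s} := by
      rw [Set.disjoint_left]
      rintro b (rfl | hb) hb'
      exacts [hb'.1.2 (Commute.refl _), hb'.1.2 hb.1.2.2]
    have := C.card_nb hs.1
    rw [← h1, Set.ncard_union_eq hd, Set.ncard_insert_of_notMem (fun e => e.1.2.1 rfl),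
      C.card_edge ht hs] at this
    omega
  have hm : ∀ b ∈ {y | y ∈ D ∧ ¬ Commute t y}, {s | s ∈ Nb D t ∧ b ∈ Nb D s}.ncard = 3240 := by
    rintro b ⟨hb, htb⟩
    rw [← C.card_com htb ht hb]
    congr 1
    exact Set.ext fun s => ⟨fun ⟨h1, h2⟩ => ⟨h1, h1.1, h2.2.1.symm, h2.2.2.symm⟩,
      fun ⟨h1, h2⟩ => ⟨h1, hb, h2.2.1.symm, h2.2.2.symm⟩⟩
  have := double_count (fun s b => b ∈ Nb D s) hk hm
  rw [C.card_nb ht] at this
  omega

theorem card_class : D.ncard = 306936 := by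
  obtain ⟨t, ht, -⟩ := C.prim.2.1
  have e : insert t (Nb D t) ∪ {y | y ∈ D ∧ ¬ Commute t y} = D := by
    refine Set.Subset.antisymm ?_ fun y hy => ?_
    · rintro y ((rfl | hy) | hy)
      exacts [ht, hy.1, hy.1]
    · by_cases hc : Commute t y
      · by_cases e : y = t
        exacts [Or.inl (Or.inl e), Or.inl (Or.inr ⟨hy, e, hc⟩)]
      · exact Or.inr ⟨hy, hc⟩
  have hd : Disjoint (insert t (Nb D t)) {y | y ∈ D ∧ ¬ Commute t y} := by
    rw [Set.disjoint_left]
    rintro y (rfl | hy) hy'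
    exacts [hy'.2 (Commute.refl _), hy'.2 hy.2.2]
  rw [← e, Set.ncard_union_eq hd, Set.ncard_insert_of_notMem (fun h => h.2.1 rfl), C.card_nb ht,
    C.card_far ht]

theorem card_group : Nat.card G = 306936 * (2 * 4089470473293004800) := by
  obtain ⟨t, ht, -⟩ := C.prim.2.1
  have hk : ∀ g ∈ (Set.univ : Set G), {y | y ∈ D ∧ g * t * g⁻¹ = y}.ncard = 1 := fun g _ => by
    rw [show {y | y ∈ D ∧ g * t * g⁻¹ = y} = {g * t * g⁻¹} from Set.ext fun y =>
      ⟨fun h => h.2.symm, fun h => ⟨h ▸ C.group.2.1 g t ht, h.symm⟩⟩, Set.ncard_singleton]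
  have hm : ∀ y ∈ D, {g | g ∈ (Set.univ : Set G) ∧ g * t * g⁻¹ = y}.ncard = 2 * 4089470473293004800 := by
    intro y hy
    obtain ⟨k, hky⟩ := C.prim.1 t ht y hy
    have : {g | g ∈ (Set.univ : Set G) ∧ g * t * g⁻¹ = y} =
        (k * ·) '' (Subgroup.centralizer ({t} : Set G) : Set G) := by
      refine Set.Subset.antisymm (fun g hg => ⟨k⁻¹ * g, ?_, mul_inv_cancel_left k g⟩) ?_
      · refine Subgroup.mem_centralizer_singleton_iff.2 (mul_inv_eq_iff_eq_mul.1 ?_)
        calc k⁻¹ * g * t * (k⁻¹ * g)⁻¹ = k⁻¹ * (g * t * g⁻¹) * k := by group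
          _ = t := by rw [hg.2, ← hky]; group
      · rintro _ ⟨r, hr, rfl⟩
        refine ⟨Set.mem_univ _, ?_⟩
        have hrt := Subgroup.mem_centralizer_singleton_iff.1 hr
        calc k * r * t * (k * r)⁻¹ = k * (r * t * r⁻¹) * k⁻¹ := by group
          _ = y := by rw [hrt, mul_inv_cancel_right, hky]
    rw [this, Set.ncard_image_of_injective _ (mul_right_injective k), ← Nat.card_coe_set_eq,
      SetLike.coe_sort_coe, C.centralizer ht, C.card_Hd ht, C.low.card_group]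
  have := double_count (fun g y => g * t * g⁻¹ = y) hk hm
  rwa [mul_one, Set.ncard_univ, C.card_class] at this

/-- A non-commuting pair and a neighbour of one of them have a common neighbour. -/
theorem exists_com_nb {a b z : G} (hab : ¬ Commute a b) (ha : a ∈ D) (hb : b ∈ D) (hz : z ∈ Nb D a) :
    ∃ u ∈ Com D a b, u ∈ Nb D z := by
  classical
  obtain ⟨W, hW⟩ := (Nb D a).toFinite.exists_finset_coe
  obtain ⟨F, hF⟩ := (Com D a b).toFinite.exists_finset_coe
  have mW : ∀ {x}, x ∈ W ↔ x ∈ Nb D a := fun {x} => by rw [← Finset.mem_coe, hW]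
  have mF : ∀ {x}, x ∈ F ↔ x ∈ Com D a b := fun {x} => by rw [← Finset.mem_coe, hF]
  have cnt : ∀ (S : Finset G) (p : G → Prop) {_ : DecidablePred p} (T : Set G),
      (∀ x, x ∈ S ∧ p x ↔ x ∈ T) → (S.filter p).card = T.ncard := by
    intro S p _ T h

    rw [← Set.ncard_coe_finset, Finset.coe_filter]
    exact congrArg Set.ncard (Set.ext h)
  have hFW : F ⊆ W := fun x hx => mW.2 (mF.1 hx).1
  set n : G → ℕ := fun x => (F.filter fun u => u ∈ Nb D x).card with hn
  have sym : ∀ {u x : G}, u ∈ D → x ∈ Nb D u → u ∈ Nb D x := fun hu hx =>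
    ⟨hu, hx.2.1.symm, hx.2.2.symm⟩
  have cW : W.card = 31671 := by rw [← Set.ncard_coe_finset, hW, C.card_nb ha]
  have cF : F.card = 3240 := by rw [← Set.ncard_coe_finset, hF, C.card_com hab ha hb]
  have hC : ∀ x ∈ F, n x = 351 := by
    intro x hx
    have hx' := mF.1 hx
    rw [hn, ← C.card_angle hx'.1.1 (sym ha hx'.1) (sym hb hx'.2) hab]
    refine cnt F _ _ fun u => ?_
    rw [mF]
    exact ⟨fun ⟨h1, h2⟩ => ⟨⟨h2, h1.1⟩, h1.2⟩, fun ⟨⟨h2, h1⟩, h3⟩ => ⟨⟨h1, h3⟩, h2⟩⟩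
  have hu2 : ∀ u ∈ F, (W.filter fun x => u ∈ Nb D x).card = 3510 := by
    intro u hu
    have hu' := mF.1 hu
    rw [← C.card_edge ha hu'.1]
    refine cnt W _ _ fun x => ?_
    rw [mW]
    exact ⟨fun ⟨h1, h2⟩ => ⟨h1, sym h1.1 h2⟩, fun ⟨h1, h2⟩ => ⟨h1, sym hu'.1.1 h2⟩⟩
  have hS1 : ∑ x ∈ W, n x = 3240 * 3510 := by
    calc ∑ x ∈ W, n x = ∑ x ∈ W, ∑ u ∈ F, if u ∈ Nb D x then 1 else 0 :=
          Finset.sum_congr rfl fun x _ => Finset.card_filter _ _
      _ = ∑ u ∈ F, ∑ x ∈ W, if u ∈ Nb D x then 1 else 0 := Finset.sum_comm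
      _ = ∑ u ∈ F, 3510 := Finset.sum_congr rfl fun u hu => by rw [← Finset.card_filter, hu2 u hu]
      _ = _ := by rw [Finset.sum_const, cF, smul_eq_mul]
  have hS2 : ∑ x ∈ W, n x * n x = 3240 * 1260441 := by
    have key : ∀ u ∈ F, ∑ v ∈ F, (W.filter fun x => u ∈ Nb D x ∧ v ∈ Nb D x).card = 1260441 := by
      intro u hu
      have hu' := mF.1 hu
      have hdiag : (W.filter fun x => u ∈ Nb D x ∧ u ∈ Nb D x).card = 3510 := by
        simpa only [and_self] using hu2 u hu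
      rw [← Finset.add_sum_erase F _ hu, hdiag,
        ← Finset.sum_filter_add_sum_filter_not (F.erase u) (fun v => Commute u v)]
      have hval : ∀ v ∈ F.erase u, (W.filter fun x => u ∈ Nb D x ∧ v ∈ Nb D x).card =
          if Commute u v then 693 else 351 := by
        intro v hv
        obtain ⟨hvu, hv⟩ := Finset.mem_erase.1 hv
        have hv' := mF.1 hv
        have hset : (W.filter fun x => u ∈ Nb D x ∧ v ∈ Nb D x).card =
            (Nb D a ∩ Nb D u ∩ Nb D v).ncard := cnt W _ _ fun x => by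
          rw [mW]
          exact ⟨fun ⟨h1, h2, h3⟩ => ⟨⟨h1, sym h1.1 h2⟩, sym h1.1 h3⟩,
            fun ⟨⟨h1, h2⟩, h3⟩ => ⟨h1, sym hu'.1.1 h2, sym hv'.1.1 h3⟩⟩
        rw [hset]
        by_cases hc : Commute u v
        · rw [if_pos hc]; exact C.card_triangle ha hu'.1 hv'.1 ⟨hv'.1.1, hvu, hc⟩
        · rw [if_neg hc]; exact C.card_angle ha hu'.1 hv'.1 hc
      have cnb : ((F.erase u).filter fun v => Commute u v).card = 351 := by
        rw [← hC u hu, hn]
        refine congrArg Finset.card (Finset.ext fun v => ?_)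
        simp only [Finset.mem_filter, Finset.mem_erase]
        exact ⟨fun ⟨⟨h1, h2⟩, h3⟩ => ⟨h2, (mF.1 h2).1.1, h1, h3⟩, fun ⟨h1, h2⟩ => ⟨⟨h2.2.1, h1⟩, h2.2.2⟩⟩
      have cfar : ((F.erase u).filter fun v => ¬ Commute u v).card = 2888 := by
        have := Finset.card_filter_add_card_filter_not (s := F.erase u) (fun v => Commute u v)
        rw [cnb, Finset.card_erase_of_mem hu, cF] at this
        omega
      have s1 : ∀ v ∈ (F.erase u).filter (fun v => Commute u v),
          (W.filter fun x => u ∈ Nb D x ∧ v ∈ Nb D x).card = 693 := fun v hv => by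
        obtain ⟨h1, h2⟩ := Finset.mem_filter.1 hv; rw [hval v h1, if_pos h2]
      have s2 : ∀ v ∈ (F.erase u).filter (fun v => ¬ Commute u v),
          (W.filter fun x => u ∈ Nb D x ∧ v ∈ Nb D x).card = 351 := fun v hv => by
        obtain ⟨h1, h2⟩ := Finset.mem_filter.1 hv; rw [hval v h1, if_neg h2]
      rw [Finset.sum_congr rfl s1, Finset.sum_congr rfl s2]
      simp [cnb, cfar]

    calc ∑ x ∈ W, n x * n x
        = ∑ x ∈ W, ∑ u ∈ F, ∑ v ∈ F, if u ∈ Nb D x ∧ v ∈ Nb D x then 1 else 0 := by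
          refine Finset.sum_congr rfl fun x _ => ?_
          simp only [hn, Finset.card_filter, Finset.sum_mul_sum]
          refine Finset.sum_congr rfl fun u _ => Finset.sum_congr rfl fun v _ => ?_
          split_ifs <;> simp_all
      _ = ∑ u ∈ F, ∑ v ∈ F, ∑ x ∈ W, if u ∈ Nb D x ∧ v ∈ Nb D x then 1 else 0 := by
          rw [Finset.sum_comm]
          exact Finset.sum_congr rfl fun u _ => Finset.sum_comm
      _ = ∑ u ∈ F, 1260441 := Finset.sum_congr rfl fun u hu => by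
          simp only [← Finset.card_filter]; exact key u hu
      _ = _ := by rw [Finset.sum_const, cF, smul_eq_mul]
  have e1 : ∑ x ∈ F, n x = 3240 * 351 := by
    rw [Finset.sum_congr rfl hC, Finset.sum_const, cF, smul_eq_mul]
  have e2 : ∑ x ∈ F, n x * n x = 3240 * 123201 := by
    rw [Finset.sum_congr rfl (g := fun _ => 351 * 351) fun x hx => by rw [hC x hx], Finset.sum_const, cF,
      smul_eq_mul]
  rw [← Finset.sum_sdiff hFW, e1] at hS1
  rw [← Finset.sum_sdiff hFW, e2] at hS2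
  have cWF : (W \ F).card = 28431 := by rw [Finset.card_sdiff_of_subset hFW, cW, cF]
  have h0 : ∑ x ∈ W \ F, ((n x : ℤ) - 360) ^ 2 = 0 := by
    have i1 : ∑ x ∈ W \ F, (n x : ℤ) = 10235160 := by
      have : ∑ x ∈ W \ F, n x = 10235160 := by omega
      exact_mod_cast this
    have i2 : ∑ x ∈ W \ F, ((n x : ℤ) * n x) = 3684657600 := by
      have : ∑ x ∈ W \ F, n x * n x = 3684657600 := by omega
      exact_mod_cast this
    calc ∑ x ∈ W \ F, ((n x : ℤ) - 360) ^ 2
        = ∑ x ∈ W \ F, ((n x : ℤ) * n x) - 720 * ∑ x ∈ W \ F, (n x : ℤ) + ∑ _x ∈ W \ F, (129600 : ℤ) := by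
          rw [Finset.mul_sum, ← Finset.sum_sub_distrib, ← Finset.sum_add_distrib]
          exact Finset.sum_congr rfl fun x _ => by ring
      _ = 0 := by rw [i1, i2, Finset.sum_const, cWF]; norm_num
  have hpos : 0 < n z := by
    by_cases hzF : z ∈ F
    · rw [hC z hzF]; norm_num
    · have := (Finset.sum_eq_zero_iff_of_nonneg fun x _ => sq_nonneg _).1 h0 z
        (Finset.mem_sdiff.2 ⟨mW.2 hz, hzF⟩)
      have := pow_eq_zero_iff (n := 2) two_ne_zero |>.1 this
      omega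
  obtain ⟨u, hu⟩ := Finset.card_pos.1 hpos
  obtain ⟨hu1, hu2'⟩ := Finset.mem_filter.1 hu
  exact ⟨u, mF.1 hu1, hu2'⟩

end Ctx

end Cfsg.Agent.FischerUnique24
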