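import Cfsg.Agent.Lib.FischerUnique24.Parity

/-!
The layer of a group of type M(24) has index two, and the width is twenty-four.
-/

set_option autoImplicit false

namespace Cfsg.Agent.FischerUnique24

open Cfsg.Agent.Fischer
open Cfsg.Agent.Fischer.Factor

variable {G X : Type*} [Group G] [Group X] [Finite G] [Finite X] {D : Set G} {D1 : Set X}

omit [Group X] [Finite G] [Finite X] in
theorem bdd_commSet {H : Type*} [Group H] [Finite H] (E : Set H) :
    BddAbove {n : ℕ | ∃ A : Set H, A ⊆ E ∧ A.Finite ∧ (∀ a ∈ A, ∀ b ∈ A, Commute a b) ∧ A.ncard = n} := by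
  refine ⟨(Set.univ : Set H).ncard, ?_⟩
  rintro n ⟨A, -, -, -, rfl⟩
  exact Set.ncard_le_ncard (Set.subset_univ _) (Set.toFinite _)

namespace Ctx

variable (C : Ctx D D1)
include C

theorem layer_index : (Cfsg.layer G).index = 2 := by
  have hcl := toClass C.group C.prim
  have h2 := prim_pCore_two C.group C.prim
  have h3 := prim_pCore_three C.group C.prim C.has_pair
  obtain ⟨L, hL⟩ := TClass.exists_component hcl C.prim.2.1 h2 h3
  haveI := component_normal C.group hL
  have hlayer : Cfsg.layer G = L :=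
    le_antisymm (Components.layer_le_iff.2 fun M hM => le_of_eq (TClass.component_unique hcl hM hL))
      (Components.component_le_layer hL)
  have hle := TClass.index_le_two_of_connected hcl hL (prim_connected C.group C.prim C.has_pair)
  obtain ⟨N, hN, hNn, -, -⟩ := C.exists_even_subgroup
  haveI := hNn
  have hLN : L ≤ N := by
    have hperf := hL.2.1.commutator_eq_top
    have hc : commutator G ≤ N := by
      haveI : Fact (Nat.Prime 2) := ⟨Nat.prime_two⟩
      haveI : IsCyclic (G ⧸ N) := isCyclic_of_prime_card (p := 2) (by rw [← Subgroup.index_eq_card, hN])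
      refine (Subgroup.Normal.quotient_commutative_iff_commutator_le).1 ?_
      exact IsCyclic.commutative
    intro x hx
    have hxm : x ∈ (commutator L).map L.subtype := ⟨⟨x, hx⟩, hperf ▸ Subgroup.mem_top _, rfl⟩
    rw [commutator_def, Subgroup.map_commutator, ← MonoidHom.range_eq_map, Subgroup.range_subtype] at hxm
    exact hc (Subgroup.commutator_mono le_top le_top hxm)
  have hdvd := Subgroup.index_dvd_of_le hLN
  rw [hN] at hdvd
  rw [hlayer]
  have h0 : L.index ≠ 0 := Subgroup.index_ne_zero_of_finite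
  have := Nat.le_of_dvd (Nat.pos_of_ne_zero h0) hdvd
  omega

theorem width_eq : Cfsg.commutingWidth D = 24 := by
  classical
  have h23 : Cfsg.commutingWidth D1 = 23 :=
    FischerUnique23.width_eq C.low.group C.low.prim C.low.type
  refine le_antisymm (csSup_le ⟨0, ∅, Set.empty_subset _, Set.finite_empty, fun _ h => absurd h
    (Set.notMem_empty _), Set.ncard_empty _⟩ ?_) ?_
  · rintro n ⟨E, hE, hfin, hc, rfl⟩
    rcases E.eq_empty_or_nonempty with rfl | ⟨a, ha⟩
    · simp
    obtain ⟨f, hf⟩ := C.chart a (hE ha)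
    have hsub : ∀ y ∈ E \ {a}, y ∈ Nb D a := fun y hy => ⟨hE hy.1, hy.2, hc a ha y hy.1⟩
    have h1 : (E \ {a}).ncard ≤ 23 := by
      rw [← h23, ← Set.InjOn.ncard_image (f := f) fun p hp q hq => hf.inj p (hsub p hp) q (hsub q hq)]
      refine le_csSup (bdd_commSet D1) ⟨f '' (E \ {a}), ?_, Set.toFinite _, ?_, rfl⟩
      · rintro _ ⟨y, hy, rfl⟩; exact hf.mem y (hsub y hy)
      · rintro _ ⟨y, hy, rfl⟩ _ ⟨w, hw, rfl⟩
        exact (hf.comm y (hsub y hy) w (hsub w hw)).2 (hc y hy.1 w hw.1)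
    have h2 := Set.ncard_sdiff_singleton_add_one ha hfin
    omega
  · obtain ⟨a, ha, -⟩ := C.prim.2.1
    obtain ⟨f, hf⟩ := C.chart a ha
    obtain ⟨E, hE, -, hc, hn⟩ : 23 ∈ {n : ℕ | ∃ A : Set X, A ⊆ D1 ∧ A.Finite ∧
        (∀ a ∈ A, ∀ b ∈ A, Commute a b) ∧ A.ncard = n} := h23 ▸ Nat.sSup_mem
      ⟨0, ∅, Set.empty_subset _, Set.finite_empty, fun _ h => absurd h (Set.notMem_empty _),
        Set.ncard_empty _⟩ (bdd_commSet D1)
    set S := {y | y ∈ Nb D a ∧ f y ∈ E}
    have hS : f '' S = E := Set.Subset.antisymm (by rintro _ ⟨y, hy, rfl⟩; exact hy.2) fun z hz => by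
      obtain ⟨y, hy, rfl⟩ := hf.lift z (hE hz)
      exact ⟨y, ⟨hy, hz⟩, rfl⟩
    have hcard : S.ncard = 23 := by
      rw [← hn, ← hS, Set.InjOn.ncard_image fun p hp q hq => hf.inj p hp.1 q hq.1]
    refine le_csSup (bdd_commSet D) ⟨insert a S, ?_, Set.toFinite _, ?_, ?_⟩
    · rintro y (rfl | hy)
      exacts [ha, hy.1.1]
    · rintro y (rfl | hy) w (rfl | hw)
      exacts [Commute.refl _, hw.1.2.2, hy.1.2.2.symm, (hf.comm y hy.1 w hw.1).1 (hc _ hy.2 _ hw.2)]
    · rw [Set.ncard_insert_of_notMem (fun h => h.1.2.1 rfl), hcard]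

end Ctx

end Cfsg.Agent.FischerUnique24
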