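import Cfsg.Agent.Lib.FischerUnique24.Eleven
import Cfsg.Agent.Lib.FischerUnique23.Pair

/-!
Charts of a group of type M(24) with values in the presented Fi23, sending a chosen neighbour to the
standard transposition.
-/

set_option autoImplicit false
set_option maxRecDepth 100000

namespace Cfsg.Agent.FischerUnique24

open Cfsg.Agent.CosetCert
open Cfsg.Agent.CosetData
open Cfsg.Agent.Fischer
open Cfsg.Agent.Fischer.Factor
open Cfsg.Agent.FischerPresented

local notation "GT" => Setup.G Fi23A.setup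

variable {G X : Type*} [Group G] [Group X] [Finite G] [Finite X] {D : Set G} {D1 : Set X}

omit [Finite G] [Finite X] in
/-- A chart followed by an isomorphism of the quotients. -/
theorem IsChart.comp {Y : Type*} [Group Y] {E : Set Y} {t : G} {f : G → X} (hf : IsChart D D1 t f)
    (Ψ : X ≃* Y) (hΨ : Ψ '' D1 = E) : IsChart D E t (fun g => Ψ (f g)) where
  map_mul x hx y hy := by
    show Ψ (f (x * y)) = Ψ (f x) * Ψ (f y)
    rw [hf.map_mul x hx y hy, Ψ.map_mul]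
  surj z := by
    obtain ⟨x, hx, e⟩ := hf.surj (Ψ.symm z)
    exact ⟨x, hx, by simp only [e, MulEquiv.apply_symm_apply]⟩
  ker x hx := by simp only [MulEquiv.map_eq_one_iff, hf.ker x hx]
  mem y hy := hΨ ▸ ⟨f y, hf.mem y hy, rfl⟩
  lift z hz := by
    obtain ⟨w, hw, rfl⟩ : z ∈ Ψ '' D1 := hΨ.symm ▸ hz
    obtain ⟨y, hy, rfl⟩ := hf.lift w hw
    exact ⟨y, hy, rfl⟩
  inj y hy y' hy' e := hf.inj y hy y' hy' (Ψ.injective e)
  comm y hy y' hy' := by
    rw [← hf.comm y hy y' hy']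
    exact ⟨fun h => Ψ.injective (by rw [Ψ.map_mul, Ψ.map_mul]; exact h.eq), fun h => h.map Ψ⟩

theorem conj_image_D (k : GT) : (MulAut.conj k : MulAut GT) '' Fi23.D = Fi23.D := by
  ext d
  constructor
  · rintro ⟨c, hc, rfl⟩
    obtain ⟨g, rfl⟩ := Fi23.mem_D.1 hc
    exact Fi23.mem_D.2 ⟨k * g, by simp [mul_assoc]⟩
  · intro hd
    obtain ⟨g, rfl⟩ := Fi23.mem_D.1 hd
    exact ⟨k⁻¹ * g * Fi23.z * (k⁻¹ * g)⁻¹, Fi23.mem_D.2 ⟨_, rfl⟩, by simp [mul_assoc]⟩

namespace Ctx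

variable (C : Ctx D D1)
include C

theorem chart23 {t : G} (ht : t ∈ D) : ∃ f : G → GT, IsChart D Fi23.D t f ∧
    ∀ x ∈ Hd D t, f x = 1 ↔ x = 1 ∨ x = t := by
  obtain ⟨f, hf⟩ := C.chart t ht
  obtain ⟨Φ, hΦ⟩ := FischerUnique23.exists_iso C.low.group C.low.prim C.low.type
  refine ⟨fun g => Φ.symm (f g), hf.comp Φ.symm ?_, fun x hx => ?_⟩
  · rw [← hΦ, ← Set.image_comp]
    simp
  · show Φ.symm (f x) = 1 ↔ _
    rw [MulEquiv.map_eq_one_iff, C.ker_iff ht hf hx]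

/-- A chart sending a chosen neighbour to the standard transposition. -/
theorem chart_z {t u : G} (ht : t ∈ D) (hu : u ∈ Nb D t) : ∃ f : G → GT, IsChart D Fi23.D t f ∧
    (∀ x ∈ Hd D t, f x = 1 ↔ x = 1 ∨ x = t) ∧ f u = Fi23.z := by
  obtain ⟨f, hf, hk⟩ := C.chart23 ht
  obtain ⟨g, hg⟩ := Fi23.mem_D.1 (hf.mem u hu)
  refine ⟨fun x => MulAut.conj g⁻¹ (f x), hf.comp (MulAut.conj g⁻¹) (conj_image_D _), fun x hx => ?_, ?_⟩
  · show MulAut.conj g⁻¹ (f x) = 1 ↔ _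
    rw [MulEquiv.map_eq_one_iff, hk x hx]
  · show MulAut.conj g⁻¹ (f u) = _
    rw [← hg]
    simp [mul_assoc]

/-- The product of a transposition with a neighbour is no transposition. -/
theorem two_ne {a b : G} (ha : a ∈ D) (hb : b ∈ Nb D a) : a * b ∉ D := by
  intro he
  obtain ⟨f, hf, hk⟩ := C.chart23 ha
  have hbH : b ∈ Hd D a := Subgroup.subset_closure hb
  have hb1 : b ≠ 1 := TSet.ne_one C.group.1 hb.1
  have heN : a * b ∈ Nb D a := ⟨he, fun e => hb1 (left_eq_mul.1 e.symm), (Commute.refl a).mul_right hb.2.2⟩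
  have e1 : f (a * b) = f b := by
    rw [hf.map_mul a (C.mem_self ha) b hbH, (hk a (C.mem_self ha)).2 (Or.inr rfl), one_mul]
  have h2 := hf.inj _ heN b hb e1
  exact TSet.ne_one C.group.1 ha (mul_eq_right.1 h2)

end Ctx

end Cfsg.Agent.FischerUnique24
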