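import Cfsg.Agent.Lib.FischerUnique24.Parity
import Cfsg.Agent.Lib.Components.Basic

/-!
Subgroups of odd order in the centraliser of a transposition in a group of type M(24), moved to and from
the quotient.
-/

set_option autoImplicit false

namespace Cfsg.Agent.FischerUnique24

open Cfsg.Agent.Fischer
open Cfsg.Agent.Fischer.Factor

variable {G X : Type*} [Group G] [Group X] [Finite G] [Finite X] {D : Set G} {D1 : Set X}

/-- The cores of the neighbour group one level down are central. -/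
theorem Is23.cores (h : Is23 D1) {d : X} (hd : d ∈ D1) :
    Cfsg.pCore 3 ↥(Subgroup.closure (Nb D1 d)) ≤ Subgroup.center ↥(Subgroup.closure (Nb D1 d)) ∧
    Cfsg.pCore 2 ↥(Subgroup.closure (Nb D1 d)) ≤ Subgroup.center ↥(Subgroup.closure (Nb D1 d)) := by
  obtain ⟨-, hq, -⟩ := FischerUnique23.centralizer_facts h.group h.prim h.type hd
  have key : ∀ p : ℕ, p.Prime →
      Cfsg.pCore p ↥(Subgroup.closure (Nb D1 d)) ≤ Subgroup.center ↥(Subgroup.closure (Nb D1 d)) := by
    intro p hp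
    haveI := Fact.mk hp
    haveI : (Cfsg.pCore p ↥(Subgroup.closure (Nb D1 d))).Normal := Cfsg.pCore_normal p _
    refine (Components.quasisimple_normal hq _).resolve_left fun e => ?_
    have hpg := PBasic.pCore_isPGroup p ↥(Subgroup.closure (Nb D1 d))
    rw [e] at hpg
    haveI := (hpg.of_equiv Subgroup.topEquiv).isNilpotent
    exact Components.quasisimple_not_solvable hq inferInstance
  exact ⟨key 3 Nat.prime_three, key 2 Nat.prime_two⟩

theorem card_fixed_mod {p : ℕ} [Fact p.Prime] (B : Subgroup G) (hB : IsPGroup p B) (S : Set G)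
    (hS : ∀ g ∈ B, ∀ y ∈ S, g * y * g⁻¹ ∈ S) :
    {y | y ∈ S ∧ ∀ g ∈ B, Commute g y}.ncard ≡ S.ncard [MOD p] := by
  letI : MulAction B S :=
    { smul := fun g y => ⟨(g : G) * y * (g : G)⁻¹, hS g g.2 y y.2⟩
      one_smul := fun y => Subtype.ext (show (1 : G) * y * (1 : G)⁻¹ = y by group)
      mul_smul := fun g h y => Subtype.ext (show ((g : G) * h) * y * ((g : G) * h)⁻¹ =
        (g : G) * ((h : G) * y * (h : G)⁻¹) * (g : G)⁻¹ by group) }
  have h := hB.card_modEq_card_fixedPoints (α := S)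
  rw [Nat.card_coe_set_eq] at h
  have e : {y | y ∈ S ∧ ∀ g ∈ B, Commute g y} = Subtype.val '' MulAction.fixedPoints B S := by
    ext y
    constructor
    · rintro ⟨hy, hc⟩
      exact ⟨⟨y, hy⟩, fun g => Subtype.ext (conj_eq_self_of_commute (hc g g.2)), rfl⟩
    · rintro ⟨⟨y, hy⟩, hf, rfl⟩
      exact ⟨hy, fun g hg => mul_inv_eq_iff_eq_mul.1 (congrArg Subtype.val (hf ⟨g, hg⟩))⟩
  rw [e, Set.ncard_image_of_injective _ Subtype.val_injective, ← Nat.card_coe_set_eq]
  exact h.symm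

namespace Ctx

variable (C : Ctx D D1)
include C

/-- The map onto the quotient, on the centraliser. -/
theorem exists_hom {t : G} (ht : t ∈ D) {f : G → X} (hf : IsChart D D1 t f) :
    ∃ φ : Hd D t →* X, Function.Surjective φ ∧ (∀ x : Hd D t, φ x = f x) ∧
      ∀ x : Hd D t, φ x = 1 ↔ (x : G) = 1 ∨ (x : G) = t :=
  ⟨MonoidHom.mk' (fun x => f x) fun x y => hf.map_mul x x.2 y y.2,
    fun z => by obtain ⟨x, hx, rfl⟩ := hf.surj z; exact ⟨⟨x, hx⟩, rfl⟩,
    fun x => rfl, fun x => C.ker_iff ht hf x.2⟩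

theorem sq_even {t x : G} (ht : t ∈ D) (hx : x ∈ Hd D t) : x * x ∈ Ev t :=
  ((C.parity ht).2.2.2 x hx x hx).2 Iff.rfl

theorem odd_even {t : G} (ht : t ∈ D) {B : Subgroup G} (hBH : B ≤ Hd D t) {n : ℕ} (hn : Nat.card B = n)
    (ho : Odd n) : B ≤ Ev t := by
  intro x hx
  obtain ⟨k, rfl⟩ := ho
  have h1 : x ^ (2 * k + 1) = 1 := by
    rw [← hn]
    exact congrArg Subtype.val (pow_card_eq_one' (x := (⟨x, hx⟩ : B)))
  have h2 : x = x ^ (k + 1) * x ^ (k + 1) := by
    rw [← pow_add, show k + 1 + (k + 1) = 2 * k + 1 + 1 by omega, pow_succ, h1, one_mul]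
  rw [h2]
  exact C.sq_even ht (pow_mem (hBH hx) _)

/-- Even elements are determined by their images. -/
theorem eq_of_even {t x y : G} (ht : t ∈ D) {f : G → X} (hf : IsChart D D1 t f) (hx : x ∈ Ev t)
    (hy : y ∈ Ev t) (e : f x = f y) : x = y := by
  have hxH : x ∈ Hd D t := (C.centralizer ht).le (ev_le t hx)
  have hyH : y ∈ Hd D t := (C.centralizer ht).le (ev_le t hy)
  have h1 : f (x⁻¹ * y) = 1 := by rw [hf.map_mul _ (inv_mem hxH) _ hyH, hf.map_inv hxH, e, inv_mul_cancel]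
  rcases (C.ker_iff ht hf (mul_mem (inv_mem hxH) hyH)).1 h1 with h | h
  · exact inv_mul_eq_one.1 h
  · have hm := mul_mem (inv_mem hx) hy
    rw [h] at hm
    exact absurd hm (C.parity ht).1

theorem fix_iff {t g y : G} (ht : t ∈ D) {f : G → X} (hf : IsChart D D1 t f) (hg : g ∈ Hd D t)
    (hy : y ∈ Nb D t) : Commute g y ↔ Commute (f g) (f y) := by
  have hy' : y ∈ Hd D t := Subgroup.subset_closure hy
  refine ⟨fun h => ?_, fun h => ?_⟩
  · show f g * f y = f y * f g
    rw [← hf.map_mul g hg y hy', ← hf.map_mul y hy' g hg, h.eq]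
  · have hgy := nb_conj C.group g hy
    rw [conj_eq_self_of_commute (commute_of_mem_closure_nb hg).symm] at hgy
    refine mul_inv_eq_iff_eq_mul.1 (hf.inj _ hgy y hy ?_)
    rw [hf.map_mul _ (mul_mem hg hy') _ (inv_mem hg), hf.map_mul _ hg _ hy', hf.map_inv hg, h.eq,
      mul_inv_cancel_right]

theorem card_image {t : G} (ht : t ∈ D) {B : Subgroup G} (hBH : B ≤ Hd D t) {n : ℕ}
    (hn : Nat.card B = n) (ho : Odd n) {f : G → X} (hf : IsChart D D1 t f) {φ : Hd D t →* X}
    (hφ : ∀ x : Hd D t, φ x = f x) : Nat.card ((B.subgroupOf (Hd D t)).map φ) = n := by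
  have hinj : Set.InjOn φ (B.subgroupOf (Hd D t) : Set (Hd D t)) := fun x hx y hy e => by
    rw [hφ, hφ] at e
    exact Subtype.ext (C.eq_of_even ht hf (C.odd_even ht hBH hn ho hx) (C.odd_even ht hBH hn ho hy) e)
  rw [← hn, ← Nat.card_congr (Subgroup.subgroupOfEquivOfLe hBH).toEquiv, ← SetLike.coe_sort_coe,
    Nat.card_coe_set_eq, Subgroup.coe_map, hinj.ncard_image, ← Nat.card_coe_set_eq, SetLike.coe_sort_coe]

/-- An element over one normalising the image normalises a subgroup of odd order. -/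
theorem normalize_lift {t h : G} (ht : t ∈ D) {B B' : Subgroup G} (hBH : B ≤ Hd D t) (hB'H : B' ≤ Hd D t)
    {n : ℕ} (hn : Nat.card B = n) (hn' : Nat.card B' = n) (ho : Odd n) {f : G → X} (hf : IsChart D D1 t f)
    {φ : Hd D t →* X} (hφ : ∀ x : Hd D t, φ x = f x) (hh : h ∈ Hd D t)
    (hmap : ((B.subgroupOf (Hd D t)).map φ).map (MulAut.conj (f h)).toMonoidHom =
      (B'.subgroupOf (Hd D t)).map φ) :
    B.map (MulAut.conj h).toMonoidHom = B' := by
  haveI : Finite B' := inferInstance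
  refine Subgroup.eq_of_le_of_card_ge ?_ ?_
  · rintro _ ⟨x, hx, rfl⟩
    have hxH := hBH hx
    have hm : f h * f x * (f h)⁻¹ ∈ (B'.subgroupOf (Hd D t)).map φ := by
      rw [← hmap, ← hφ ⟨x, hxH⟩]
      exact ⟨_, ⟨⟨x, hxH⟩, hx, rfl⟩, by simp [hφ]⟩
    obtain ⟨y, hy, e⟩ := hm
    rw [hφ] at e
    show h * x * h⁻¹ ∈ B'
    have hxe : h * x * h⁻¹ ∈ Ev t := by
      have := ev_conj h (C.odd_even ht hBH hn ho hx)
      rwa [conj_eq_self_of_commute (commute_of_mem_closure_nb hh).symm] at this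
    rw [C.eq_of_even ht hf hxe (C.odd_even ht hB'H hn' ho hy) (by
      rw [hf.map_mul _ (mul_mem hh hxH) _ (inv_mem hh), hf.map_mul _ hh _ hxH, hf.map_inv hh]
      exact e.symm)]

    exact hy
  · rw [hn', Subgroup.card_map_of_injective (MulAut.conj h).injective, hn]

end Ctx

end Cfsg.Agent.FischerUnique24
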