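import Cfsg.Agent.Lib.FischerUnique24.Twin
import Cfsg.Agent.Lib.FischerUnique24.Eleven

/-!
Isomorphisms between centralisers of transpositions in two groups of type M(24) over the same quotient,
and the centraliser of two commuting transpositions.
-/

set_option autoImplicit false

namespace Cfsg.Agent.FischerUnique24

open Cfsg.Agent.Fischer
open Cfsg.Agent.Fischer.Factor

variable {G G' X : Type*} [Group G] [Group G'] [Group X] {D : Set G} {D' : Set G'} {D1 : Set X}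

/-- An isomorphism of the centralisers of two transpositions carrying neighbours onto neighbours. -/
structure IsLink (D : Set G) (D' : Set G') (t : G) (t' : G') (θ : G → G') : Prop where
  map_mul : ∀ x ∈ Hd D t, ∀ y ∈ Hd D t, θ (x * y) = θ x * θ y
  mem_hd : ∀ x ∈ Hd D t, θ x ∈ Hd D' t'
  inj : ∀ x ∈ Hd D t, ∀ y ∈ Hd D t, θ x = θ y → x = y
  surj : ∀ z ∈ Hd D' t', ∃ x ∈ Hd D t, θ x = z
  self : θ t = t'
  nb : ∀ y ∈ Nb D t, θ y ∈ Nb D' t'
  lift : ∀ z ∈ Nb D' t', ∃ y ∈ Nb D t, θ y = z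

namespace IsLink

variable {t : G} {t' : G'} {θ : G → G'}

theorem map_one (h : IsLink D D' t t' θ) : θ 1 = 1 := by
  have := h.map_mul 1 (one_mem _) 1 (one_mem _)
  rw [one_mul] at this
  exact left_eq_mul.1 this

theorem map_inv (h : IsLink D D' t t' θ) {x : G} (hx : x ∈ Hd D t) : θ x⁻¹ = (θ x)⁻¹ := by
  refine eq_inv_of_mul_eq_one_left ?_
  rw [← h.map_mul _ (inv_mem hx) _ hx, inv_mul_cancel, h.map_one]

theorem map_conj (h : IsLink D D' t t' θ) {g y : G} (hg : g ∈ Hd D t) (hy : y ∈ Hd D t) :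
    θ (g * y * g⁻¹) = θ g * θ y * (θ g)⁻¹ := by
  rw [h.map_mul _ (mul_mem hg hy) _ (inv_mem hg), h.map_mul _ hg _ hy, h.map_inv hg]

theorem commute_iff (h : IsLink D D' t t' θ) {x y : G} (hx : x ∈ Hd D t) (hy : y ∈ Hd D t) :
    Commute (θ x) (θ y) ↔ Commute x y := by
  refine ⟨fun e => h.inj _ (mul_mem hx hy) _ (mul_mem hy hx) ?_, fun e => ?_⟩
  · rw [h.map_mul _ hx _ hy, h.map_mul _ hy _ hx, e.eq]
  · show θ x * θ y = θ y * θ x
    rw [← h.map_mul _ hx _ hy, ← h.map_mul _ hy _ hx, e.eq]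

theorem nb_of (h : IsLink D D' t t' θ) {y : G} (hy : y ∈ Hd D t) (he : θ y ∈ Nb D' t') : y ∈ Nb D t := by
  obtain ⟨w, hw, e⟩ := h.lift _ he
  rwa [h.inj y hy w (Subgroup.subset_closure hw) e.symm]

theorem nb_pair (h : IsLink D D' t t' θ) {u y : G} (hu : u ∈ Nb D t) (hy : y ∈ Nb D t) :
    θ y ∈ Nb D' (θ u) ↔ y ∈ Nb D u := by
  have hu' : u ∈ Hd D t := Subgroup.subset_closure hu
  have hy' : y ∈ Hd D t := Subgroup.subset_closure hy
  refine ⟨fun e => ⟨hy.1, fun e' => e.2.1 (e' ▸ rfl), (h.commute_iff hu' hy').1 e.2.2⟩, fun e => ?_⟩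
  exact ⟨(h.nb y hy).1, fun e' => e.2.1 (h.inj y hy' u hu' e'), (h.commute_iff hu' hy').2 e.2.2⟩

theorem com_image (h : IsLink D D' t t' θ) {u : G} (hu : u ∈ Nb D t) :
    θ '' Com D t u = Com D' t' (θ u) := by
  refine Set.Subset.antisymm ?_ fun z hz => ?_
  · rintro _ ⟨y, ⟨h1, h2⟩, rfl⟩
    exact ⟨h.nb y h1, (h.nb_pair hu h1).2 h2⟩
  · obtain ⟨y, hy, rfl⟩ := h.lift z hz.1
    exact ⟨y, ⟨hy, (h.nb_pair hu hy).1 hz.2⟩, rfl⟩

/-- Two links agreeing on a set agree on the group it generates. -/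
theorem eq_closure {u : G} {u' : G'} {ψ : G → G'} (h : IsLink D D' t t' θ) (h' : IsLink D D' u u' ψ)
    {S : Set G} (hS : S ⊆ Hd D t) (hS' : S ⊆ Hd D u) (he : ∀ y ∈ S, ψ y = θ y) {g : G}
    (hg : g ∈ Subgroup.closure S) : ψ g = θ g := by
  have hH : Subgroup.closure S ≤ Hd D t ⊓ Hd D u :=
    (Subgroup.closure_le _).2 fun y hy => ⟨hS hy, hS' hy⟩
  induction hg using Subgroup.closure_induction with
  | mem y hy => exact he y hy
  | one => rw [h.map_one, h'.map_one]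
  | mul a b ha hb ea eb => rw [h.map_mul _ (hH ha).1 _ (hH hb).1, h'.map_mul _ (hH ha).2 _ (hH hb).2, ea, eb]
  | inv a ha ea => rw [h.map_inv (hH ha).1, h'.map_inv (hH ha).2, ea]

end IsLink

theorem mem_hd_conj (hT : Cfsg.IsThreeTranspositionGroup D) (g : G) {t x : G} (hx : x ∈ Hd D t) :
    g * x * g⁻¹ ∈ Hd D (g * t * g⁻¹) := by
  unfold Hd at hx
  induction hx using Subgroup.closure_induction with
  | mem y hy => exact Subgroup.subset_closure (nb_conj hT g hy)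
  | one => simp
  | mul a b _ _ ha hb => simpa [mul_assoc] using mul_mem ha hb
  | inv a _ ha => simpa [mul_assoc] using inv_mem ha

/-- Conjugating on both sides. -/
theorem IsLink.conj (hT : Cfsg.IsThreeTranspositionGroup D) (hT' : Cfsg.IsThreeTranspositionGroup D')
    {t : G} {t' : G'} {θ : G → G'} (h : IsLink D D' t t' θ) (g : G) (g' : G') :
    IsLink D D' (g * t * g⁻¹) (g' * t' * g'⁻¹) (fun x => g' * θ (g⁻¹ * x * g) * g'⁻¹) := by
  have back : ∀ {x}, x ∈ Hd D (g * t * g⁻¹) → g⁻¹ * x * g ∈ Hd D t := fun {x} hx => by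
    simpa [mul_assoc] using mem_hd_conj hT g⁻¹ hx
  have backn : ∀ {x}, x ∈ Nb D (g * t * g⁻¹) → g⁻¹ * x * g ∈ Nb D t := fun {x} hx => by
    simpa [mul_assoc] using nb_conj hT g⁻¹ hx
  refine ⟨fun x hx y hy => ?_, fun x hx => mem_hd_conj hT' g' (h.mem_hd _ (back hx)), fun x hx y hy e => ?_,
    fun z hz => ?_, ?_, fun y hy => nb_conj hT' g' (h.nb _ (backn hy)), fun z hz => ?_⟩
  · show g' * θ (g⁻¹ * (x * y) * g) * g'⁻¹ = _
    rw [show g⁻¹ * (x * y) * g = g⁻¹ * x * g * (g⁻¹ * y * g) by group, h.map_mul _ (back hx) _ (back hy)]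
    group
  · have e' := h.inj _ (back hx) _ (back hy) (mul_left_cancel (mul_right_cancel e))
    exact mul_left_cancel (mul_right_cancel e')
  · obtain ⟨x, hx, e⟩ := h.surj (g'⁻¹ * z * g') (by simpa [mul_assoc] using mem_hd_conj hT' g'⁻¹ hz)
    refine ⟨g * x * g⁻¹, mem_hd_conj hT g hx, ?_⟩
    show g' * θ (g⁻¹ * (g * x * g⁻¹) * g) * g'⁻¹ = z
    rw [show g⁻¹ * (g * x * g⁻¹) * g = x by group, e]
    group
  · show g' * θ (g⁻¹ * (g * t * g⁻¹) * g) * g'⁻¹ = _
    rw [show g⁻¹ * (g * t * g⁻¹) * g = t by group, h.self]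
  · obtain ⟨x, hx, e⟩ := h.lift (g'⁻¹ * z * g') (by simpa [mul_assoc] using nb_conj hT' g'⁻¹ hz)
    refine ⟨g * x * g⁻¹, nb_conj hT g hx, ?_⟩
    show g' * θ (g⁻¹ * (g * x * g⁻¹) * g) * g'⁻¹ = z
    rw [show g⁻¹ * (g * x * g⁻¹) * g = x by group, e]
    group

variable [Finite G] [Finite G'] [Finite X]

/-- Centralisers of transpositions in two groups over the same quotient are linked. -/
theorem exists_link (C : Ctx D D1) (C' : Ctx D' D1) {t : G} {t' : G'} (ht : t ∈ D) (ht' : t' ∈ D') :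
    ∃ θ, IsLink D D' t t' θ := by
  classical
  obtain ⟨f, hf⟩ := C.chart t ht
  obtain ⟨f', hf'⟩ := C'.chart t' ht'
  obtain ⟨hnot, hodd, hcov, hop⟩ := C.parity ht
  obtain ⟨hnot', hodd', hcov', hop'⟩ := C'.parity ht'
  have hev' : ∀ {w}, w ∈ Ctx.Ev t' → w ∈ Hd D' t' := fun hw => (C'.centralizer ht').le (Ctx.ev_le t' hw)
  have hti' := C'.mem_self ht'
  have h1t' : f' t' = 1 := (C'.ker_iff ht' hf' hti').2 (Or.inr rfl)
  have hsq' : t' * t' = 1 := TSet.sq C'.group.1 ht'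
  have hex : ∀ x, ∃ w, x ∈ Hd D t → w ∈ Ctx.Ev t' ∧ f' w = f x := by
    intro x
    obtain ⟨w, hw, e⟩ := hf'.surj (f x)
    rcases hcov' w hw with hwe | hwe
    · exact ⟨w, fun _ => ⟨hwe, e⟩⟩
    · exact ⟨t' * w, fun _ => ⟨hwe, by rw [hf'.map_mul _ hti' _ hw, h1t', one_mul, e]⟩⟩
  choose σ hσ using hex
  obtain ⟨θ, hθ⟩ : ∃ θ : G → G', ∀ x, θ x = if x ∈ Ctx.Ev t then σ x else t' * σ x := ⟨_, fun _ => rfl⟩
  have hmem : ∀ x ∈ Hd D t, θ x ∈ Hd D' t' ∧ f' (θ x) = f x ∧ (θ x ∈ Ctx.Ev t' ↔ x ∈ Ctx.Ev t) := by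
    intro x hx
    obtain ⟨h1, h2⟩ := hσ x hx
    rw [hθ]
    split_ifs with hxe
    · exact ⟨hev' h1, h2, by simp [hxe, h1]⟩
    · refine ⟨mul_mem hti' (hev' h1), by rw [hf'.map_mul _ hti' _ (hev' h1), h1t', one_mul, h2], ?_⟩
      simp only [hxe, iff_false]
      exact fun h => hnot' ((Subgroup.mul_mem_cancel_right _ h1).1 h)
  -- an element is determined by its image and parity
  have huniq : ∀ {z w}, z ∈ Hd D' t' → w ∈ Hd D' t' → f' z = f' w → (z ∈ Ctx.Ev t' ↔ w ∈ Ctx.Ev t') → z = w := by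
    intro z w hz hw e hpar
    have h1 : f' (z⁻¹ * w) = 1 := by
      rw [hf'.map_mul _ (inv_mem hz) _ hw, hf'.map_inv hz, e, inv_mul_cancel]
    rcases (C'.ker_iff ht' hf' (mul_mem (inv_mem hz) hw)).1 h1 with h | h
    · exact inv_mul_eq_one.1 h
    · have hw' : w = z * t' := by rw [← h, mul_inv_cancel_left]
      rw [hw', hop' z hz t' hti'] at hpar
      tauto
  have hnb : ∀ y ∈ Nb D t, ∀ y' ∈ Nb D' t', f' y' = f y → θ y = y' := by
    intro y hy y' hy' e
    have hyH : y ∈ Hd D t := Subgroup.subset_closure hy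
    obtain ⟨h1, h2, h3⟩ := hmem y hyH
    exact huniq h1 (Subgroup.subset_closure hy') (h2.trans e.symm)
      (h3.trans (iff_of_false (hodd y hy) (hodd' y' hy')))
  refine ⟨θ, fun x hx y hy => ?_, fun x hx => (hmem x hx).1, fun x hx y hy e => ?_, fun z hz => ?_, ?_,
    fun y hy => ?_, fun z hz => ?_⟩
  · obtain ⟨a1, a2, a3⟩ := hmem x hx
    obtain ⟨b1, b2, b3⟩ := hmem y hy
    obtain ⟨c1, c2, c3⟩ := hmem _ (mul_mem hx hy)
    refine huniq c1 (mul_mem a1 b1) ?_ ?_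
    · rw [c2, hf'.map_mul _ a1 _ b1, a2, b2, hf.map_mul _ hx _ hy]
    · rw [c3, hop x hx y hy, hop' _ a1 _ b1, a3, b3]
  · obtain ⟨a1, a2, a3⟩ := hmem x hx
    obtain ⟨b1, b2, b3⟩ := hmem y hy
    have e1 : f x = f y := by rw [← a2, ← b2, e]
    have h1 : f (x⁻¹ * y) = 1 := by rw [hf.map_mul _ (inv_mem hx) _ hy, hf.map_inv hx, e1, inv_mul_cancel]
    rcases (C.ker_iff ht hf (mul_mem (inv_mem hx) hy)).1 h1 with h | h
    · exact inv_mul_eq_one.1 h
    · exfalso
      have hy' : y = x * t := by rw [← h, mul_inv_cancel_left]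
      have hpar : x ∈ Ctx.Ev t ↔ y ∈ Ctx.Ev t := by rw [← a3, ← b3, e]
      rw [hy', hop x hx t (C.mem_self ht)] at hpar
      tauto
  · obtain ⟨x, hx, e⟩ := hf.surj (f' z)
    obtain ⟨a1, a2, a3⟩ := hmem x hx
    by_cases hp : x ∈ Ctx.Ev t ↔ z ∈ Ctx.Ev t'
    · exact ⟨x, hx, huniq a1 hz (a2.trans e) (a3.trans hp)⟩
    · have hxt := mul_mem hx (C.mem_self ht)
      obtain ⟨b1, b2, b3⟩ := hmem _ hxt
      refine ⟨x * t, hxt, huniq b1 hz ?_ ?_⟩
      · rw [b2, hf.map_mul _ hx _ (C.mem_self ht), (C.ker_iff ht hf (C.mem_self ht)).2 (Or.inr rfl), mul_one, e]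
      · rw [b3, hop x hx t (C.mem_self ht)]
        by_cases h : x ∈ Ctx.Ev t <;> by_cases h' : z ∈ Ctx.Ev t' <;> simp_all
  · obtain ⟨a1, a2, a3⟩ := hmem t (C.mem_self ht)
    refine huniq a1 hti' ?_ (a3.trans (iff_of_false hnot hnot'))
    rw [a2, h1t', (C.ker_iff ht hf (C.mem_self ht)).2 (Or.inr rfl)]
  · obtain ⟨y', hy', e⟩ := hf'.lift (f y) (hf.mem y hy)
    exact hnb y hy y' hy' e ▸ hy'
  · obtain ⟨y, hy, e⟩ := hf.lift (f' z) (hf'.mem z hz)
    exact ⟨y, hy, hnb y hy z hz e.symm⟩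

namespace Ctx

variable (C : Ctx D D1)
include C

omit [Finite G'] in
/-- The centraliser of two commuting transpositions is generated by their common neighbours. -/
theorem com_near {t u : G} (ht : t ∈ D) (hu : u ∈ Nb D t) :
    t ∈ Subgroup.closure (Com D t u) ∧ u ∈ Subgroup.closure (Com D t u) ∧
      Subgroup.centralizer ({t, u} : Set G) = Subgroup.closure (Com D t u) := by
  obtain ⟨f, hf⟩ := C.chart t ht
  obtain ⟨φ, hφs, hφ, hφk⟩ := C.exists_hom ht hf
  set K := Subgroup.closure (Com D t u) with hKdef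
  have hKH : K ≤ Hd D t := Subgroup.closure_mono Set.inter_subset_left
  set L := Subgroup.closure (Nb D1 (f u))
  have hcl := C.low.closure_nb (hf.mem u hu)
  have hlift : ∀ z ∈ L, ∃ x ∈ K, x ∈ Hd D t ∧ f x = z := fun z hz =>
    hf.exists_of_mem_closure (S := Com D t u) (fun y hy => Subgroup.subset_closure hy.1)
      (by rw [Com, hf.nb_inter hu]; exact hz)
  have hev : ∀ z ∈ L, ∃ x ∈ K, x ∈ Ctx.Ev t ∧ f x = z := by
    intro z hz
    obtain ⟨hperf, -⟩ := (FischerUnique23.centralizer_facts C.low.group C.low.prim C.low.type (hf.mem u hu)).2.1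
    set K' := K.subgroupOf (Hd D t)
    have hmap : K'.map φ = L := by
      refine le_antisymm ?_ fun w hw => ?_
      · rintro _ ⟨x, hx, rfl⟩
        rw [hφ]
        have hx' : (x : G) ∈ K := hx
        have : f x ∈ Subgroup.closure (f '' Com D t u) := by
          revert hx'
          generalize (x : G) = w
          intro hw
          induction hw using Subgroup.closure_induction with
          | mem y hy => exact Subgroup.subset_closure ⟨y, hy, rfl⟩
          | one => rw [hf.map_one]; exact one_mem _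
          | mul a b ha hb ea eb => rw [hf.map_mul _ (hKH ha) _ (hKH hb)]; exact mul_mem ea eb
          | inv a ha ea => rw [hf.map_inv (hKH ha)]; exact inv_mem ea
        rwa [Com, hf.nb_inter hu] at this
      · obtain ⟨x, hx, hxH, rfl⟩ := hlift w hw
        exact ⟨⟨x, hxH⟩, hx, hφ _⟩
    have hLL : ⁅L, L⁆ = L := by
      have := congrArg (Subgroup.map L.subtype) hperf.commutator_eq_top
      rwa [commutator_def, Subgroup.map_commutator, ← MonoidHom.range_eq_map, Subgroup.range_subtype] at this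
    rw [← hLL, ← hmap, ← Subgroup.map_commutator] at hz
    obtain ⟨x, hx, rfl⟩ := hz
    refine ⟨x, Subgroup.commutator_le_self K' hx, ?_, (hφ x).symm⟩
    have hxm : (x : G) ∈ ⁅K'.map (Hd D t).subtype, K'.map (Hd D t).subtype⁆ := by
      rw [← Subgroup.map_commutator]; exact ⟨x, hx, rfl⟩
    have hle : K'.map (Hd D t).subtype ≤ Subgroup.centralizer ({t} : Set G) := by
      rintro _ ⟨w, -, rfl⟩
      exact (C.centralizer ht).ge w.2
    exact Subgroup.commutator_mono hle hle hxm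
  obtain ⟨hnot, hodd, -, -⟩ := C.parity ht
  have huL : f u ∈ L := by
    show f u ∈ Subgroup.closure (Nb D1 (f u))
    rw [hcl]
    exact Subgroup.mem_centralizer_singleton_iff.2 rfl
  have hu' : u ∈ Hd D t := Subgroup.subset_closure hu
  have hti := C.mem_self ht
  have ht1 : f t = 1 := (C.ker_iff ht hf hti).2 (Or.inr rfl)
  have hstep : ∀ {x g}, x ∈ Hd D t → g ∈ Hd D t → f x = f g → x = g ∨ x * t = g := by
    intro x g hx hg e
    have h1 : f (x⁻¹ * g) = 1 := by rw [hf.map_mul _ (inv_mem hx) _ hg, hf.map_inv hx, e, inv_mul_cancel]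
    rcases (C.ker_iff ht hf (mul_mem (inv_mem hx) hg)).1 h1 with h | h
    · exact Or.inl (inv_mul_eq_one.1 h)
    · exact Or.inr (by rw [← h, mul_inv_cancel_left])
  have htK : t ∈ K := by
    obtain ⟨y, hy⟩ := Set.nonempty_of_ncard_ne_zero (s := Nb D t ∩ Nb D u)
      (by rw [C.card_edge ht hu]; norm_num)
    have hyL : f y ∈ L := Subgroup.subset_closure (by rw [← hf.nb_inter hu]; exact ⟨y, hy, rfl⟩)
    obtain ⟨x, hx, hxe, e⟩ := hev _ hyL
    have hyH : y ∈ Hd D t := Subgroup.subset_closure hy.1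
    rcases hstep (hKH hx) hyH e with h | h
    · exact absurd (h ▸ hxe) (hodd y hy.1)
    · have hyK : y ∈ K := Subgroup.subset_closure hy
      rw [← h] at hyK
      exact (Subgroup.mul_mem_cancel_left K hx).1 hyK
  have huK : u ∈ K := by
    obtain ⟨x, hx, hxH, e⟩ := hlift _ huL
    rcases hstep hxH hu' e with h | h
    · exact h ▸ hx
    · exact h ▸ mul_mem hx htK
  refine ⟨htK, huK, le_antisymm (fun g hg => ?_) C.com_le⟩
  have hg' := Subgroup.mem_centralizer_iff.1 hg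
  have hgH : g ∈ Hd D t := (C.centralizer ht).le
    (Subgroup.mem_centralizer_singleton_iff.2 (hg' t (Or.inl rfl)).symm)
  have hgL : f g ∈ L := by
    show f g ∈ Subgroup.closure (Nb D1 (f u))
    rw [hcl, Subgroup.mem_centralizer_singleton_iff, ← hf.map_mul _ hgH _ hu', ← hf.map_mul _ hu' _ hgH,
      hg' u (Or.inr rfl)]
  obtain ⟨x, hx, hxH, e⟩ := hlift _ hgL
  rcases hstep hxH hgH e with h | h
  · exact h ▸ hx
  · exact h ▸ mul_mem hx htK

end Ctx

end Cfsg.Agent.FischerUnique24
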