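import Cfsg.Agent.Lib.FischerUnique24.Chart

/-!
Two non-commuting transpositions in a group of type M(24): their joint centraliser is generated by the
common neighbours, on which it is transitive, and the counts that follow.
-/

set_option autoImplicit false

namespace Cfsg.Agent.FischerUnique24

open Cfsg.Agent.Fischer
open Cfsg.Agent.Fischer.Factor

variable {G X : Type*} [Group G] [Group X] [Finite G] [Finite X] {D : Set G} {D1 : Set X}

/-- The common neighbours. -/
def Com (D : Set G) (a b : G) : Set G := Nb D a ∩ Nb D b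

namespace Ctx

variable (C : Ctx D D1)
include C

omit [Finite X] [Finite G] in
theorem com_le {a b : G} : Subgroup.closure (Com D a b) ≤ Subgroup.centralizer ({a, b} : Set G) := by
  rw [Subgroup.closure_le]
  intro y hy
  rw [SetLike.mem_coe, Subgroup.mem_centralizer_iff]
  rintro v (rfl | rfl)
  exacts [hy.1.2.2.eq, hy.2.2.2.eq]

omit [Finite X] [Finite G] in
theorem conj_com {a b g y : G} (hg : g ∈ Subgroup.centralizer ({a, b} : Set G)) (hy : y ∈ Com D a b) :
    g * y * g⁻¹ ∈ Com D a b := by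
  have h := Subgroup.mem_centralizer_iff.1 hg
  have e1 : g * a * g⁻¹ = a := mul_inv_eq_iff_eq_mul.2 (h a (Or.inl rfl)).symm
  have e2 : g * b * g⁻¹ = b := mul_inv_eq_iff_eq_mul.2 (h b (Or.inr rfl)).symm
  exact ⟨e1 ▸ nb_conj C.group g hy.1, e2 ▸ nb_conj C.group g hy.2⟩

/-- The frame at a common neighbour. -/
theorem com_frame {a b s : G} (hab : ¬ Commute a b) (ha : a ∈ D) (hb : b ∈ D) (hs : s ∈ Com D a b) :
    ∃ f : G → X, IsChart D D1 s f ∧ a ∈ Nb D s ∧ b ∈ Nb D s ∧ f b ∈ Far D1 (f a) ∧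
      f '' (Nb D s ∩ Com D a b) = Nb D1 (f a) ∩ Nb D1 (f b) := by
  obtain ⟨f, hf⟩ := C.chart s hs.1.1
  have h1 : a ∈ Nb D s := ⟨ha, hs.1.2.1.symm, hs.1.2.2.symm⟩
  have h2 : b ∈ Nb D s := ⟨hb, hs.2.2.1.symm, hs.2.2.2.symm⟩
  refine ⟨f, hf, h1, h2, ⟨hf.mem b h2, fun h => hab ((hf.comm a h1 b h2).1 h)⟩, ?_⟩
  rw [← hf.nb_inter₂ h1 h2, Com, Set.inter_assoc]

/-- The centraliser of a pair and a common neighbour is generated inside the common neighbours. -/
theorem triple_le {a b s : G} (hab : ¬ Commute a b) (ha : a ∈ D) (hb : b ∈ D) (hs : s ∈ Com D a b) :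
    Subgroup.centralizer ({a, b, s} : Set G) ≤ Subgroup.closure (Com D a b) ∧
      Nat.card (Subgroup.centralizer ({a, b, s} : Set G)) = 9170703360 := by
  obtain ⟨f, hf, h1, h2, hB, himg⟩ := C.com_frame hab ha hb hs
  obtain ⟨hcl, hcard, -, -⟩ := C.low.pair (hf.mem a h1) hB
  rw [← himg] at hcl hcard
  set R := Subgroup.centralizer ({a, b, s} : Set G)
  set S := Nb D s ∩ Com D a b
  have hSR : Subgroup.closure S ≤ R := by
    rw [Subgroup.closure_le]
    rintro y ⟨hys, hya, hyb⟩
    rw [SetLike.mem_coe, Subgroup.mem_centralizer_iff]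
    rintro v (rfl | rfl | rfl)
    exacts [hya.2.2.eq, hyb.2.2.eq, hys.2.2.eq]
  have hR : ∀ g ∈ R, g ∈ Hd D s ∧ Commute g a ∧ Commute g b := fun g hg => by
    have h := Subgroup.mem_centralizer_iff.1 hg
    refine ⟨(C.centralizer hs.1.1).le (Subgroup.mem_centralizer_singleton_iff.2 ?_),
      (h a (Or.inl rfl)).symm, (h b (Or.inr (Or.inl rfl))).symm⟩
    exact (h s (Or.inr (Or.inr rfl))).symm
  have hsR : s ∈ R := by
    rw [Subgroup.mem_centralizer_iff]
    rintro v (rfl | rfl | rfl)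
    exacts [h1.2.2.symm.eq, h2.2.2.symm.eq, rfl]
  let φ : R →* X := MonoidHom.mk' (fun x => f x) fun x y => hf.map_mul x (hR x x.2).1 y (hR y y.2).1
  have hrange : φ.range = Subgroup.closure (f '' S) := by
    refine le_antisymm ?_ ?_
    · rintro _ ⟨⟨g, hg⟩, rfl⟩
      obtain ⟨hgH, hga, hgb⟩ := hR g hg
      have hfix : ∀ {v}, v ∈ Nb D s → Commute g v → Commute (f g) (f v) := fun {v} hv hc => by
        have hv' : v ∈ Hd D s := Subgroup.subset_closure hv
        show f g * f v = f v * f g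
        rw [← hf.map_mul g hgH v hv', ← hf.map_mul v hv' g hgH, hc.eq]
      rw [hcl, Subgroup.mem_centralizer_iff]
      rintro v (rfl | rfl)
      exacts [(hfix h1 hga).symm.eq, (hfix h2 hgb).symm.eq]
    · rw [Subgroup.closure_le]
      rintro _ ⟨y, hy, rfl⟩
      exact ⟨⟨y, hSR (Subgroup.subset_closure hy)⟩, rfl⟩
  refine ⟨fun g hg => ?_, ?_⟩
  · obtain ⟨x, hx, hxH, hxe⟩ := hf.exists_of_mem_closure (S := S)
      (fun y hy => Subgroup.subset_closure hy.1) (z := f g) (hrange ▸ ⟨⟨g, hg⟩, rfl⟩)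
    have hxL : x ∈ Subgroup.closure (Com D a b) := Subgroup.closure_mono Set.inter_subset_right hx
    have hgH := (hR g hg).1
    have h3 : f (x⁻¹ * g) = 1 := by
      rw [hf.map_mul _ (inv_mem hxH) _ hgH, hf.map_inv hxH, hxe, inv_mul_cancel]
    rcases (C.ker_iff hs.1.1 hf (mul_mem (inv_mem hxH) hgH)).1 h3 with e | e
    · rw [← inv_mul_eq_one.1 e]; exact hxL
    · rw [← mul_inv_cancel_left x g, e]
      exact mul_mem hxL (Subgroup.subset_closure hs)
  · have hk : (φ.ker : Set R) = {1, ⟨s, hsR⟩} := by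
      ext x
      simp only [SetLike.mem_coe, MonoidHom.mem_ker, Set.mem_insert_iff, Set.mem_singleton_iff]
      exact (C.ker_iff hs.1.1 hf (hR x x.2).1).trans
        ⟨fun h => h.imp (fun e => Subtype.ext e) (fun e => Subtype.ext e),
          fun h => h.imp (fun e => congrArg Subtype.val e) (fun e => congrArg Subtype.val e)⟩
    have h := Subgroup.card_eq_card_quotient_mul_card_subgroup φ.ker
    have hk' : Nat.card φ.ker = 2 := by
      show Nat.card ↥(φ.ker : Set R) = 2
      rw [hk, Nat.card_coe_set_eq,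
        Set.ncard_pair (fun e => TSet.ne_one C.group.1 hs.1.1 (congrArg Subtype.val e).symm)]
    rw [Nat.card_congr (QuotientGroup.quotientKerEquivRange φ).toEquiv, hrange, hcard, hk'] at h
    omega

omit C in
/-- Being moved to one another by the group of the common neighbours. -/
def SameOrb (D : Set G) (a b u v : G) : Prop := ∃ g ∈ Subgroup.closure (Com D a b), g * u * g⁻¹ = v

omit C [Finite G] [Finite X] in
theorem sameOrb_refl {a b u : G} : SameOrb D a b u u := ⟨1, one_mem _, by simp⟩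

omit C [Finite G] [Finite X] in
theorem sameOrb_symm {a b u v : G} (h : SameOrb D a b u v) : SameOrb D a b v u := by
  obtain ⟨g, hg, rfl⟩ := h
  exact ⟨g⁻¹, inv_mem hg, by group⟩

omit C [Finite G] [Finite X] in
theorem sameOrb_trans {a b u v w : G} (h : SameOrb D a b u v) (h' : SameOrb D a b v w) :
    SameOrb D a b u w := by
  obtain ⟨g, hg, rfl⟩ := h
  obtain ⟨k, hk, rfl⟩ := h'
  exact ⟨k * g, mul_mem hk hg, by group⟩

omit [Finite G] [Finite X] in
theorem sameOrb_of_far {a b u v : G} (hu : u ∈ Com D a b) (hv : v ∈ Com D a b) (h : ¬ Commute u v) :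
    SameOrb D a b u v :=
  ⟨u * v, mul_mem (Subgroup.subset_closure hu) (Subgroup.subset_closure hv),
    TSet.conj_swap C.group.1 hu.1.1 hv.1.1 h⟩

theorem absorb {a b s u v : G} (hab : ¬ Commute a b) (ha : a ∈ D) (hb : b ∈ D) (hs : s ∈ Com D a b)
    (hu : u ∈ Nb D s ∩ Com D a b) (hv : v ∈ Nb D s ∩ Com D a b) : SameOrb D a b u v := by
  obtain ⟨f, hf, h1, h2, hB, himg⟩ := C.com_frame hab ha hb hs
  obtain ⟨-, -, hsimp, -⟩ := C.low.pair (hf.mem a h1) hB
  rw [← himg] at hsimp
  set S := Nb D s ∩ Com D a b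
  by_contra hne
  set A : Set G := {y | y ∈ S ∧ SameOrb D a b u y}
  have hcomm : ∀ y ∈ A, ∀ w ∈ S, ¬ SameOrb D a b u w → Commute (f y) (f w) := by
    intro y hy w hw hnw
    refine (hf.comm y hy.1.1 w hw.1).2 ?_
    by_contra hc
    exact hnw (sameOrb_trans hy.2 (C.sameOrb_of_far hy.1.2 hw.2 hc))
  haveI := hsimp
  set K := Subgroup.closure (f '' S)
  set N := Subgroup.closure (f '' A)
  have hNK : N ≤ K := Subgroup.closure_mono (Set.image_mono fun y hy => hy.1)
  have hnorm : (N.subgroupOf K).Normal := by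
    rw [Subgroup.normal_subgroupOf_iff_le_normalizer hNK, Subgroup.closure_le]
    rintro _ ⟨w, hw, rfl⟩
    by_cases hA : SameOrb D a b u w
    · exact Subgroup.le_normalizer (Subgroup.subset_closure ⟨w, ⟨hw, hA⟩, rfl⟩)
    · refine Subgroup.centralizer_le_normalizer (N : Set X) ?_
      rw [Subgroup.centralizer_closure, Subgroup.mem_centralizer_iff]
      rintro _ ⟨y, hy, rfl⟩
      exact (hcomm y hy w hw hA).eq
  have hne1 : ∀ {y}, y ∈ Nb D s → f y ≠ 1 := fun {y} hy => TSet.ne_one C.low.group.1 (hf.mem y hy)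
  rcases hnorm.eq_bot_or_eq_top with e | e
  · rw [Subgroup.subgroupOf_eq_bot, disjoint_iff, inf_eq_left.2 hNK] at e
    exact hne1 hu.1 (Subgroup.mem_bot.1 (e ▸ Subgroup.subset_closure ⟨u, ⟨hu, sameOrb_refl⟩, rfl⟩))
  · rw [Subgroup.subgroupOf_eq_top] at e
    have hc : (⟨f v, Subgroup.subset_closure ⟨v, hv, rfl⟩⟩ : K) ∈ Subgroup.center K := by
      refine Subgroup.mem_center_iff.2 fun k => Subtype.ext ?_
      have hk : (k : X) ∈ Subgroup.centralizer ({f v} : Set X) := by
        refine ((Subgroup.closure_le _).2 ?_ : N ≤ _) (e k.2)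
        rintro _ ⟨y, hy, rfl⟩
        exact Subgroup.mem_centralizer_singleton_iff.2 (hcomm y hy v hv hne).eq
      exact Subgroup.mem_centralizer_singleton_iff.1 hk
    have hz : Subgroup.center K = ⊥ :=
      (Subgroup.Normal.eq_bot_or_eq_top inferInstance).resolve_right fun h => by
        set y : K := ⟨f u, Subgroup.subset_closure ⟨u, hu, rfl⟩⟩
        have hy1 : y ≠ 1 := fun h' => hne1 hu.1 (congrArg Subtype.val h')
        have hn : (Subgroup.zpowers y).Normal := ⟨fun n hn g => by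
          rwa [← Subgroup.mem_center_iff.1 (h.ge (Subgroup.mem_top g)) n, mul_inv_cancel_right]⟩

        have ht := hn.eq_bot_or_eq_top.resolve_left fun h' => hy1 (Subgroup.zpowers_eq_bot.1 h')
        have ho : orderOf y = 2 := by
          rw [← Subgroup.orderOf_coe]
          exact C.low.group.1.1 _ (hf.mem u hu.1)
        have hK := (C.low.pair (hf.mem a h1) hB).2.1
        rw [← himg] at hK
        rw [← Nat.card_zpowers, ht, Subgroup.card_top, hK] at ho
        norm_num at ho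
    rw [hz, Subgroup.mem_bot] at hc
    exact hne1 hv.1 (congrArg Subtype.val hc)

/-- The common neighbours are one class of the group they generate. -/
theorem trans_com {a b s y : G} (hab : ¬ Commute a b) (ha : a ∈ D) (hb : b ∈ D) (hs : s ∈ Com D a b)
    (hy : y ∈ Com D a b) : SameOrb D a b s y := by
  by_contra hne
  have hnear : ∀ {p q}, p ∈ Com D a b → q ∈ Com D a b → ¬ SameOrb D a b p q → q ∈ Nb D p ∩ Com D a b :=
    fun {p q} hp hq h => ⟨⟨hq.1.1, fun e => h (e ▸ sameOrb_refl),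
      by_contra fun hc => h (C.sameOrb_of_far hp hq hc)⟩, hq⟩
  obtain ⟨f, hf, h1, h2, hB, himg⟩ := C.com_frame hab ha hb hs
  obtain ⟨-, -, -, -, U, hU, V, hV, hUV, hcUV⟩ := C.low.pair (hf.mem a h1) hB
  rw [← himg] at hU hV
  obtain ⟨u, hu, rfl⟩ := hU
  obtain ⟨v, hv, rfl⟩ := hV
  have huy := C.absorb hab ha hb hs hu (hnear hs hy hne)
  have hvy := C.absorb hab ha hb hs hv (hnear hs hy hne)
  have hvu : v ∈ Nb D u ∩ Com D a b :=
    ⟨⟨hv.1.1, fun e => hUV (by rw [e]), (hf.comm u hu.1 v hv.1).1 hcUV⟩, hv.2⟩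
  have hsu : s ∈ Nb D u ∩ Com D a b := ⟨⟨hs.1.1, hu.1.2.1.symm, hu.1.2.2.symm⟩, hs⟩
  exact hne (sameOrb_trans (C.absorb hab ha hb hu.2 hsu hvu) hvy)

/-- The joint centraliser is generated by the common neighbours. -/
theorem centralizer_pair {a b : G} (hab : ¬ Commute a b) (ha : a ∈ D) (hb : b ∈ D) :
    Subgroup.centralizer ({a, b} : Set G) = Subgroup.closure (Com D a b) := by
  refine le_antisymm (fun g hg => ?_) C.com_le
  obtain ⟨s, hs1, hs2⟩ := C.exists_common ha hb hab
  have hs : s ∈ Com D a b := ⟨hs1, hs2⟩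
  obtain ⟨k, hk, hks⟩ := C.trans_com hab ha hb (C.conj_com hg hs) hs
  have hkg : k * g ∈ Subgroup.centralizer ({a, b, s} : Set G) := by
    have hk' := mul_mem (C.com_le hk) hg
    rw [Subgroup.mem_centralizer_iff]
    rintro v (rfl | rfl | rfl)
    · exact Subgroup.mem_centralizer_iff.1 hk' v (Or.inl rfl)
    · exact Subgroup.mem_centralizer_iff.1 hk' v (Or.inr rfl)
    · refine (mul_inv_eq_iff_eq_mul.1 ?_).symm
      calc k * g * v * (k * g)⁻¹ = k * (g * v * g⁻¹) * k⁻¹ := by group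
        _ = v := hks
  have := mul_mem (inv_mem hk) ((C.triple_le hab ha hb hs).1 hkg)
  rwa [inv_mul_cancel_left] at this

theorem card_pair_cent {a b : G} (hab : ¬ Commute a b) (ha : a ∈ D) (hb : b ∈ D) :
    Nat.card (Subgroup.closure (Com D a b)) = (Com D a b).ncard * 9170703360 := by
  obtain ⟨s₀, hs1, hs2⟩ := C.exists_common ha hb hab
  have hs₀ : s₀ ∈ Com D a b := ⟨hs1, hs2⟩
  set L := Subgroup.closure (Com D a b) with hL
  have hk : ∀ g ∈ (L : Set G), {y | y ∈ Com D a b ∧ g * s₀ * g⁻¹ = y}.ncard = 1 := by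
    intro g hg
    rw [show {y | y ∈ Com D a b ∧ g * s₀ * g⁻¹ = y} = {g * s₀ * g⁻¹} from Set.ext fun y =>
      ⟨fun h => h.2.symm, fun h => ⟨h ▸ C.conj_com (C.com_le hg) hs₀, h.symm⟩⟩, Set.ncard_singleton]
  have hm : ∀ y ∈ Com D a b, {g | g ∈ (L : Set G) ∧ g * s₀ * g⁻¹ = y}.ncard = 9170703360 := by
    intro y hy
    obtain ⟨k, hk, hky⟩ := C.trans_com hab ha hb hs₀ hy
    obtain ⟨hle, hcard⟩ := C.triple_le hab ha hb hs₀
    have : {g | g ∈ (L : Set G) ∧ g * s₀ * g⁻¹ = y} =
        (k * ·) '' (Subgroup.centralizer ({a, b, s₀} : Set G) : Set G) := by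
      refine Set.Subset.antisymm (fun g hg => ⟨k⁻¹ * g, ?_, mul_inv_cancel_left k g⟩) ?_
      · have hkg := C.com_le (mul_mem (inv_mem hk) hg.1)
        rw [SetLike.mem_coe, Subgroup.mem_centralizer_iff]
        rintro v (rfl | rfl | rfl)
        · exact Subgroup.mem_centralizer_iff.1 hkg v (Or.inl rfl)
        · exact Subgroup.mem_centralizer_iff.1 hkg v (Or.inr rfl)
        · refine (mul_inv_eq_iff_eq_mul.1 ?_).symm
          calc k⁻¹ * g * v * (k⁻¹ * g)⁻¹ = k⁻¹ * (g * v * g⁻¹) * k := by group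
            _ = v := by rw [hg.2, ← hky]; group
      · rintro _ ⟨r, hr, rfl⟩
        refine ⟨mul_mem hk (hle hr), ?_⟩
        have := Subgroup.mem_centralizer_iff.1 hr s₀ (Or.inr (Or.inr rfl))
        calc k * r * s₀ * (k * r)⁻¹ = k * (r * s₀ * r⁻¹) * k⁻¹ := by group
          _ = y := by rw [← this, mul_inv_cancel_right, hky]
    rw [this, Set.ncard_image_of_injective _ (mul_right_injective k), ← Nat.card_coe_set_eq,
      SetLike.coe_sort_coe, hcard]
  have := double_count (fun g y => g * s₀ * g⁻¹ = y) hk hm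
  rwa [mul_one, ← Nat.card_coe_set_eq, SetLike.coe_sort_coe] at this

theorem center_pair {a b : G} (hab : ¬ Commute a b) (ha : a ∈ D) (hb : b ∈ D) :
    Subgroup.center (Subgroup.closure (Com D a b)) = ⊥ := by
  rw [Subgroup.eq_bot_iff_forall]
  rintro ⟨z, hz⟩ hzc
  have hcy : ∀ y ∈ Com D a b, Commute z y := fun y hy =>
    (congrArg Subtype.val (Subgroup.mem_center_iff.1 hzc ⟨y, Subgroup.subset_closure hy⟩)).symm
  have hsing : ∀ s ∈ Com D a b, z = 1 ∨ z = s := by
    intro s hs
    obtain ⟨f, hf, h1, h2, hB, himg⟩ := C.com_frame hab ha hb hs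
    obtain ⟨hcl, hcard, hsimp, -, U, hU, -, -, -, -⟩ := C.low.pair (hf.mem a h1) hB
    haveI := hsimp
    have hzH : z ∈ Hd D s :=
      (C.centralizer hs.1.1).le (Subgroup.mem_centralizer_singleton_iff.2 (hcy s hs).eq)
    have hfc : ∀ y ∈ Nb D s, Commute z y → Commute (f z) (f y) := fun y hy hc => by
      have hy' : y ∈ Hd D s := Subgroup.subset_closure hy
      show f z * f y = f y * f z
      rw [← hf.map_mul z hzH y hy', ← hf.map_mul y hy' z hzH, hc.eq]
    have hza := Subgroup.mem_centralizer_iff.1 (C.com_le hz)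
    have hzK : f z ∈ Subgroup.closure (Nb D1 (f a) ∩ Nb D1 (f b)) := by
      rw [hcl, Subgroup.mem_centralizer_iff]
      rintro v (rfl | rfl)
      exacts [(hfc a h1 (hza a (Or.inl rfl)).symm).symm.eq, (hfc b h2 (hza b (Or.inr rfl)).symm).symm.eq]
    have hall : ∀ k ∈ Subgroup.closure (Nb D1 (f a) ∩ Nb D1 (f b)), Commute (f z) k := by
      intro k hk
      induction hk using Subgroup.closure_induction with
      | mem w hw =>
        rw [← himg] at hw
        obtain ⟨y, hy, rfl⟩ := hw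
        exact hfc y hy.1 (hcy y hy.2)
      | one => exact Commute.one_right _
      | mul p q _ _ h h' => exact h.mul_right h'
      | inv p _ h => exact h.inv_right
    have h3 : f z = 1 := by
      by_contra hne
      set w : Subgroup.closure (Nb D1 (f a) ∩ Nb D1 (f b)) := ⟨f z, hzK⟩
      have hw : w ∈ Subgroup.center _ := Subgroup.mem_center_iff.2 fun k => Subtype.ext (hall k k.2).symm.eq
      have hn : (Subgroup.zpowers w).Normal := ⟨fun n hn g => by
        obtain ⟨i, rfl⟩ := hn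
        rw [(Subgroup.mem_center_iff.1 (zpow_mem hw i) g), mul_inv_cancel_right]
        exact Subgroup.zpow_mem_zpowers w i⟩
      have ht := hn.eq_bot_or_eq_top.resolve_left fun h' =>
        hne (congrArg Subtype.val (Subgroup.zpowers_eq_bot.1 h'))
      have hu : (⟨U, Subgroup.subset_closure hU⟩ : Subgroup.closure (Nb D1 (f a) ∩ Nb D1 (f b))) ∈
          Subgroup.center _ := Subgroup.zpowers_le.2 hw (ht ▸ Subgroup.mem_top _)
      have hn' : (Subgroup.zpowers (⟨U, Subgroup.subset_closure hU⟩ :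
          Subgroup.closure (Nb D1 (f a) ∩ Nb D1 (f b)))).Normal := ⟨fun n hn g => by
        obtain ⟨i, rfl⟩ := hn
        rw [(Subgroup.mem_center_iff.1 (zpow_mem hu i) g), mul_inv_cancel_right]
        exact Subgroup.zpow_mem_zpowers _ i⟩
      have ht' := hn'.eq_bot_or_eq_top.resolve_left fun h' =>
        TSet.ne_one C.low.group.1 hU.1.1 (congrArg Subtype.val (Subgroup.zpowers_eq_bot.1 h'))
      have ho := C.low.group.1.1 U hU.1.1
      rw [← Subgroup.orderOf_mk U (Subgroup.subset_closure hU), ← Nat.card_zpowers, ht', Subgroup.card_top,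
        hcard] at ho
      norm_num at ho
    exact (C.ker_iff hs.1.1 hf hzH).1 h3
  obtain ⟨s, hs1, hs2⟩ := C.exists_common ha hb hab
  obtain ⟨f, hf, h1, h2, hB, himg⟩ := C.com_frame hab ha hb (s := s) ⟨hs1, hs2⟩
  obtain ⟨-, -, -, -, U, hU, -, -, -, -⟩ := C.low.pair (hf.mem a h1) hB
  rw [← himg] at hU
  obtain ⟨u, hu, -⟩ := hU
  refine Subtype.ext ?_
  rcases hsing s ⟨hs1, hs2⟩ with h | h
  · exact h
  rcases hsing u hu.2 with h' | h'
  · exact h'
  · exact absurd (h'.symm.trans h) hu.1.2.1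

end Ctx

end Cfsg.Agent.FischerUnique24
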