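import Cfsg.Agent.Lib.FischerUnique24.SymmetricFrame
import Cfsg.Agent.Lib.Orthogonal.POmega
import Cfsg.Agent.S0293

/-!
The normaliser of the group of order three generated by a product of two non-commuting transpositions.
-/

set_option autoImplicit false

namespace Cfsg.Agent.FischerUnique24

open Cfsg.Agent.Fischer
open Cfsg.Agent.Fischer.Factor
open Cfsg.Agent.FischerUnique23 (product_facts sym_three)

variable {G X : Type*} [Group G] [Group X] [Finite G] [Finite X] {D : Set G} {D1 : Set X}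

theorem pomega_plus_simple : IsSimpleGroup (Cfsg.POmega (ZMod 3) (Cfsg.quadFormPlus 4 (ZMod 3))) := by
  have h := Cfsg.Agent.Orth.pomega_congr (Cfsg.Agent.Orth.qPlus_nondeg (F := ZMod 3) 4)
    (show 7 ≤ Fintype.card (Fin 4 ⊕ Fin 4) by simp)
  rwa [Cfsg.Agent.Orth.coe_qPlus] at h

theorem pomega_plus_card : Nat.card (Cfsg.POmega (ZMod 3) (Cfsg.quadFormPlus 4 (ZMod 3))) = 4952179814400 := by
  have h8 := S0293.result (F := ZMod 3) (q := 3) (ZMod.card 3) 4 le_rfl
  norm_num [Finset.prod_range_succ, -Nat.card_eq_fintype_card] at h8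
  omega

omit [Group X] [Finite X] in
theorem not_all_commute {H : Type*} [Group H] (hs : IsSimpleGroup H) {n : ℕ} (hn : Nat.card H = n)
    (hp : ¬ n.Prime) : ∃ x y : H, ¬ Commute x y := by
  by_contra hall
  push Not at hall
  haveI := hs
  letI : CommGroup H := { ‹Group H› with mul_comm := fun x y => (hall x y).eq }
  exact hp (hn ▸ IsSimpleGroup.prime_card)

namespace Ctx

variable (C : Ctx D D1)
include C

/-- The simple normal subgroup of the joint centraliser. -/
theorem exists_simple (h24 : Cfsg.IsOfTypeM24 G D) {a b : G} (hab : ¬ Commute a b) (ha : a ∈ D) (hb : b ∈ D) :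
    ∃ (N : Subgroup ↥(Subgroup.closure (Com D a b))) (_ : N.Normal),
      Nonempty (N ≃* Cfsg.POmega (ZMod 3) (Cfsg.quadFormPlus 4 (ZMod 3))) ∧
      Nonempty (↥(Subgroup.closure (Com D a b)) ⧸ N ≃* Equiv.Perm (Fin 3)) := by
  obtain ⟨-, p, hp, q, hq, hpq, -, N, hN, ⟨eN⟩, ⟨eS⟩⟩ := h24
  obtain ⟨g, hgp, hgq⟩ := C.trans_far hp hq hpq ha hb hab
  set L₀ := Subgroup.closure ({y : G | y ∈ D ∧ y ≠ p ∧ Commute p y} ∩ {y : G | y ∈ D ∧ y ≠ q ∧ Commute q y})
  have hz : Subgroup.center L₀ = ⊥ := C.center_pair hpq hp hq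
  have hmap : L₀.map (MulAut.conj g).toMonoidHom = Subgroup.closure (Com D a b) := by
    rw [MonoidHom.map_closure]
    congr 1
    refine Set.Subset.antisymm ?_ fun y hy => ?_
    · rintro _ ⟨y, hy, rfl⟩
      exact ⟨hgp ▸ nb_conj C.group g hy.1, hgq ▸ nb_conj C.group g hy.2⟩
    · refine ⟨g⁻¹ * y * g, ⟨?_, ?_⟩, by simp [MulAut.conj_apply, mul_assoc]⟩
      · have := nb_conj C.group g⁻¹ hy.1
        rwa [inv_inv, show g⁻¹ * a * g = p by rw [← hgp]; group] at this
      · have := nb_conj C.group g⁻¹ hy.2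
        rwa [inv_inv, show g⁻¹ * b * g = q by rw [← hgq]; group] at this
  let e : (L₀ ⧸ Subgroup.center L₀) ≃* ↥(Subgroup.closure (Com D a b)) :=
    (((QuotientGroup.quotientMulEquivOfEq hz).trans QuotientGroup.quotientBot).trans
      ((MulAut.conj g).subgroupMap L₀)).trans (MulEquiv.subgroupCongr hmap)
  haveI := hN
  haveI hN' : (N.map (e : (L₀ ⧸ Subgroup.center L₀) →* ↥(Subgroup.closure (Com D a b)))).Normal := Subgroup.Normal.map hN _ e.surjective
  exact ⟨N.map (e : (L₀ ⧸ Subgroup.center L₀) →* ↥(Subgroup.closure (Com D a b))), hN', ⟨(e.subgroupMap N).symm.trans eN⟩,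
    ⟨(QuotientGroup.congr N _ e rfl).symm.trans eS⟩⟩

theorem normalizer_facts (h24 : Cfsg.IsOfTypeM24 G D) {a d : G} {Xg S L : Subgroup G} (ha : a ∈ D) (hd : d ∈ D)
    (hnc : ¬ Commute a d) (hX : Xg = Subgroup.zpowers (a * d)) (hS : S = Subgroup.closure ({a, d} : Set G))
    (hL : L = Subgroup.centralizer ({a, d} : Set G)) :
    S ⊓ L = ⊥ ∧ (∀ x ∈ S, ∀ y ∈ L, x * y = y * x) ∧
      S ⊔ L = Subgroup.normalizer ((Xg : Subgroup G) : Set G) ∧ Nonempty (↥S ≃* Equiv.Perm (Fin 3)) ∧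
      L = Subgroup.closure {y : G | y ∈ D ∧ Commute a y ∧ Commute d y ∧ y ≠ a ∧ y ≠ d} ∧
      Nonempty (↥(Cfsg.generalizedFittingSubgroup ↥L) ≃* Cfsg.POmega (ZMod 3) (Cfsg.quadFormPlus 4 (ZMod 3))) ∧
      (∃ _ : (Cfsg.generalizedFittingSubgroup ↥L).Normal,
        Nonempty (↥L ⧸ Cfsg.generalizedFittingSubgroup ↥L ≃* Equiv.Perm (Fin 3))) ∧
      Cfsg.commutingWidth (D ∩ (Subgroup.centralizer ((Xg : Subgroup G) : Set G) : Set G)) = 8 := by
  subst hX hS
  obtain rfl : L = Subgroup.closure (Com D a d) := hL.trans (C.centralizer_pair hnc ha hd)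
  obtain ⟨h3, -, -, ia, id', -⟩ := product_facts C.group ha hd hnc
  have hcomm : ∀ x ∈ Subgroup.closure ({a, d} : Set G), ∀ y ∈ Subgroup.closure (Com D a d), x * y = y * x := by
    intro x hx y hy
    induction hx using Subgroup.closure_induction with
    | mem v hv => exact Subgroup.mem_centralizer_iff.1 (C.com_le hy) v hv
    | one => simp
    | mul p q _ _ hp hq => exact (Commute.mul_left hp hq).eq
    | inv p _ hp => exact (Commute.inv_left hp).eq
  refine ⟨?_, hcomm, ?_, (sym_three C.group ha hd hnc).1, ?_, ?_⟩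
  · rw [eq_bot_iff]
    rintro x ⟨hxS, hxL⟩
    have h : (⟨x, hxL⟩ : Subgroup.closure (Com D a d)) ∈ Subgroup.center _ :=
      Subgroup.mem_center_iff.2 fun y => Subtype.ext (hcomm x hxS y y.2).symm
    rw [C.center_pair hnc ha hd, Subgroup.mem_bot] at h
    exact Subgroup.mem_bot.2 (congrArg Subtype.val h)
  · refine le_antisymm (sup_le ?_ ?_) fun g hg => ?_
    · rw [Subgroup.closure_le]
      rintro v hv
      have hv2 : v * v = 1 := by rcases hv with rfl | rfl <;> exact TSet.sq C.group.1 ‹_›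
      have hvi : v * (a * d) * v⁻¹ = (a * d)⁻¹ := by
        rw [inv_eq_of_mul_eq_one_right hv2]
        rcases hv with rfl | rfl
        exacts [ia, id']
      rw [SetLike.mem_coe, Subgroup.mem_normalizer_iff_map_conj_eq, MonoidHom.map_zpowers]
      show Subgroup.zpowers (v * (a * d) * v⁻¹) = _
      rw [hvi, Subgroup.zpowers_inv]
    · refine le_trans (fun y hy => ?_) (Subgroup.centralizer_le_normalizer _)
      rw [Subgroup.mem_centralizer_iff]
      rintro v ⟨k, rfl⟩
      have h1 := Subgroup.mem_centralizer_iff.1 (C.com_le hy) a (Or.inl rfl)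
      have h2 := Subgroup.mem_centralizer_iff.1 (C.com_le hy) d (Or.inr rfl)
      exact ((Commute.mul_left h1 h2).zpow_left k).eq
    · have := C.normalizer_pair hnc ha hd hg
      rwa [C.centralizer_pair hnc ha hd] at this
  · congr 1
    ext y
    exact ⟨fun h => ⟨h.1.1, h.1.2.2, h.2.2.2, h.1.2.1, h.2.2.1⟩,
      fun ⟨h1, h2, h3, h4, h5⟩ => ⟨⟨h1, h4, h2⟩, h1, h5, h3⟩⟩
  obtain ⟨N, hN, ⟨eN⟩, ⟨eS⟩⟩ := C.exists_simple h24 hnc ha hd
  haveI := hN
  have hs : IsSimpleGroup N := eN.isSimpleGroup_congr.2 pomega_plus_simple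
  have hncN : ∃ x y : N, ¬ Commute x y :=
    not_all_commute hs (n := 4952179814400) (by rw [Nat.card_congr eN.toEquiv, pomega_plus_card])
      (by norm_num)

  have hidx : N.index = 6 := by
    rw [Subgroup.index_eq_card, Nat.card_congr eS.toEquiv, Nat.card_perm, Nat.card_fin]; rfl
  have hF := fstar_eq_of_simple hs hncN (C.centralizer_bot hnc ha hd hs hncN hidx)
  refine ⟨⟨(MulEquiv.subgroupCongr hF).trans eN⟩, ⟨hF ▸ hN, ?_⟩, ?_⟩
  · subst hF
    exact ⟨eS⟩
  · rw [C.central_eq hnc ha hd]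
    exact C.width_com hnc ha hd

end Ctx

end Cfsg.Agent.FischerUnique24
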