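import Cfsg.Agent.Lib.FischerUnique24.Count

/-!
In a group of type M(24) a transposition is determined, up to its twin over a given one, by the common
neighbours it has with it, even when only those under one or two further commuting transpositions are used.
-/

set_option autoImplicit false
set_option maxRecDepth 100000

namespace Cfsg.Agent.FischerUnique24

open Cfsg.Agent.CosetCert
open Cfsg.Agent.CosetData
open Cfsg.Agent.Fischer
open Cfsg.Agent.Fischer.Factor
open Cfsg.Agent.FischerPresented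
open Cfsg.Agent.FischerUnique23 (gT GT exists_frame_noncomm)

local notation "FT" => Fi23A.setup

/-- Generators commuting with the first and with both ends of the frame. -/
def tripleGens : List ℕ := [0, 2, 3, 4, 5, 7, 8]

theorem tripleGens_ok : (tripleGens.all fun i => FischerUnique23.om7Gens.contains i &&
    wordFixPts Fi23A.P 31671 Fi23.pts [0, i, 0, i]) = true := by decide +kernel

theorem triple_fixed_ok : allBelow (fun p => Nat.beq p 0 || Nat.beq p 1 || Nat.beq p 29146 || Nat.beq p 26625 ||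
    tripleGens.any fun i => !Nat.beq (Fi23A.P.T.get (p * 10 + i)) p) 31671 = true := by decide +kernel

theorem tripleGens_spec {i : ℕ} (hi : i ∈ tripleGens) :
    i ∈ FischerUnique23.om7Gens ∧ Commute (gT 0) (gT i) := by
  have h := List.all_eq_true.1 tripleGens_ok i hi
  rw [Bool.and_eq_true] at h
  refine ⟨List.contains_iff_mem.1 h.1, ?_⟩
  have h2 := Fi23.word_one h.2
  simp only [wprod, List.map_cons, List.map_nil, List.prod_cons, List.prod_nil, mul_one] at h2
  exact (Fischer.commute_iff_sq_eq_one (Setup.gen_invol FT 0) (Setup.gen_invol FT i)).2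
    (by rw [pow_two, mul_assoc]; exact h2)

theorem centralizes_triple {y : GT} (hy : y ∈ Fi23.D) (h0 : y ≠ gT 0)
    (hc : ∀ i ∈ tripleGens, Commute (gT i) y) :
    y = Fi23.z ∨ y = gT 9 ∨ y = gT 9 * Fi23.z * gT 9 := by
  obtain ⟨⟨p, hp⟩, rfl⟩ := Out23.exists_tr hy
  have h := allBelow_spec triple_fixed_ok hp
  simp only [Bool.or_eq_true, Nat.beq_eq, List.any_eq_true, Bool.not_eq_true', or_assoc] at h
  rcases h with h | h | h | h | ⟨i, hi, hne⟩
  · exact Or.inl (h ▸ Out23.tr_zero)
  · subst h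
    refine Or.inr (Or.inr ?_)
    rw [Out23.tr_eq (g := gT 9) (Fin.ext ((Out23.hom_gen_val (by norm_num) _).trans
      (Nat.eq_of_beq_eq_true FischerUnique23.third_ok))), inv_eq_of_mul_eq_one_right (Setup.gen_invol FT 9)]
  · subst h; exact Or.inr (Or.inl FischerUnique23.tr_nine)
  · subst h
    obtain ⟨hlt, e⟩ := Out23.tr_gpt (show 0 < 10 by norm_num)
    exact absurd e h0
  · have hi10 : i < 10 := by
      have := FischerUnique23.om7Gens_lt i (tripleGens_spec hi).1
      omega
    have hf := (Out23.fix_iff (gT i) ⟨p, hp⟩).2 (hc i hi)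
    have := (Out23.hom_gen_val hi10 ⟨p, hp⟩).symm.trans (congrArg Fin.val hf)
    exact absurd this (Nat.ne_of_beq_eq_false hne)

variable {X : Type*} [Group X] [Finite X] {D1 : Set X}

/-- The common neighbours of a non-commuting pair are one class of the group they generate. -/
theorem Is23.orb (h : Is23 D1) {a d u v : X} (ha : a ∈ D1) (hd : d ∈ Far D1 a)
    (hu : u ∈ Nb D1 a ∩ Nb D1 d) (hv : v ∈ Nb D1 a ∩ Nb D1 d) :
    ∃ k ∈ Subgroup.closure (Nb D1 a ∩ Nb D1 d), k * u * k⁻¹ = v := by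
  obtain ⟨-, hcard, hsimp, -⟩ := h.pair ha hd
  haveI := hsimp
  set S := Nb D1 a ∩ Nb D1 d
  set K := Subgroup.closure S
  by_contra hne
  set A : Set X := {y | y ∈ S ∧ ∃ k ∈ K, k * u * k⁻¹ = y}
  have hcomm : ∀ y ∈ A, ∀ w ∈ S, w ∉ A → Commute y w := by
    rintro y ⟨hy, k, hk, hky⟩ w hw hnw
    by_contra hc
    refine hnw ⟨hw, y * w * k, mul_mem (mul_mem (Subgroup.subset_closure hy) (Subgroup.subset_closure hw)) hk, ?_⟩
    rw [show y * w * k * u * (y * w * k)⁻¹ = y * w * (k * u * k⁻¹) * (y * w)⁻¹ by group, hky]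
    exact TSet.conj_swap h.group.1 hy.1.1 hw.1.1 hc
  set N := Subgroup.closure A
  have hNK : N ≤ K := Subgroup.closure_mono fun y hy => hy.1
  have hnorm : (N.subgroupOf K).Normal := by
    rw [Subgroup.normal_subgroupOf_iff_le_normalizer hNK, Subgroup.closure_le]
    intro w hw
    by_cases hA : w ∈ A
    · exact Subgroup.le_normalizer (Subgroup.subset_closure hA)
    · refine Subgroup.centralizer_le_normalizer (N : Set X) ?_
      rw [Subgroup.centralizer_closure, Subgroup.mem_centralizer_iff]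
      exact fun y hy => (hcomm y hy w hw hA).eq
  have huA : u ∈ A := ⟨hu, 1, one_mem _, by group⟩
  rcases hnorm.eq_bot_or_eq_top with e | e
  · rw [Subgroup.subgroupOf_eq_bot, disjoint_iff, inf_eq_left.2 hNK] at e
    exact TSet.ne_one h.group.1 hu.1.1 (Subgroup.mem_bot.1 (e ▸ Subgroup.subset_closure huA))
  · rw [Subgroup.subgroupOf_eq_top] at e
    set y : K := ⟨v, Subgroup.subset_closure hv⟩
    have hc : y ∈ Subgroup.center K := by
      refine Subgroup.mem_center_iff.2 fun k => Subtype.ext ?_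
      have hk : (k : X) ∈ Subgroup.centralizer ({v} : Set X) := by
        refine ((Subgroup.closure_le _).2 ?_ : N ≤ _) (e k.2)
        exact fun w hw => Subgroup.mem_centralizer_singleton_iff.2
          (hcomm w hw v hv fun h' => hne h'.2).eq
      exact Subgroup.mem_centralizer_singleton_iff.1 hk
    have hn : (Subgroup.zpowers y).Normal := ⟨fun n hn g => by
      rwa [Subgroup.mem_center_iff.1 (Subgroup.zpowers_le.2 hc hn) g, mul_inv_cancel_right]⟩
    have hy1 : y ≠ 1 := fun h' => TSet.ne_one h.group.1 hv.1.1 (congrArg Subtype.val h')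
    have ht := hn.eq_bot_or_eq_top.resolve_left fun h' => hy1 (Subgroup.zpowers_eq_bot.1 h')
    have ho : orderOf y = 2 := by
      rw [← Subgroup.orderOf_coe]
      exact h.group.1.1 _ hv.1.1
    rw [← Nat.card_zpowers, ht, Subgroup.card_top, hcard] at ho
    norm_num at ho

/-- Only the pair and its third member commute with the common neighbours under a further one. -/
theorem Is23.triple (h : Is23 D1) {a d r u : X} (ha : a ∈ D1) (hd : d ∈ Far D1 a)
    (hr : r ∈ Nb D1 a ∩ Nb D1 d) (hu : u ∈ Nb D1 r)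
    (hc : ∀ y ∈ Nb D1 a ∩ Nb D1 d ∩ Nb D1 r, Commute u y) : u = a ∨ u = d ∨ u = a * d * a := by
  obtain ⟨T, hTD, e1, e2⟩ := exists_frame_noncomm h.group h.prim h.type ha hd.1 hd.2
  subst e1 e2
  have hiff : ∀ w, T w ∈ D1 ↔ w ∈ Fi23.D := fun w => by
    rw [← hTD]; exact T.injective.mem_set_image
  have hgen : ∀ i ∈ FischerUnique23.om7Gens,
      T (gT i) ∈ Nb D1 (T Fi23.z) ∩ Nb D1 (T (gT 9)) := by
    intro i hi
    obtain ⟨h1, h2, h3⟩ := FischerUnique23.gen_nb i (FischerUnique23.om7Gens_lt i hi)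
    refine ⟨⟨(hiff _).2 h1, fun e => h2 (T.injective e), h3.map T.toMonoidHom⟩,
      (hiff _).2 h1, fun e => ?_, ((FischerUnique23.gen_comm_nine hi).symm).map T.toMonoidHom⟩
    have e' : gT i = gT 9 := T.injective e
    exact FischerUnique23.nine_not_commute (e' ▸ h3)
  obtain ⟨k, hk, hkr⟩ := h.orb ha hd hr (hgen 0 (by decide))
  have hkc : ∀ b ∈ ({T Fi23.z, T (gT 9)} : Set X), k * b * k⁻¹ = b := fun b hb => by
    rw [(h.pair ha hd).1] at hk
    rw [← Subgroup.mem_centralizer_iff.1 hk b hb, mul_inv_cancel_right]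
  have hu0 : k * u * k⁻¹ ∈ Nb D1 (T (gT 0)) := hkr ▸ nb_conj h.group k hu
  obtain ⟨w, hw⟩ := T.surjective (k * u * k⁻¹)
  have hkey : w = Fi23.z ∨ w = gT 9 ∨ w = gT 9 * Fi23.z * gT 9 := by
    refine centralizes_triple ((hiff w).1 (hw ▸ hu0.1)) (fun e => hu0.2.1 (by rw [← hw, e])) fun i hi => ?_
    obtain ⟨him, hi0⟩ := tripleGens_spec hi
    have hT : Commute (T (gT i)) (T w) := by
      rw [hw]
      by_cases e : T (gT i) = T (gT 0)
      · exact e ▸ hu0.2.2
      have hm : k⁻¹ * T (gT i) * k ∈ Nb D1 (T Fi23.z) ∩ Nb D1 (T (gT 9)) ∩ Nb D1 r := by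
        have hg : T (gT i) ∈ Nb D1 (T (gT 0)) := ⟨(hgen i him).1.1, e, hi0.map T.toMonoidHom⟩
        have c1 := nb_conj h.group k⁻¹ (hgen i him).1
        have c2 := nb_conj h.group k⁻¹ (hgen i him).2
        have c3 := nb_conj h.group k⁻¹ hg
        simp only [inv_inv] at c1 c2 c3
        rw [show k⁻¹ * T Fi23.z * k = T Fi23.z by
          nth_rw 1 [← hkc _ (Or.inl rfl)]; group] at c1
        rw [show k⁻¹ * T (gT 9) * k = T (gT 9) by
          nth_rw 1 [← hkc _ (Or.inr rfl)]; group] at c2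
        rw [show k⁻¹ * T (gT 0) * k = r by rw [← hkr]; group] at c3
        exact ⟨⟨c1, c2⟩, c3⟩
      have := (commute_conj_iff k _ _).2 (hc _ hm).symm
      simpa [mul_assoc] using this
    simpa using hT.map T.symm.toMonoidHom
  have hu' : u = k⁻¹ * T w * k := by rw [hw]; group
  have hb : ∀ b ∈ ({T Fi23.z, T (gT 9)} : Set X), k⁻¹ * b * k = b := fun b hb => by
    nth_rw 1 [← hkc b hb]; group
  rcases hkey with e | e | e
  · exact Or.inl (by rw [hu', e, hb _ (Or.inl rfl)])
  · exact Or.inr (Or.inl (by rw [hu', e, hb _ (Or.inr rfl)]))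
  · refine Or.inr (Or.inr ?_)
    rw [(FischerUnique23.product_facts h.group ha hd.1 hd.2).2.2.1, hu', e, map_mul, map_mul]
    calc k⁻¹ * (T (gT 9) * T Fi23.z * T (gT 9)) * k
        = (k⁻¹ * T (gT 9) * k) * (k⁻¹ * T Fi23.z * k) * (k⁻¹ * T (gT 9) * k) := by group
      _ = _ := by rw [hb _ (Or.inl rfl), hb _ (Or.inr rfl)]

namespace Ctx

variable {G : Type*} [Group G] [Finite G] {D : Set G} (C : Ctx D D1)
include C

omit [Finite G] [Finite X] in
theorem chart_line {s a b : G} {f : G → X} (hf : IsChart D D1 s f) (ha : a ∈ Nb D s) (hb : b ∈ Nb D s)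
    {v : G} (hv : v ∈ Nb D s) (h : f v = f a ∨ f v = f b ∨ f v = f a * f b * f a) :
    v = a ∨ v = b ∨ v = a * b * a := by
  have ha' : a ∈ Hd D s := Subgroup.subset_closure ha
  have hb' : b ∈ Hd D s := Subgroup.subset_closure hb
  have hab : a * b * a ∈ Nb D s := by
    have h' := nb_conj C.group a hb
    rw [TSet.inv C.group.1 ha.1] at h'
    have e : a * s * a = s := by
      have e' := conj_eq_self_of_commute ha.2.2.symm
      rwa [TSet.inv C.group.1 ha.1] at e'
    rwa [e] at h'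
  rcases h with e | e | e
  · exact Or.inl (hf.inj v hv a ha e)
  · exact Or.inr (Or.inl (hf.inj v hv b hb e))
  · refine Or.inr (Or.inr (hf.inj v hv _ hab ?_))
    rw [e, hf.map_mul _ (mul_mem ha' hb') _ ha', hf.map_mul _ ha' _ hb']

/-- A neighbour of a common neighbour commuting with the common neighbours there. -/
theorem twin_two {a b s v : G} (hab : ¬ Commute a b) (ha : a ∈ D) (hb : b ∈ D) (hs : s ∈ Com D a b)
    (hv : v ∈ Nb D s) (hc : ∀ y ∈ Nb D s ∩ Com D a b, Commute v y) : v = a ∨ v = b ∨ v = a * b * a := by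
  obtain ⟨f, hf, h1, h2, hB, himg⟩ := C.com_frame hab ha hb hs
  obtain ⟨-, -, -, h4, -⟩ := C.low.pair (hf.mem a h1) hB
  refine C.chart_line hf h1 h2 hv (h4 _ (hf.mem v hv) fun Y hY => ?_)
  rw [← himg] at hY
  obtain ⟨y, hy, rfl⟩ := hY
  exact (hf.comm v hv y hy.1).2 (hc y hy)

/-- A transposition commuting with all common neighbours. -/
theorem twin_one {a b v : G} (hab : ¬ Commute a b) (ha : a ∈ D) (hb : b ∈ D) (hv : v ∈ D)
    (hc : ∀ y ∈ Com D a b, Commute v y) : v = a ∨ v = b ∨ v = a * b * a := by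
  obtain ⟨s, hs1, hs2⟩ := C.exists_common ha hb hab
  by_cases hvs : v = s
  · subst hvs
    exfalso
    have hm : (⟨v, Subgroup.subset_closure ⟨hs1, hs2⟩⟩ : Subgroup.closure (Com D a b)) ∈
        Subgroup.center (Subgroup.closure (Com D a b)) := by
      refine Subgroup.mem_center_iff.2 fun k => Subtype.ext ?_
      have hk : (k : G) ∈ Subgroup.centralizer ({v} : Set G) :=
        ((Subgroup.closure_le _).2 fun y hy =>
          Subgroup.mem_centralizer_singleton_iff.2 (hc y hy).symm.eq : Subgroup.closure (Com D a b) ≤ _) k.2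
      exact Subgroup.mem_centralizer_singleton_iff.1 hk
    rw [C.center_pair hab ha hb, Subgroup.mem_bot] at hm
    exact TSet.ne_one C.group.1 hv (congrArg Subtype.val hm)
  exact C.twin_two hab ha hb ⟨hs1, hs2⟩ ⟨hv, hvs, (hc s ⟨hs1, hs2⟩).symm⟩ fun y hy => hc y hy.2

/-- A common neighbour of two commuting ones commuting with the common neighbours there. -/
theorem twin_three {a b s r v : G} (hab : ¬ Commute a b) (ha : a ∈ D) (hb : b ∈ D) (hs : s ∈ Com D a b)
    (hr : r ∈ Nb D s ∩ Com D a b) (hvs : v ∈ Nb D s) (hvr : v ∈ Nb D r)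
    (hc : ∀ y ∈ Nb D s ∩ Com D a b, y ∈ Nb D r → Commute v y) : v = a ∨ v = b ∨ v = a * b * a := by
  obtain ⟨f, hf, h1, h2, hB, himg⟩ := C.com_frame hab ha hb hs
  refine C.chart_line hf h1 h2 hvs (C.low.triple (hf.mem a h1) hB (r := f r) ?_ ?_ ?_)
  · rw [← himg]; exact ⟨r, hr, rfl⟩
  · rw [← hf.nb_inter hr.1]; exact ⟨v, ⟨hvs, hvr⟩, rfl⟩
  · rintro Y ⟨hY, hY'⟩
    rw [← himg] at hY
    obtain ⟨y, hy, rfl⟩ := hY
    refine (hf.comm v hvs y hy.1).2 (hc y hy ?_)
    rw [← hf.nb_inter hr.1] at hY'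
    obtain ⟨y', hy', e⟩ := hY'
    exact hf.inj y' hy'.1 y hy.1 e ▸ hy'.2

end Ctx

end Cfsg.Agent.FischerUnique24
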