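import Cfsg.Agent.Lib.FischerUnique24.Moment
import Mathlib.LinearAlgebra.Matrix.Charpoly.Eigs

/-!
A congruence for the number of transpositions commuting with their image under a fixed-point-free element
of a group of type M(24): the trace of the element on an eigenspace of the commuting graph is an integer.
-/

set_option autoImplicit false

namespace Cfsg.Agent.FischerUnique24

open Cfsg.Agent.Fischer
open Cfsg.Agent.Fischer.Factor
open scoped Classical Matrix

theorem trace_integral {ι : Type*} [Fintype ι] [DecidableEq ι] [Nonempty ι] {M : Matrix ι ι ℚ} {n : ℕ}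
    (hn : 1 < n) (h : M ^ n = M) : ∃ z : ℤ, M.trace = z := by
  set f := algebraMap ℚ (AlgebraicClosure ℚ)
  set N := M.map f with hNdef
  have hN : N ^ n = N := by
    have := congrArg (f.mapMatrix) h
    rwa [map_pow] at this
  have htr : f M.trace = N.trace := AddMonoidHom.map_trace f M
  have hint : IsIntegral ℤ (f M.trace) := by
    rw [htr, Matrix.trace_eq_sum_roots_charpoly]
    refine IsIntegral.multiset_sum fun r hr => ?_
    have hr' : r ∈ spectrum (AlgebraicClosure ℚ) N :=
      Matrix.mem_spectrum_iff_isRoot_charpoly.2 ((Polynomial.mem_roots N.charpoly_monic.ne_zero).1 hr)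
    have h0 := spectrum.subset_polynomial_aeval N (Polynomial.X ^ n - Polynomial.X) ⟨r, hr', rfl⟩
    simp only [map_sub, map_pow, Polynomial.aeval_X, hN, sub_self, spectrum.zero_eq, Set.mem_singleton_iff,
      Polynomial.eval_sub, Polynomial.eval_pow, Polynomial.eval_X] at h0
    refine ⟨Polynomial.X ^ n - Polynomial.X, Polynomial.monic_X_pow_sub ?_, ?_⟩
    · rw [Polynomial.degree_X]; exact_mod_cast hn
    · simpa using h0
  obtain ⟨z, hz⟩ := IsIntegrallyClosed.isIntegral_iff.1
    ((isIntegral_algebraMap_iff f.injective).1 hint)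
  exact ⟨z, hz.symm.trans (eq_intCast _ z)⟩

variable {G X : Type*} [Group G] [Group X] [Finite G] [Finite X] {D : Set G} {D1 : Set X}

namespace Ctx

variable (C : Ctx D D1)
include C

theorem mv_congr (g : G) (hfree : ∀ d ∈ D, g * d * g⁻¹ ≠ d) :
    (432 : ℤ) ∣ (Mv D g : ℤ) - 31752 := by
  haveI : Fintype ↥D := Fintype.ofFinite _
  obtain ⟨a₀, ha₀, -⟩ := C.prim.2.1
  haveI : Nonempty ↥D := ⟨⟨a₀, ha₀⟩⟩
  let A : Matrix ↥D ↥D ℚ := Matrix.of fun i j => if (j : G) ∈ Nb D i then 1 else 0
  let J : Matrix ↥D ↥D ℚ := Matrix.of fun _ _ => 1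
  let P : G → Matrix ↥D ↥D ℚ := fun h => Matrix.of fun i j => if (i : G) = h * j * h⁻¹ then 1 else 0
  have hv : Fintype.card ↥D = 306936 := by
    rw [Fintype.card_eq_nat_card, Nat.card_coe_set_eq, C.card_class]
  have hcount : ∀ (s : Set G) [DecidablePred fun j : ↥D => (j : G) ∈ s], s ⊆ D →
      ((Finset.univ.filter fun j : ↥D => (j : G) ∈ s).card) = s.ncard := by
    intro s _ hs
    rw [← Set.ncard_coe_finset, ← Set.ncard_image_of_injective _ Subtype.val_injective]
    congr 1
    ext y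
    simp only [Finset.coe_filter, Finset.mem_univ, true_and, Set.mem_image, Set.mem_setOf_eq]
    exact ⟨fun ⟨j, hj, e⟩ => e ▸ hj, fun hy => ⟨⟨y, hs hy⟩, hy, rfl⟩⟩
  have hsym : ∀ i j : ↥D, (j : G) ∈ Nb D i ↔ (i : G) ∈ Nb D j := fun i j =>
    ⟨fun h => ⟨i.2, h.2.1.symm, h.2.2.symm⟩, fun h => ⟨j.2, h.2.1.symm, h.2.2.symm⟩⟩
  have hrow : ∀ i : ↥D, ∑ j, A i j = 31671 := fun i => by
    show (∑ j : ↥D, if (j : G) ∈ Nb D i then (1 : ℚ) else 0) = _
    rw [Finset.sum_boole, hcount _ fun y hy => hy.1, C.card_nb i.2]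
    norm_num
  have hAJ : A * J = (31671 : ℚ) • J := by
    ext i j
    simp only [Matrix.mul_apply, Matrix.smul_apply, J, Matrix.of_apply, mul_one, smul_eq_mul]
    exact hrow i
  have hJA : J * A = (31671 : ℚ) • J := by
    ext i j
    simp only [Matrix.mul_apply, Matrix.smul_apply, J, Matrix.of_apply, one_mul, mul_one, smul_eq_mul]
    rw [← hrow j]
    exact Finset.sum_congr rfl fun k _ => if_congr (hsym k j) rfl rfl
  have hJJ : J * J = (306936 : ℚ) • J := by
    ext i j
    simp only [Matrix.mul_apply, Matrix.smul_apply, J, Matrix.of_apply, mul_one, smul_eq_mul,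
      Finset.sum_const, Finset.card_univ, hv]
    norm_num
  have hA2 : A * A = (28431 : ℚ) • (1 : Matrix ↥D ↥D ℚ) + (270 : ℚ) • A + (3240 : ℚ) • J := by
    ext i k
    have e : ∀ j : ↥D, A i j * A j k = if (j : G) ∈ Nb D i ∩ Nb D k then 1 else 0 := fun j => by
      simp only [A, Matrix.of_apply, ite_mul, one_mul, zero_mul, ← ite_and, Set.mem_inter_iff, hsym j k]
    simp only [Matrix.mul_apply, e]
    rw [Finset.sum_boole, hcount (Nb D (i : G) ∩ Nb D (k : G)) fun y hy => hy.1.1]
    simp only [Matrix.add_apply, Matrix.smul_apply, smul_eq_mul, J, A, Matrix.of_apply]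
    by_cases hik : i = k
    · subst hik
      rw [Set.inter_self, C.card_nb i.2, Matrix.one_apply_eq, if_neg fun h => h.2.1 rfl]
      norm_num
    · rw [Matrix.one_apply_ne hik]
      by_cases hn : (k : G) ∈ Nb D i
      · rw [C.card_edge i.2 hn, if_pos hn]; norm_num
      · rw [show (Nb D (i : G) ∩ Nb D (k : G)).ncard = 3240 from C.card_com
          (fun hc => hn ⟨k.2, fun e => hik (Subtype.ext e.symm), hc⟩) i.2 k.2, if_neg hn]
        norm_num
  set E : Matrix ↥D ↥D ℚ := (1 / 432 : ℚ) • (A + (81 : ℚ) • 1 - (3 / 29 : ℚ) • J) with hE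
  have hEE : E * E = E := by
    simp only [hE, smul_mul_assoc, mul_smul_comm, sub_mul, mul_sub, add_mul, mul_add, one_mul, mul_one,
      hA2, hAJ, hJA, hJJ, smul_add, smul_sub, smul_smul]
    match_scalars <;> norm_num
  have hPP : ∀ a b, P a * P b = P (a * b) := by
    intro a b
    ext i k
    simp only [Matrix.mul_apply, P, Matrix.of_apply, ite_mul, one_mul, zero_mul]
    rw [Finset.sum_eq_single ⟨b * k * b⁻¹, C.group.2.1 b k k.2⟩]
    · simp only [if_true, show a * (b * (k : G) * b⁻¹) * a⁻¹ = a * b * k * (a * b)⁻¹ by group]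
    · intro j _ hne
      rw [if_neg fun e => hne (Subtype.ext e), ite_self]
    · simp
  have hP1 : P 1 = 1 := by
    ext i j
    simp [P, Matrix.one_apply, Subtype.ext_iff]
  have hPpow : ∀ n : ℕ, P g ^ n = P (g ^ n) := by
    intro n
    induction n with
    | zero => rw [pow_zero, pow_zero, hP1]
    | succ n ih => rw [pow_succ, ih, hPP, pow_succ]
  have hJP : J * P g = J ∧ P g * J = J := by
    constructor <;> ext i j <;> simp only [Matrix.mul_apply, J, P, Matrix.of_apply, one_mul, mul_one]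
    · rw [Finset.sum_eq_single ⟨g * j * g⁻¹, C.group.2.1 g j j.2⟩]
      · simp
      · intro k _ hne; rw [if_neg fun e => hne (Subtype.ext e)]
      · simp
    · rw [Finset.sum_eq_single ⟨g⁻¹ * i * g⁻¹⁻¹, C.group.2.1 g⁻¹ i i.2⟩]
      · rw [if_pos (show (i : G) = g * (g⁻¹ * i * g⁻¹⁻¹) * g⁻¹ by simp [mul_assoc])]
      · intro k _ hne
        rw [if_neg fun e => hne (Subtype.ext (show (k : G) = g⁻¹ * i * g⁻¹⁻¹ by simp [e, mul_assoc]))]
      · simp
  have hAP : A * P g = P g * A := by
    ext i k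
    simp only [Matrix.mul_apply, A, P, Matrix.of_apply]
    rw [Finset.sum_eq_single ⟨g * k * g⁻¹, C.group.2.1 g k k.2⟩,
      Finset.sum_eq_single ⟨g⁻¹ * i * g⁻¹⁻¹, C.group.2.1 g⁻¹ i i.2⟩]
    · rw [if_pos rfl, if_pos (show (i : G) = g * (g⁻¹ * i * g⁻¹⁻¹) * g⁻¹ by simp [mul_assoc]), mul_one, one_mul]
      refine if_congr ⟨fun h => ?_, fun h => ?_⟩ rfl rfl
      · have := nb_conj C.group g⁻¹ h
        simpa [mul_assoc] using this
      · have := nb_conj C.group g h
        simpa [mul_assoc] using this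
    · intro j _ hne
      rw [if_neg fun e => hne (Subtype.ext (show (j : G) = g⁻¹ * i * g⁻¹⁻¹ by simp [e, mul_assoc])), zero_mul]
    · simp
    · intro j _ hne
      rw [if_neg fun e => hne (Subtype.ext e), mul_zero]
    · simp
  have hcomm : Commute E (P g) := by
    show E * P g = P g * E
    simp only [hE, smul_mul_assoc, mul_smul_comm, sub_mul, mul_sub, add_mul, mul_add, one_mul, mul_one,
      hJP.1, hJP.2, hAP]
  have hM : (E * P g) ^ (orderOf g + 1) = E * P g := by
    rw [hcomm.mul_pow, hPpow, IsIdempotentElem.pow_succ_eq _ hEE, pow_succ, pow_orderOf_eq_one, one_mul]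
  obtain ⟨z, hz⟩ := trace_integral (by have := orderOf_pos g; omega) hM
  have trA : (A * P g).trace = (Mv D g : ℚ) := by
    simp only [Matrix.trace, Matrix.diag_apply, Matrix.mul_apply, A, P, Matrix.of_apply]
    rw [Finset.sum_congr rfl (g := fun i : ↥D => if (i : G) ∈ {d | d ∈ D ∧ g * d * g⁻¹ ∈ Nb D d} then (1 : ℚ) else 0)
      (fun i _ => by
        rw [Finset.sum_eq_single ⟨g * i * g⁻¹, C.group.2.1 g i i.2⟩]
        · simp only [if_true, mul_one, Set.mem_setOf_eq, i.2, true_and]
        · intro j _ hne; rw [if_neg fun e => hne (Subtype.ext e), mul_zero]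
        · simp), Finset.sum_boole, hcount {d | d ∈ D ∧ g * d * g⁻¹ ∈ Nb D d} fun y hy => hy.1]
    rfl
  have tr1 : (P g).trace = 0 := by
    simp only [Matrix.trace, Matrix.diag_apply, P, Matrix.of_apply]
    exact Finset.sum_eq_zero fun i _ => if_neg fun e => hfree i i.2 e.symm
  have trJ : (J * P g).trace = 306936 := by
    rw [hJP.1]
    simp [Matrix.trace, J, hv]
  rw [hE, smul_mul_assoc, sub_mul, add_mul, smul_mul_assoc, smul_mul_assoc, one_mul, Matrix.trace_smul,
    Matrix.trace_sub, Matrix.trace_add, Matrix.trace_smul, Matrix.trace_smul, trA, tr1, trJ, smul_eq_mul,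
    smul_eq_mul, smul_eq_mul] at hz
  refine ⟨z, ?_⟩
  have : ((Mv D g : ℚ) - 31752) = 432 * (z : ℚ) := by linear_combination 432 * hz
  exact_mod_cast this

end Ctx

end Cfsg.Agent.FischerUnique24
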