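import Cfsg.Agent.Lib.FischerUnique24.Count

/-!
The number of transpositions commuting with their image under an element of a group of type M(24):
first and second moment over the group.
-/

set_option autoImplicit false

namespace Cfsg.Agent.FischerUnique24

open Cfsg.Agent.Fischer
open Cfsg.Agent.Fischer.Factor
open scoped Classical

variable {G X : Type*} [Group G] [Group X] [Finite G] [Finite X] {D : Set G} {D1 : Set X}

/-- The number of transpositions sent by `g` onto a neighbour. -/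
noncomputable def Mv (D : Set G) (g : G) : ℕ := {d | d ∈ D ∧ g * d * g⁻¹ ∈ Nb D d}.ncard

/-- Conjugation on pairs. -/
def cp (g : G) (p : G × G) : G × G := (g * p.1 * g⁻¹, g * p.2 * g⁻¹)

omit [Finite G] in
theorem cp_mul (g h : G) (p : G × G) : cp (g * h) p = cp g (cp h p) := by
  simp [cp, mul_assoc]

omit [Finite G] in
theorem cp_one (p : G × G) : cp 1 p = p := by simp [cp]

theorem sum_orbit [Fintype G] (R : Finset (G × G)) (P : G × G → G × G → Prop) {T : ℕ}
    (hinv : ∀ g : G, ∀ p ∈ R, cp g p ∈ R) (htr : ∀ p ∈ R, ∀ q ∈ R, ∃ g : G, cp g p = q)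
    (hT : ∀ p ∈ R, (R.filter (P p)).card = T) (hne : R.Nonempty) :
    ∑ g : G, (R.filter fun p => P p (cp g p)).card = Fintype.card G * T := by
  have hfib : ∀ p ∈ R, ∀ q ∈ R, (Finset.univ.filter fun g : G => cp g p = q).card * R.card = Fintype.card G := by
    intro p hp q hq
    have heq : ∀ r ∈ R, (Finset.univ.filter fun g : G => cp g p = r).card =
        (Finset.univ.filter fun g : G => cp g p = q).card := by
      intro r hr
      obtain ⟨u, hu⟩ := htr q hq r hr
      symm
      rw [← Finset.card_map (Equiv.mulLeft u).toEmbedding]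
      congr 1
      ext g
      simp only [Finset.mem_map_equiv, Finset.mem_filter, Finset.mem_univ, true_and, Equiv.mulLeft_symm_apply,
        cp_mul]
      refine ⟨fun h => ?_, fun h => ?_⟩
      · rw [← hu, ← h, ← cp_mul u u⁻¹, mul_inv_cancel, cp_one]
      · rw [h, ← hu, ← cp_mul u⁻¹ u, inv_mul_cancel, cp_one]
    have := Finset.card_eq_sum_card_fiberwise (s := (Finset.univ : Finset G)) (t := R) (f := fun g => cp g p)
      (fun g _ => hinv g p hp)
    rw [Finset.sum_congr rfl heq, Finset.sum_const, smul_eq_mul, Finset.card_univ] at this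
    rw [this, mul_comm]
  have hone : ∀ p ∈ R, (Finset.univ.filter fun g : G => P p (cp g p)).card * R.card = Fintype.card G * T := by
    intro p hp
    rw [Finset.card_eq_sum_card_fiberwise (t := R.filter (P p)) (f := fun g => cp g p)
      (fun g hg => Finset.mem_filter.2 ⟨hinv g p hp, (Finset.mem_filter.1 hg).2⟩), Finset.sum_mul]
    rw [← hT p hp, mul_comm, ← smul_eq_mul, ← Finset.sum_const]
    refine Finset.sum_congr rfl fun q hq => ?_
    rw [Finset.filter_filter, ← hfib p hp q (Finset.mem_filter.1 hq).1]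
    congr 2
    ext g
    simp only [Finset.mem_filter, Finset.mem_univ, true_and]
    exact ⟨fun h => h.2, fun h => ⟨h ▸ (Finset.mem_filter.1 hq).2, h⟩⟩
  have hswap : ∑ g : G, (R.filter fun p => P p (cp g p)).card =
      ∑ p ∈ R, (Finset.univ.filter fun g : G => P p (cp g p)).card := by
    simp only [Finset.card_filter]
    exact Finset.sum_comm
  refine Nat.eq_of_mul_eq_mul_right (Finset.card_pos.2 hne) ?_
  rw [hswap, Finset.sum_mul, Finset.sum_congr rfl hone, Finset.sum_const, smul_eq_mul]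
  ring

theorem sum_split {α : Type*} [DecidableEq α] (s t : Finset α) (f : α → ℕ) :
    ∑ x ∈ s, f x = ∑ x ∈ s ∩ t, f x + ∑ x ∈ s \ t, f x := by
  rw [← Finset.sum_union (Finset.disjoint_sdiff_inter s t).symm, Finset.union_comm, Finset.sdiff_union_inter]

namespace Ctx

variable (C : Ctx D D1)
include C

/-- The neighbours as a finite set. -/
noncomputable def na (_ : Ctx D D1) (a : G) : Finset G := (Set.toFinite (Nb D a)).toFinset

theorem mem_na {a y : G} : y ∈ C.na a ↔ y ∈ Nb D a := Set.Finite.mem_toFinset _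

theorem card_na {a : G} (ha : a ∈ D) : (C.na a).card = 31671 := by
  rw [na, ← Set.ncard_eq_toFinset_card _, C.card_nb ha]

theorem card_inter {a b : G} :
    (C.na a ∩ C.na b).card = (Nb D a ∩ Nb D b).ncard := by
  rw [← Set.ncard_coe_finset, Finset.coe_inter, na, na, Set.Finite.coe_toFinset, Set.Finite.coe_toFinset]

theorem near_card {a b : G} (ha : a ∈ D) (hb : b ∈ Nb D a) :
    ∑ d ∈ C.na a, ((C.na b).filter fun e => e ∈ Nb D d).card = 103590171 := by
  have hf : ∀ d, ((C.na b).filter fun e => e ∈ Nb D d) = C.na b ∩ C.na d := fun d => by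
    ext e; simp [C.mem_na]
  simp only [hf]
  rw [sum_split (C.na a) (C.na b),
    Finset.sum_congr rfl (g := fun _ => 3510) (fun d hd => by
      rw [C.card_inter, C.card_edge hb.1 (C.mem_na.1 (Finset.mem_inter.1 hd).2)]),
    Finset.sum_const, ← Finset.add_sum_erase (C.na a \ C.na b) _ (a := b)
      (Finset.mem_sdiff.2 ⟨C.mem_na.2 hb, fun h => (C.mem_na.1 h).2.1 rfl⟩),
    Finset.inter_self, C.card_na hb.1,
    Finset.sum_congr rfl (g := fun _ => 3240) (fun d hd => by
      obtain ⟨hne, hd⟩ := Finset.mem_erase.1 hd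
      obtain ⟨hda, hdb⟩ := Finset.mem_sdiff.1 hd
      have hdD := (C.mem_na.1 hda).1
      rw [C.card_inter]
      exact C.card_com (fun hc => hdb (C.mem_na.2 ⟨hdD, hne, hc⟩)) hb.1 hdD),
    Finset.sum_const, smul_eq_mul, smul_eq_mul]
  have h1 := Finset.card_sdiff_add_card_inter (C.na a) (C.na b)
  have h2 : (C.na a ∩ C.na b).card = 3510 := by rw [C.card_inter, C.card_edge ha hb]
  rw [C.card_na ha] at h1
  rw [Finset.card_erase_of_mem (Finset.mem_sdiff.2 ⟨C.mem_na.2 hb, fun h => (C.mem_na.1 h).2.1 rfl⟩), h2]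
  omega

theorem far_card {a b : G} (ha : a ∈ D) (hb : b ∈ D) (hab : ¬ Commute a b) :
    ∑ d ∈ C.na a, ((C.na b).filter fun e => ¬ Commute d e).card = 899560161 := by
  have hf : ∀ d, d ∈ D → ((C.na b).filter fun e => ¬ Commute d e) = C.na b \ insert d (C.na d) := fun d hd => by
    ext e
    simp only [Finset.mem_filter, Finset.mem_sdiff, Finset.mem_insert, C.mem_na]
    refine and_congr_right fun he => ?_
    refine ⟨fun h => ?_, fun h hc => h ?_⟩
    · rintro (rfl | h')
      exacts [h (Commute.refl _), h h'.2.2]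
    · by_cases e' : e = d
      exacts [Or.inl e', Or.inr ⟨he.1, e', hc⟩]
  rw [Finset.sum_congr rfl (g := fun d => (C.na b \ insert d (C.na d)).card)
      (fun d hd => congrArg Finset.card (hf d (C.mem_na.1 hd).1)),
    sum_split (C.na a) (C.na b),
    Finset.sum_congr rfl (g := fun _ => 28160) (fun d hd => by
      have hdb := C.mem_na.1 (Finset.mem_inter.1 hd).2
      rw [Finset.card_sdiff, Finset.insert_inter_of_mem (Finset.mem_inter.1 hd).2, Finset.card_insert_of_notMem
        (fun h => (C.mem_na.1 (Finset.mem_inter.1 h).1).2.1 rfl), C.card_na hb, C.card_inter,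
        Set.inter_comm, C.card_edge hb hdb]),
    Finset.sum_const,
    Finset.sum_congr rfl (g := fun _ => 28431) (fun d hd => by
      obtain ⟨hda, hdb⟩ := Finset.mem_sdiff.1 hd
      have hd' := C.mem_na.1 hda
      have hne : d ≠ b := fun e => hab (e ▸ hd'.2.2)
      have hfar : ¬ Commute b d := fun hc => hdb (C.mem_na.2 ⟨hd'.1, hne, hc⟩)
      rw [Finset.card_sdiff, Finset.insert_inter_of_notMem hdb, C.card_na hb, C.card_inter,
        Set.inter_comm, show (Nb D b ∩ Nb D d).ncard = 3240 from C.card_com hfar hb hd'.1]),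
    Finset.sum_const, smul_eq_mul, smul_eq_mul]
  have h1 := Finset.card_sdiff_add_card_inter (C.na a) (C.na b)
  have h2 : (C.na a ∩ C.na b).card = 3240 := by
    rw [C.card_inter]; exact C.card_com hab ha hb
  rw [C.card_na ha] at h1
  omega

/-- First and second moment. -/
theorem moments [Fintype G] :
    ∑ g : G, Mv D g = Fintype.card G * 31671 ∧
    ∑ g : G, Mv D g * Mv D g = Fintype.card G * 1003182003 := by
  haveI : Fintype ↥D := Fintype.ofFinite _
  set Df : Finset G := (Set.toFinite D).toFinset with hDf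
  have mD : ∀ {x}, x ∈ Df ↔ x ∈ D := Set.Finite.mem_toFinset _
  have hMv : ∀ g, Mv D g = (Df.filter fun d => g * d * g⁻¹ ∈ Nb D d).card := fun g => by
    rw [Mv, ← Set.ncard_coe_finset]
    congr 1
    ext d
    simp [mD]
  obtain ⟨a₀, ha₀, -⟩ := C.prim.2.1
  obtain ⟨b₁, hb₁⟩ := C.nb_nonempty ha₀
  obtain ⟨b₂, hb₂, hab₂⟩ := C.exists_far ha₀
  let P : G × G → G × G → Prop := fun p q => q.1 ∈ Nb D p.1 ∧ q.2 ∈ Nb D p.2
  let R0 := (Df ×ˢ Df).filter fun p => p.2 = p.1
  let R1 := (Df ×ˢ Df).filter fun p => p.2 ∈ Nb D p.1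
  let R2 := (Df ×ˢ Df).filter fun p => ¬ Commute p.1 p.2
  have hc : ∀ (g : G) {x}, x ∈ D → g * x * g⁻¹ ∈ D := fun g x hx => C.group.2.1 g x hx
  have t0 : ∑ g : G, (R0.filter fun p => P p (cp g p)).card = Fintype.card G * 31671 := by
    refine Eq.trans ?e (sum_orbit (T := 31671) R0 P ?_ ?_ ?_ ⟨(a₀, a₀), by simp [R0, mD, ha₀]⟩)
    case e => congr!
    · rintro g ⟨a, b⟩ hp
      simp only [R0, Finset.mem_filter, Finset.mem_product, mD] at hp ⊢
      exact ⟨⟨hc g hp.1.1, hc g hp.1.2⟩, by simp [cp, hp.2]⟩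
    · rintro ⟨a, b⟩ hp ⟨p, q⟩ hq
      simp only [R0, Finset.mem_filter, Finset.mem_product, mD] at hp hq
      obtain ⟨g, hg⟩ := C.prim.1 a hp.1.1 p hq.1.1
      exact ⟨g, by simp [cp, hp.2, hq.2, hg]⟩
    · rintro ⟨a, b⟩ hp
      simp only [R0, Finset.mem_filter, Finset.mem_product, mD] at hp
      obtain rfl := hp.2
      rw [← C.card_na hp.1.1]
      refine Finset.card_bij (fun q _ => q.1) ?_ ?_ ?_
      · intro q hq; simp [R0, P] at hq; exact C.mem_na.2 hq.2.1
      · intro q hq q' hq' e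
        simp [R0, P] at hq hq'
        exact Prod.ext e (by rw [hq.1.2, hq'.1.2, e])
      · intro y hy
        have hy' := C.mem_na.1 hy
        exact ⟨(y, y), by simp [R0, P, mD, hy'.1, hy'], rfl⟩
  have split : ∀ (Q : G → G → Prop) (a b : G),
      ((Df ×ˢ Df).filter fun q : G × G => Q q.1 q.2 ∧ P (a, b) q).card =
        ∑ d ∈ C.na a, ((C.na b).filter fun e => Q d e).card := by
    intro Q a b
    rw [show ((Df ×ˢ Df).filter fun q : G × G => Q q.1 q.2 ∧ P (a, b) q) =
      ((C.na a) ×ˢ (C.na b)).filter fun q => Q q.1 q.2 by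
        ext q; simp only [Finset.mem_filter, Finset.mem_product, mD, C.mem_na, P]
        exact ⟨fun h => ⟨h.2.2, h.2.1⟩, fun h => ⟨⟨h.1.1.1, h.1.2.1⟩, h.2, h.1⟩⟩]
    simp only [Finset.card_filter, Finset.sum_product]
  have t1 : ∑ g : G, (R1.filter fun p => P p (cp g p)).card = Fintype.card G * 103590171 := by
    refine Eq.trans ?e (sum_orbit (T := 103590171) R1 P ?_ ?_ ?_ ⟨(a₀, b₁), by simp [R1, mD, ha₀, hb₁.1, hb₁]⟩)
    case e => congr!
    · rintro g ⟨a, b⟩ hp
      simp only [R1, Finset.mem_filter, Finset.mem_product, mD] at hp ⊢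
      exact ⟨⟨hc g hp.1.1, hc g hp.1.2⟩, nb_conj C.group g hp.2⟩
    · rintro ⟨a, b⟩ hp ⟨p, q⟩ hq
      simp only [R1, Finset.mem_filter, Finset.mem_product, mD] at hp hq
      obtain ⟨g, hg1, hg2⟩ := C.trans_near hp.1.1 hp.2 hq.1.1 hq.2
      exact ⟨g, Prod.ext hg1 hg2⟩
    · rintro ⟨a, b⟩ hp
      simp only [R1, Finset.mem_filter, Finset.mem_product, mD] at hp
      rw [Finset.filter_filter]
      refine Eq.trans ?_ ((split (fun d e => e ∈ Nb D d) a b).trans (C.near_card hp.1.1 hp.2))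
      congr!
  have t2 : ∑ g : G, (R2.filter fun p => P p (cp g p)).card = Fintype.card G * 899560161 := by
    refine Eq.trans ?e (sum_orbit (T := 899560161) R2 P ?_ ?_ ?_ ⟨(a₀, b₂), by simp [R2, mD, ha₀, hb₂, hab₂]⟩)
    case e => congr!
    · rintro g ⟨a, b⟩ hp
      simp only [R2, Finset.mem_filter, Finset.mem_product, mD] at hp ⊢
      exact ⟨⟨hc g hp.1.1, hc g hp.1.2⟩, fun h => hp.2 ((commute_conj_iff g a b).1 h)⟩
    · rintro ⟨a, b⟩ hp ⟨p, q⟩ hq
      simp only [R2, Finset.mem_filter, Finset.mem_product, mD] at hp hq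
      obtain ⟨g, hg1, hg2⟩ := C.trans_far hp.1.1 hp.1.2 hp.2 hq.1.1 hq.1.2 hq.2
      exact ⟨g, Prod.ext hg1 hg2⟩
    · rintro ⟨a, b⟩ hp
      simp only [R2, Finset.mem_filter, Finset.mem_product, mD] at hp
      rw [Finset.filter_filter]
      refine Eq.trans ?_ (C.far_card hp.1.1 hp.1.2 hp.2)
      convert split (fun d e => ¬ Commute d e) a b using 6
  have e0 : ∀ g, (R0.filter fun p => P p (cp g p)).card = Mv D g := fun g => by
    rw [hMv]
    refine Finset.card_bij (fun p _ => p.1) ?_ ?_ ?_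
    · intro p hp
      obtain ⟨h1, h2⟩ := Finset.mem_filter.1 hp
      exact Finset.mem_filter.2 ⟨(Finset.mem_product.1 (Finset.mem_filter.1 h1).1).1, h2.1⟩
    · intro p hp q hq e; simp [Finset.mem_filter, R0] at hp hq; exact Prod.ext e (by rw [hp.1.2, hq.1.2, e])
    · intro d hd
      simp only [Finset.mem_filter] at hd
      exact ⟨(d, d), Finset.mem_filter.2 ⟨Finset.mem_filter.2 ⟨Finset.mem_product.2 ⟨hd.1, hd.1⟩, rfl⟩, hd.2, hd.2⟩, rfl⟩
  have e2 : ∀ g, Mv D g * Mv D g = (R0.filter fun p => P p (cp g p)).card +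
      (R1.filter fun p => P p (cp g p)).card + (R2.filter fun p => P p (cp g p)).card := fun g => by
    rw [hMv g, ← Finset.card_product, ← Finset.filter_product, Finset.filter_filter, Finset.filter_filter,
      Finset.filter_filter]
    simp only [Finset.card_filter, ← Finset.sum_add_distrib]
    refine Finset.sum_congr rfl ?_
    rintro ⟨a, b⟩ hp
    simp only [Finset.mem_product, mD] at hp
    by_cases hP : P (a, b) (cp g (a, b))
    · have hP' : (g * a * g⁻¹ ∈ Nb D a ∧ g * b * g⁻¹ ∈ Nb D b) := hP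
      by_cases e : b = a
      · subst e
        have h3 : b ∉ Nb D b := fun h => h.2.1 rfl
        simp [hP, hP'.1, h3, Commute.refl b]
      · by_cases hcm : Commute a b
        · have h3 : b ∈ Nb D a := ⟨hp.2, e, hcm⟩
          simp [hP, hP'.1, hP'.2, e, h3, hcm]
        · have h3 : b ∉ Nb D a := fun h => hcm h.2.2
          simp [hP, hP'.1, hP'.2, e, h3, hcm]
    · have hP' : ¬ (g * a * g⁻¹ ∈ Nb D a ∧ g * b * g⁻¹ ∈ Nb D b) := hP
      simp [hP, hP']
  refine ⟨by simp only [← e0]; exact t0, ?_⟩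
  simp only [e2, Finset.sum_add_distrib]
  rw [t0, t1, t2]
  ring

theorem variance [Fintype G] :
    ∑ g : G, ((Mv D g : ℤ) - 31671) ^ 2 = (Fintype.card G : ℤ) * 129762 := by
  obtain ⟨h1, h2⟩ := C.moments
  have h1' : ∑ g : G, (Mv D g : ℤ) = (Fintype.card G : ℤ) * 31671 := by exact_mod_cast h1
  have h2' : ∑ g : G, (Mv D g : ℤ) * (Mv D g : ℤ) = (Fintype.card G : ℤ) * 1003182003 := by exact_mod_cast h2
  rw [Finset.sum_congr rfl (g := fun g => (Mv D g : ℤ) * (Mv D g : ℤ) - 63342 * (Mv D g : ℤ) + 1003052241)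
    (fun g _ => by ring), Finset.sum_add_distrib, Finset.sum_sub_distrib, ← Finset.mul_sum, h1', h2',
    Finset.sum_const, nsmul_eq_mul, Finset.card_univ]
  ring

omit C [Finite X] [Group X] in
theorem Mv_conj (hD : Cfsg.IsThreeTranspositionGroup D) (k g : G) : Mv D (k * g * k⁻¹) = Mv D g := by
  rw [Mv, Mv, ← Set.ncard_image_of_injective {d | d ∈ D ∧ g * d * g⁻¹ ∈ Nb D d} (MulAut.conj k).injective]
  congr 1
  ext d
  constructor
  · rintro ⟨hd, hn⟩
    refine ⟨k⁻¹ * d * k, ⟨by simpa using hD.2.1 k⁻¹ d hd, ?_⟩, by simp [MulAut.conj_apply, mul_assoc]⟩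
    have := nb_conj hD k⁻¹ hn
    simpa [mul_assoc] using this
  · rintro ⟨e, ⟨he, hn⟩, rfl⟩
    refine ⟨hD.2.1 k e he, ?_⟩
    have := nb_conj hD k hn
    simpa [mul_assoc] using this

theorem mv_bound (b : G) :
    ((Mv D b : ℤ) - 31671) ^ 2 ≤ 129762 * (Nat.card (Subgroup.centralizer ({b} : Set G)) : ℤ) := by
  haveI : Fintype G := Fintype.ofFinite G
  have hv := C.variance
  have hall : ∀ k : G, ((Mv D (k * b * k⁻¹) : ℤ) - 31671) ^ 2 = ((Mv D b : ℤ) - 31671) ^ 2 := fun k => by
    rw [Mv_conj C.group]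
  set O : Finset G := Finset.univ.image fun k : G => k * b * k⁻¹ with hO
  have hle : ∑ g ∈ O, ((Mv D g : ℤ) - 31671) ^ 2 ≤ ∑ g : G, ((Mv D g : ℤ) - 31671) ^ 2 :=
    Finset.sum_le_sum_of_subset_of_nonneg (Finset.subset_univ _) fun _ _ _ => sq_nonneg _
  rw [Finset.sum_congr rfl (g := fun _ => ((Mv D b : ℤ) - 31671) ^ 2) (fun g hg => by
    obtain ⟨k, -, rfl⟩ := Finset.mem_image.1 hg; exact hall k), Finset.sum_const, nsmul_eq_mul, hv] at hle
  have horb : O.card * Nat.card (Subgroup.centralizer ({b} : Set G)) = Fintype.card G := by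
    rw [← Finset.card_univ, Finset.card_eq_sum_card_image (fun k : G => k * b * k⁻¹) Finset.univ,
      ← smul_eq_mul, ← Finset.sum_const]
    refine Finset.sum_congr rfl fun y hy => ?_
    obtain ⟨k, -, rfl⟩ := Finset.mem_image.1 hy
    rw [Nat.card_eq_fintype_card, Fintype.card_subtype, ← Finset.card_map (Equiv.mulLeft k).toEmbedding]
    congr 1
    ext g
    simp only [Finset.mem_map_equiv, Finset.mem_filter, Finset.mem_univ, true_and, Equiv.mulLeft_symm_apply,
      Subgroup.mem_centralizer_singleton_iff]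
    constructor
    · intro h
      calc g * b * g⁻¹ = k * ((k⁻¹ * g) * b) * g⁻¹ := by group
        _ = k * (b * (k⁻¹ * g)) * g⁻¹ := by rw [h]
        _ = k * b * k⁻¹ := by group
    · intro h
      calc k⁻¹ * g * b = k⁻¹ * (g * b * g⁻¹) * g := by group
        _ = k⁻¹ * (k * b * k⁻¹) * g := by rw [h]
        _ = b * (k⁻¹ * g) := by group
  have hpos : 0 < O.card := Finset.card_pos.2 ⟨b, Finset.mem_image.2 ⟨1, Finset.mem_univ _, by simp⟩⟩
  have horb' : (O.card : ℤ) * (Nat.card (Subgroup.centralizer ({b} : Set G)) : ℤ) = (Fintype.card G : ℤ) := by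
    exact_mod_cast horb
  nlinarith [Int.natCast_pos.2 hpos]

end Ctx

end Cfsg.Agent.FischerUnique24
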