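import Cfsg.Agent.Lib.FischerUnique24.Match

/-!
Two groups of type M(24) are isomorphic as 3-transposition groups.
-/

set_option autoImplicit false

namespace Cfsg.Agent.FischerUnique24

open Cfsg.Agent.Fischer
open Cfsg.Agent.Fischer.Factor

variable {G G' X : Type*} [Group G] [Group G'] [Group X] [Finite G] [Finite G'] [Finite X]
  {D : Set G} {D' : Set G'} {D1 : Set X} {t : G} {t' : G'} {θ : G → G'}

/-- On the neighbours of a neighbour the extension is a compatible link. -/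
theorem phi_adj (C : Ctx D D1) (C' : Ctx D' D1) (h : IsLink D D' t t' θ) (ht : t ∈ D) (ht' : t' ∈ D')
    {φ : G → G'} (hnear : ∀ y, y ∈ Hd D t → y ∈ D → φ y = θ y)
    (hmatch : ∀ w ∈ Far D t, Matched D D' t t' θ w (φ w))
    (hequiv : ∀ g ∈ Hd D t, ∀ w ∈ Far D t, φ (g * w * g⁻¹) = θ g * φ w * (θ g)⁻¹)
    {u : G} (hu : u ∈ Nb D t) : ∃ ψ, IsAdj D D' t t' θ u ψ ∧ ∀ y ∈ Nb D u, φ y = ψ y := by
  obtain ⟨ψ₀, hψ₀⟩ := exists_adj C C' h ht ht' hu
  have htu : t ∈ Nb D u := ⟨ht, hu.2.1.symm, hu.2.2.symm⟩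
  obtain ⟨fu, hfu⟩ := C.chart u hu.1
  obtain ⟨Q₀, hQ₀⟩ := Set.nonempty_of_ncard_ne_zero (s := Far D1 (fu t)) (by
    rw [C.low.card_far (hfu.mem t htu)]; norm_num)
  obtain ⟨q₀, hq₀, rfl⟩ := hfu.lift Q₀ hQ₀.1
  have hq₀t : q₀ ∈ Far D t := ⟨hq₀.1, fun e => hQ₀.2 ((hfu.comm t htu q₀ hq₀).2 e)⟩
  have hsq : t * t = 1 := TSet.sq C.group.1 ht
  have hti : t⁻¹ = t := TSet.inv C.group.1 ht
  obtain ⟨ψ, hψ, hψq⟩ : ∃ ψ, IsAdj D D' t t' θ u ψ ∧ φ q₀ = ψ q₀ := by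
    rcases matched_pair C h ht hq₀t (hmatch q₀ hq₀t)
        (show u ∈ Com D t q₀ from ⟨hu, hu.1, hq₀.2.1.symm, hq₀.2.2.symm⟩) hψ₀ with e | e
    · exact ⟨ψ₀, hψ₀, e⟩
    have htH : t ∈ Hd D u := Subgroup.subset_closure htu
    have h2 := hψ₀.1.conj C.group C'.group t 1
    rw [conj_eq_self_of_commute hu.2.2] at h2
    simp only [one_mul, inv_one, mul_one] at h2
    refine ⟨fun x => ψ₀ (t⁻¹ * x * t), ⟨h2, ?_, fun y hy => ?_⟩, ?_⟩
    · show ψ₀ (t⁻¹ * t * t) = t'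
      rw [inv_mul_cancel, one_mul, hψ₀.2.1]
    · show ψ₀ (t⁻¹ * y * t) = θ y
      rw [show t⁻¹ * y * t = y by rw [mul_assoc, ← hy.1.2.2.eq, inv_mul_cancel_left]]
      exact hψ₀.2.2 y hy
    · show φ q₀ = ψ₀ (t⁻¹ * q₀ * t)
      have hq : q₀ ∈ Hd D u := Subgroup.subset_closure hq₀
      rw [hti, hψ₀.1.map_mul _ (mul_mem htH hq) _ htH, hψ₀.1.map_mul _ htH _ hq, hψ₀.2.1, e]
  refine ⟨ψ, hψ, fun y hy => ?_⟩
  have hyH : y ∈ Hd D u := Subgroup.subset_closure hy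
  by_cases hc : Commute t y
  · by_cases e : y = t
    · subst e; rw [hnear y (C.mem_self ht) ht, h.self, hψ.2.1]
    · have hy' : y ∈ Nb D t := ⟨hy.1, e, hc⟩
      rw [hnear y (Subgroup.subset_closure hy') hy.1, hψ.2.2 y ⟨hy', hy⟩]
  -- a far one is moved to the chosen one by the joint centraliser
  have hT : fu t ∈ D1 := hfu.mem t htu
  obtain ⟨a, ha, -⟩ := C.low.prim.2.1
  obtain ⟨b, hb⟩ := Set.nonempty_of_ncard_ne_zero (s := Nb D1 a) (by rw [C.low.card_nb ha]; norm_num)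
  obtain ⟨m, hm, hmq⟩ := prim_trans_noncommuting C.low.group C.low.prim
    ⟨a, ha, b, hb.1, hb.2.1.symm, hb.2.2⟩ hT (fu q₀) hQ₀.1 (fu y) (hfu.mem y hy) hQ₀.2
    (fun e => hc ((hfu.comm t htu y hy).1 e))
  obtain ⟨g, hg, rfl⟩ := hfu.surj m
  have htH : t ∈ Hd D u := Subgroup.subset_closure htu
  have hqH : q₀ ∈ Hd D u := Subgroup.subset_closure hq₀
  have hgu : g * u * g⁻¹ = u := conj_eq_self_of_commute (commute_of_mem_closure_nb hg).symm
  have hfc : ∀ {z}, z ∈ Nb D u → fu (g * z * g⁻¹) = fu g * fu z * (fu g)⁻¹ := fun {z} hz => by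
    rw [hfu.map_mul _ (mul_mem hg (Subgroup.subset_closure hz)) _ (inv_mem hg),
      hfu.map_mul _ hg _ (Subgroup.subset_closure hz), hfu.map_inv hg]
  have hgt : g * t * g⁻¹ = t := hfu.inj _ (hgu ▸ nb_conj C.group g htu) t htu (by
    rw [hfc htu, conj_eq_self_of_commute (commute_of_mem_commClosure hm)])
  have hgq : g * q₀ * g⁻¹ = y := hfu.inj _ (hgu ▸ nb_conj C.group g hq₀) y hy (by rw [hfc hq₀, hmq])
  have hgK : g ∈ Subgroup.closure (Com D t u) := by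
    rw [← (C.com_near ht hu).2.2, Subgroup.mem_centralizer_iff]
    rintro v (rfl | rfl)
    exacts [(mul_inv_eq_iff_eq_mul.1 hgt).symm, (mul_inv_eq_iff_eq_mul.1 hgu).symm]
  have hgt' : g ∈ Hd D t := (Subgroup.closure_mono Set.inter_subset_left : _ ≤ Hd D t) hgK
  have he : ψ g = θ g := h.eq_closure hψ.1 (fun z hz => Subgroup.subset_closure hz.1)
    (fun z hz => Subgroup.subset_closure hz.2) hψ.2.2 hgK
  rw [← hgq, hequiv g hgt' q₀ hq₀t, hψ.1.map_conj hg hqH, he, hψq]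

/-- Two groups over the same quotient are isomorphic. -/
theorem exists_iso_of_ctx (C : Ctx D D1) (C' : Ctx D' D1) : ∃ e : G ≃* G', e '' D = D' := by
  classical
  obtain ⟨t, ht, -⟩ := C.prim.2.1
  obtain ⟨t', ht', -⟩ := C'.prim.2.1
  obtain ⟨θ, h⟩ := exists_link C C' ht ht'
  obtain ⟨φ, hnear, hmem, hinj, hmatch, hequiv⟩ := exists_phi C C' h ht ht'
  have hH : ∀ {a b}, b ∈ Nb D a → b ∈ Hd D a := fun hb => Subgroup.subset_closure hb
  have hcomm : ∀ x ∈ D, ∀ y ∈ D, Commute x y → Commute (φ x) (φ y) := by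
    intro x hx y hy hxy
    obtain ⟨u, hut, hux, huy⟩ : ∃ u, u ∈ Nb D t ∧ u ∈ Nb D x ∧ u ∈ Nb D y := by
      obtain ⟨u, h1, h2, h3⟩ := C.common_three hx hy ht hxy
      exact ⟨u, h3, h1, h2⟩
    obtain ⟨ψ, hψ, hφψ⟩ := phi_adj C C' h ht ht' hnear hmatch hequiv hut
    have hx' : x ∈ Nb D u := ⟨hx, hux.2.1.symm, hux.2.2.symm⟩
    have hy' : y ∈ Nb D u := ⟨hy, huy.2.1.symm, huy.2.2.symm⟩
    rw [hφψ x hx', hφψ y hy']
    exact (hψ.1.commute_iff (hH hx') (hH hy')).2 hxy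
  have hnb : ∀ d ∈ D, φ '' Nb D d = Nb D' (φ d) := by
    intro d hd
    refine Set.eq_of_subset_of_ncard_le ?_ (le_of_eq ?_) (Set.toFinite _)
    · rintro _ ⟨y, hy, rfl⟩
      exact ⟨hmem y hy.1, fun e => hy.2.1 (hinj hy.1 hd e), hcomm d hd y hy.1 hy.2.2⟩
    · rw [Set.InjOn.ncard_image (hinj.mono fun y hy => hy.1), C.card_nb hd, C'.card_nb (hmem d hd)]
  have hfar : ∀ x ∈ D, ∀ y ∈ D, Commute (φ x) (φ y) → Commute x y := by
    intro x hx y hy hc
    by_cases e : y = x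
    · rw [e]
    have hm : φ y ∈ φ '' Nb D x := (hnb x hx).ge ⟨hmem y hy, fun e' => e (hinj hy hx e'), hc⟩
    obtain ⟨y', hy', e'⟩ := hm
    exact hinj hy'.1 hy e' ▸ hy'.2.2
  have hconj : ∀ d ∈ D, ∀ y ∈ D, φ (d * y * d⁻¹) = φ d * φ y * (φ d)⁻¹ := by
    intro d hd y hy
    by_cases hc : Commute d y
    · rw [conj_eq_self_of_commute hc, conj_eq_self_of_commute (hcomm d hd y hy hc)]
    have hq : d * y * d⁻¹ ∈ D := C.group.2.1 d y hy
    have hc' : ¬ Commute (φ d) (φ y) := fun e => hc (hfar d hd y hy e)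
    have hall : ∀ z ∈ Com D' (φ d) (φ y), Commute (φ (d * y * d⁻¹)) z := by
      rintro z ⟨hz1, hz2⟩
      rw [← hnb d hd] at hz1
      obtain ⟨x, hx, rfl⟩ := hz1
      have hxy : Commute y x := hfar y hy x hx.1 hz2.2.2
      exact hcomm _ hq x hx.1 ((hx.2.2.mul_left hxy).mul_left hx.2.2.inv_left)
    rcases C'.twin_one hc' (hmem d hd) (hmem y hy) (hmem _ hq) hall with e | e | e
    · refine absurd (hinj hq hd e) fun e' => hc ?_
      rw [mul_inv_eq_iff_eq_mul] at e'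
      exact (mul_left_cancel e') ▸ Commute.refl d
    · refine absurd (hinj hq hy e) fun e' => hc ?_
      exact mul_inv_eq_iff_eq_mul.1 e'
    · rw [e, TSet.inv C'.group.1 (hmem d hd)]
  -- the two groups act faithfully on their classes
  have hcard : Nat.card D = Nat.card D' := by
    rw [Nat.card_coe_set_eq, Nat.card_coe_set_eq, C.card_class, C'.card_class]
  let Φ : D ≃ D' := Equiv.ofBijective (fun y => ⟨φ y, hmem y y.2⟩)
    ((Nat.bijective_iff_injective_and_card _).2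
      ⟨fun x y e => Subtype.ext (hinj x.2 y.2 (congrArg Subtype.val e)), hcard⟩)
  obtain ⟨ρ, hρ⟩ : ∃ ρ : G →* Equiv.Perm D, ∀ g (y : D), (ρ g y : G) = g * y * g⁻¹ :=
    ⟨{ toFun := fun g => ⟨fun y => ⟨g * y * g⁻¹, C.group.2.1 g y y.2⟩,
          fun y => ⟨g⁻¹ * y * g, by simpa using C.group.2.1 g⁻¹ y y.2⟩,
          fun y => Subtype.ext (by simp [mul_assoc]), fun y => Subtype.ext (by simp [mul_assoc])⟩
       map_one' := Equiv.ext fun y => Subtype.ext (by simp)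
       map_mul' := fun a b => Equiv.ext fun y => Subtype.ext (by simp [mul_assoc]) }, fun g y => rfl⟩
  obtain ⟨ρ', hρ'⟩ : ∃ ρ' : G' →* Equiv.Perm D', ∀ g (y : D'), (ρ' g y : G') = g * y * g⁻¹ :=
    ⟨{ toFun := fun g => ⟨fun y => ⟨g * y * g⁻¹, C'.group.2.1 g y y.2⟩,
          fun y => ⟨g⁻¹ * y * g, by simpa using C'.group.2.1 g⁻¹ y y.2⟩,
          fun y => Subtype.ext (by simp [mul_assoc]), fun y => Subtype.ext (by simp [mul_assoc])⟩
       map_one' := Equiv.ext fun y => Subtype.ext (by simp)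
       map_mul' := fun a b => Equiv.ext fun y => Subtype.ext (by simp [mul_assoc]) }, fun g y => rfl⟩
  have hρi : Function.Injective ρ := (injective_iff_map_eq_one ρ).2 fun g hg => by
    have : g ∈ Subgroup.center G := mem_center_of_commute_gen C.group.2.2 fun y hy =>
      mul_inv_eq_iff_eq_mul.1 (by rw [← hρ g ⟨y, hy⟩, hg]; rfl)
    rwa [C.center, Subgroup.mem_bot] at this
  have hρi' : Function.Injective ρ' := (injective_iff_map_eq_one ρ').2 fun g hg => by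
    have : g ∈ Subgroup.center G' := mem_center_of_commute_gen C'.group.2.2 fun y hy =>
      mul_inv_eq_iff_eq_mul.1 (by rw [← hρ' g ⟨y, hy⟩, hg]; rfl)
    rwa [C'.center, Subgroup.mem_bot] at this
  let σ : Equiv.Perm D →* Equiv.Perm D' := (Equiv.permCongrHom Φ).toMonoidHom
  have hσ : ∀ d : D, σ (ρ d) = ρ' (Φ d) := fun d => Equiv.ext fun y => by
    refine Subtype.ext ?_
    obtain ⟨x, rfl⟩ := Φ.surjective y
    show (Φ (ρ d (Φ.symm (Φ x))) : G') = _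
    rw [Φ.symm_apply_apply, hρ']
    show φ (ρ d x : G) = φ d * φ x * (φ d)⁻¹
    rw [hρ]
    exact hconj d d.2 x x.2
  have hrange : (σ.comp ρ).range = ρ'.range := by
    rw [MonoidHom.range_eq_map, MonoidHom.range_eq_map, ← C.group.2.2, ← C'.group.2.2, MonoidHom.map_closure,
      MonoidHom.map_closure]
    congr 1
    ext π
    constructor
    · rintro ⟨d, hd, rfl⟩
      exact ⟨_, (Φ ⟨d, hd⟩).2, (hσ ⟨d, hd⟩).symm⟩
    · rintro ⟨d, hd, rfl⟩
      obtain ⟨x, hx⟩ := Φ.surjective ⟨d, hd⟩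
      exact ⟨x, x.2, (hσ x).trans (by rw [hx])⟩
  have hinj' : Function.Injective (σ.comp ρ) := (Equiv.permCongrHom Φ).injective.comp hρi
  let e : G ≃* G' := (MonoidHom.ofInjective hinj').trans
    ((MulEquiv.subgroupCongr hrange).trans (MonoidHom.ofInjective hρi').symm)
  have he : ∀ d : D, e d = Φ d := fun d => by
    refine hρi' ?_
    have := congrArg Subtype.val ((MonoidHom.ofInjective hρi').apply_symm_apply
      ((MulEquiv.subgroupCongr hrange) ((MonoidHom.ofInjective hinj') (d : G))))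
    exact this.trans (hσ d)
  refine ⟨e, Set.Subset.antisymm ?_ fun z hz => ?_⟩
  · rintro _ ⟨d, hd, rfl⟩
    rw [he ⟨d, hd⟩]
    exact (Φ ⟨d, hd⟩).2
  · obtain ⟨x, hx⟩ := Φ.surjective ⟨z, hz⟩
    exact ⟨x, x.2, by rw [he x, hx]⟩

/-- The quotient may be replaced by an isomorphic one. -/
theorem Ctx.transport {Y : Type*} [Group Y] {E1 : Set Y} (C : Ctx D D1) (hE : Is23 E1) (Ψ : X ≃* Y)
    (hΨ : Ψ '' D1 = E1) : Ctx D E1 := by
  refine ⟨C.group, C.prim, C.center, hE, fun t ht => ?_, C.frame⟩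
  obtain ⟨f, hf⟩ := C.chart t ht
  refine ⟨Ψ ∘ f, ⟨fun x hx y hy => ?_, fun z => ?_, fun x hx => ?_, fun y hy => hΨ ▸ ⟨_, hf.mem y hy, rfl⟩,
    fun z hz => ?_, fun y hy y' hy' e => hf.inj y hy y' hy' (Ψ.injective e), fun y hy y' hy' => ?_⟩⟩
  · simp only [Function.comp_apply, hf.map_mul x hx y hy, map_mul]
  · obtain ⟨x, hx, e⟩ := hf.surj (Ψ.symm z)
    exact ⟨x, hx, by simp [Function.comp_apply, e]⟩
  · rw [Function.comp_apply, MulEquiv.map_eq_one_iff]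
    exact hf.ker x hx
  · obtain ⟨w, hw, rfl⟩ := hΨ.ge hz
    obtain ⟨y, hy, rfl⟩ := hf.lift w hw
    exact ⟨y, hy, rfl⟩
  · rw [← hf.comm y hy y' hy']
    exact ⟨fun e => by simpa using e.map Ψ.symm.toMonoidHom, fun e => e.map Ψ.toMonoidHom⟩

end Cfsg.Agent.FischerUnique24
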