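import Cfsg.Agent.Lib.FischerUnique23.Lab

/-!
In a primitive group of type M(24) the quotient at a transposition is a primitive group of type M(23);
no hypothesis on the cores is needed.
-/

set_option autoImplicit false
set_option maxRecDepth 100000

namespace Cfsg.Agent.FischerUnique24

open Cfsg.Agent.Fischer
open Cfsg.Agent.Fischer.Factor

universe u

variable {G : Type u} [Group G] {D : Set G}

/-- The images of two involutions of a set of 3-transpositions commute only if they do. -/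
theorem mk_commute_iff' {S : Set G} (hS : Cfsg.IsThreeTranspositionSet S) {d : G}
    {x y : ↥(Subgroup.closure (Nb D d))} (hx : (x : G) ∈ S) (hy : (y : G) ∈ S) :
    Commute (QuotientGroup.mk x : Q D d) (QuotientGroup.mk y) ↔ Commute (x : G) (y : G) := by
  refine ⟨fun h => ?_, fun h => Commute.map (show Commute x y from Subtype.ext h.eq)
    (QuotientGroup.mk' (Subgroup.center ↥(Subgroup.closure (Nb D d))))⟩
  by_contra hc
  have hxx : x * x = 1 := Subtype.ext (TSet.sq hS hx)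
  have hyy : y * y = 1 := Subtype.ext (TSet.sq hS hy)
  set π := QuotientGroup.mk' (Subgroup.center ↥(Subgroup.closure (Nb D d))) with hπ
  have h2 : (π x * π y) ^ 2 = 1 := by
    refine (commute_iff_sq_eq_one ?_ ?_).1 h <;> rw [← map_mul] <;> simp [hxx, hyy]
  have h3 : (π x * π y) ^ 3 = 1 := by
    rw [← map_mul, ← map_pow, show (x * y) ^ 3 = 1 from Subtype.ext (TSet.cube hS hx hy hc), map_one]
  rw [pow_succ, h2, one_mul, ← map_mul] at h3
  have hz := Subgroup.mem_center_iff.1 ((QuotientGroup.eq_one_iff _).1 h3) x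
  rw [← mul_assoc, hxx, one_mul] at hz
  refine hc (congrArg Subtype.val (show x * y = y * x from ?_))
  calc x * y = x * y * (x * x) := by rw [hxx, mul_one]
    _ = y * x := by rw [← mul_assoc, ← hz]

/-- The images other than one form a 3-transposition group, also when one is a member upstairs. -/
theorem img_tset' (hT : Cfsg.IsThreeTranspositionGroup (D \ {1})) (f : G) :
    Cfsg.IsThreeTranspositionGroup (img D f \ {1}) := by
  have hconj : ∀ g : G, ∀ y ∈ D, g * y * g⁻¹ ∈ D := by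
    intro g y hy
    by_cases h1 : y = 1
    · subst h1; simpa using hy
    · exact (hT.2.1 g y ⟨hy, h1⟩).1
  have key : ∀ x : ↥(Subgroup.closure (Nb D f)), (x : G) ∈ Nb D f →
      (QuotientGroup.mk x : Q D f) ≠ 1 → (x : G) ∈ D \ {1} := fun x hx hne =>
    ⟨hx.1, fun h => hne (by rw [show x = 1 from Subtype.ext h, QuotientGroup.mk_one])⟩
  refine ⟨⟨?_, ?_⟩, fun g z hz => ⟨?_, ?_⟩, ?_⟩
  · rintro _ ⟨⟨x, hx, rfl⟩, hne⟩
    refine orderOf_eq_prime ?_ hne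
    rw [pow_two, ← QuotientGroup.mk_mul, show x * x = 1 from Subtype.ext (TSet.sq hT.1 (key x hx hne)),
      QuotientGroup.mk_one]
  · rintro _ ⟨⟨x, hx, rfl⟩, hnx⟩ _ ⟨⟨y, hy, rfl⟩, hny⟩
    rcases hT.1.2 x (key x hx hnx) y (key y hy hny) with h | h
    · left
      rw [← QuotientGroup.mk_mul, ← QuotientGroup.mk_pow, show (x * y) ^ 2 = 1 from Subtype.ext h,
        QuotientGroup.mk_one]
    · right
      rw [← QuotientGroup.mk_mul, ← QuotientGroup.mk_pow, show (x * y) ^ 3 = 1 from Subtype.ext h,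
        QuotientGroup.mk_one]
  · obtain ⟨⟨x, hx, rfl⟩, -⟩ := hz
    obtain ⟨g, rfl⟩ := QuotientGroup.mk_surjective g
    refine ⟨g * x * g⁻¹, ?_, by simp⟩
    have hgf : (g : G) * f * (g : G)⁻¹ = f :=
      conj_eq_self_of_commute (commute_of_mem_closure_nb g.2).symm
    refine ⟨hconj g _ hx.1, fun e => hx.2.1 ?_, ?_⟩
    · exact mul_left_cancel (mul_right_cancel (e.trans hgf.symm))
    · have h := (commute_conj_iff (g : G) f x).2 hx.2.2
      rw [hgf] at h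
      exact h
  · intro h
    rw [Set.mem_singleton_iff, conj_eq_one_iff] at h
    exact hz.2 h
  · rw [Subgroup.closure_sdiff_one, img_closure]

variable [Finite G]

/-- The facts at the unitary level of a group of type M(22). -/
theorem m22_cores (h : Cfsg.IsOfTypeM22 G D) :
    Subgroup.center G = ⊥ ∧ ∃ f ∈ D, Cfsg.pCore 2 (Q D f) = ⊥ ∧ Cfsg.pCore 3 (Q D f) = ⊥ ∧
      ∃ p ∈ Nb D f, ∃ q ∈ Nb D f, ¬ Commute p q := by
  obtain ⟨hz, d, hd, c, -, -, ⟨K, iK, iKK, hK, ⟨e⟩⟩, -⟩ := h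
  obtain ⟨h2, x, y, hxy⟩ := psu_six hK
  obtain ⟨ψ⟩ := FischerUnique.nonempty_psu_model hK
  have hs := FischerUnique.isSimple_psu
  have h3 : Cfsg.pCore 3 (Q D d) = ⊥ := by
    refine core_of_iso (e.trans ψ) ?_
    haveI : (Cfsg.pCore 3 (Cfsg.PSU 6 Cfsg.Agent.RigidGraph.He.K4 2)).Normal := Cfsg.pCore_normal 3 _
    refine (Subgroup.Normal.eq_bot_or_eq_top inferInstance).resolve_right fun h => ?_
    haveI := Fact.mk Nat.prime_three
    have hp3 := PBasic.pCore_isPGroup 3 (Cfsg.PSU 6 Cfsg.Agent.RigidGraph.He.K4 2)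
    rw [h] at hp3
    haveI : Nontrivial (Cfsg.PSU 6 Cfsg.Agent.RigidGraph.He.K4 2) := inferInstance
    have hp3' : IsPGroup 3 (Cfsg.PSU 6 Cfsg.Agent.RigidGraph.He.K4 2) := hp3.of_equiv Subgroup.topEquiv
    haveI := hp3'.center_nontrivial
    exact (Subgroup.nontrivial_iff_ne_bot _).1 this FischerPresented.U62.center_psu
  refine ⟨hz, d, hd, core_of_iso e h2, h3, exists_nc_nb ⟨e.symm x, e.symm y, fun h => hxy ?_⟩⟩
  have := congrArg e h.eq
  exact ((congrArg₂ (· * ·) (e.apply_symm_apply x).symm (e.apply_symm_apply y).symm).trans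
    ((e.map_mul' _ _).symm.trans (this.trans ((e.map_mul' _ _).trans
      (congrArg₂ (· * ·) (e.apply_symm_apply y) (e.apply_symm_apply x))))))

/-- Two quotients down, trivial cores rule out twins and pairs with the same neighbours. -/
theorem two_levels {Y₁ : Type*} [Group Y₁] [Finite Y₁] {D1 : Set Y₁} (hT1 : Cfsg.IsThreeTranspositionGroup D1)
    (htr : Trans D1) {e : Y₁} (he : e ∈ D1) {F₂ P₂ R₂ : ↥(Subgroup.closure (Nb D1 e))}
    (hF₂ : (F₂ : Y₁) ∈ Nb D1 e) (hP₂ : (P₂ : Y₁) ∈ Nb D1 e) (hR₂ : (R₂ : Y₁) ∈ Nb D1 e)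
    (hp : (QuotientGroup.mk P₂ : Q D1 e) ∈ Nb (img D1 e) (QuotientGroup.mk F₂))
    (hqn : (QuotientGroup.mk R₂ : Q D1 e) ∈ Nb (img D1 e) (QuotientGroup.mk F₂))
    (hpq : ¬ Commute (QuotientGroup.mk P₂ : Q D1 e) (QuotientGroup.mk R₂))
    (hq2 : Cfsg.pCore 2 (Q (img D1 e) (QuotientGroup.mk F₂)) = ⊥)
    (hq3 : Cfsg.pCore 3 (Q (img D1 e) (QuotientGroup.mk F₂)) = ⊥) :
    TwinFree D1 ∧ ∀ x ∈ D1, ∀ v, SameNbr D1 x v → v = x := by
  have cFP : Commute (F₂ : Y₁) (P₂ : Y₁) := (mk_commute_iff hT1.1 hF₂.1 hP₂.1).1 hp.2.2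
  have cFR : Commute (F₂ : Y₁) (R₂ : Y₁) := (mk_commute_iff hT1.1 hF₂.1 hR₂.1).1 hqn.2.2
  have hPR : ¬ Commute (P₂ : Y₁) (R₂ : Y₁) := fun h => hpq ((mk_commute_iff hT1.1 hP₂.1 hR₂.1).2 h)
  have hT2 : Cfsg.IsThreeTranspositionGroup (img D1 e \ {1}) := img_tset hT1 e
  have hT3 := img_tset' hT2 (QuotientGroup.mk F₂ : Q D1 e)
  have n1 : ∀ {X : ↥(Subgroup.closure (Nb D1 e))}, (X : Y₁) ∈ Nb D1 e →
      ∀ {Y : ↥(Subgroup.closure (Nb D1 e))}, (Y : Y₁) ∈ Nb D1 e → ¬ Commute (X : Y₁) (Y : Y₁) →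
        (QuotientGroup.mk X : Q D1 e) ∈ img D1 e \ {1} := fun {X} hX {Y} hY hXY =>
    ⟨⟨X, hX, rfl⟩, fun h => hXY ((mk_eq_one_iff X).1 h Y hY)⟩
  -- every member is transported to the lift of `P₂`
  have hmove : ∀ x ∈ D1, ∃ g : Y₁, g * x * g⁻¹ = (P₂ : Y₁) := fun x hx => htr x hx _ hP₂.1
  -- no twins
  have hfree1 : TwinFree D1 := by
    intro x v hx hs
    obtain ⟨g, hg⟩ := hmove x hx
    have hs' := hs.conj hT1.2.1 g
    rw [hg] at hs'
    refine mul_left_cancel (a := g) (mul_right_cancel (b := g⁻¹) ?_)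
    rw [hg]
    set w := g * v * g⁻¹
    by_contra hne
    have cwP : Commute (P₂ : Y₁) w := hs'.commute
    have cwR : ¬ Commute w (R₂ : Y₁) := fun h => hPR ((hs'.2 _ hR₂.1).1 h)
    have cwe : Commute w e := (hs'.2 e (he)).2 hP₂.2.2.symm
    have hwN : w ∈ Nb D1 e := ⟨hs'.1, fun h => cwR (h ▸ hR₂.2.2), cwe.symm⟩
    have cwF : Commute w (F₂ : Y₁) := (hs'.2 _ hF₂.1).2 cFP.symm
    set W : ↥(Subgroup.closure (Nb D1 e)) := ⟨w, nb_subset hwN⟩
    have hW2 : (QuotientGroup.mk W : Q D1 e) ∈ img D1 e \ {1} := n1 (X := W) hwN hR₂ cwR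
    have hP2' := n1 hP₂ hR₂ hPR
    have hR2' := n1 hR₂ hP₂ fun h => hPR h.symm
    have hWn : (QuotientGroup.mk W : Q D1 e) ∈ Nb (img D1 e) (QuotientGroup.mk F₂) := by
      refine ⟨hW2.1, fun h => cwR ?_, (mk_commute_iff hT1.1 hF₂.1 hwN.1).2 cwF.symm⟩
      refine (mk_commute_iff hT1.1 (x := W) hwN.1 hR₂.1).1 ?_
      rw [h]
      exact hqn.2.2
    set P₃ : ↥(Subgroup.closure (Nb (img D1 e) (QuotientGroup.mk F₂))) := ⟨_, nb_subset hp⟩
    set R₃ : ↥(Subgroup.closure (Nb (img D1 e) (QuotientGroup.mk F₂))) := ⟨_, nb_subset hqn⟩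
    set W₃ : ↥(Subgroup.closure (Nb (img D1 e) (QuotientGroup.mk F₂))) := ⟨_, nb_subset hWn⟩
    have hPm : (QuotientGroup.mk P₃ : Q (img D1 e) _) ∈ img (img D1 e) (QuotientGroup.mk F₂) \ {1} :=
      ⟨⟨P₃, hp, rfl⟩, fun h => hpq ((mk_eq_one_iff P₃).1 h _ hqn)⟩
    have hWm : (QuotientGroup.mk W₃ : Q (img D1 e) _) ∈ img (img D1 e) (QuotientGroup.mk F₂) \ {1} :=
      ⟨⟨W₃, hWn, rfl⟩, fun h => cwR ((mk_commute_iff hT1.1 (x := W) hwN.1 hR₂.1).1
        ((mk_eq_one_iff W₃).1 h _ hqn))⟩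
    have hsame : SameComm (img (img D1 e) (QuotientGroup.mk F₂) \ {1}) (QuotientGroup.mk P₃)
        (QuotientGroup.mk W₃) := by
      refine ⟨hWm, ?_⟩
      rintro _ ⟨⟨X, hX, rfl⟩, hX1⟩
      have hX2 : (X : Q D1 e) ∈ img D1 e \ {1} :=
        ⟨hX.1, fun h => hX1 (by rw [show X = 1 from Subtype.ext h, QuotientGroup.mk_one]; rfl)⟩
      obtain ⟨X', hX', eX⟩ := img_lift hX.1
      rw [mk_commute_iff' hT2.1 (x := W₃) hW2 hX2, mk_commute_iff' hT2.1 (x := P₃) hP2' hX2]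
      show Commute (QuotientGroup.mk W : Q D1 e) X ↔ Commute (QuotientGroup.mk P₂ : Q D1 e) X
      rw [← eX, mk_commute_iff hT1.1 (x := W) hwN.1 hX'.1, mk_commute_iff hT1.1 hP₂.1 hX'.1]
      exact hs'.2 _ hX'.1
    have hm := hsame.mul_mem_pCore hT3 hPm
    rw [hq2, Subgroup.mem_bot, ← QuotientGroup.mk_mul] at hm
    have h4 := (mk_eq_one_iff _).1 hm _ hqn
    rw [Subgroup.coe_mul] at h4
    change Commute ((QuotientGroup.mk P₂ : Q D1 e) * QuotientGroup.mk W) (QuotientGroup.mk R₂) at h4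
    by_cases hPW : (QuotientGroup.mk P₂ : Q D1 e) = QuotientGroup.mk W
    · have h5 : (QuotientGroup.mk (P₂ * W) : Q D1 e) = 1 := by
        rw [QuotientGroup.mk_mul, hPW]
        exact TSet.sq hT2.1 hW2
      have h6 := (mk_eq_one_iff _).1 h5 _ hR₂
      rw [Subgroup.coe_mul] at h6
      exact hPR ((TSet.commute_mul_iff hT1.1 hP₂.1 hwN.1 hR₂.1 (Ne.symm hne) cwP).1 h6.symm).1.symm
    · exact hpq ((TSet.commute_mul_iff hT2.1 hP2' hW2 hR2' hPW
        ((mk_commute_iff hT1.1 hP₂.1 (y := W) hwN.1).2 cwP)).1 h4.symm).1.symm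
  -- no pairs with the same neighbours
  have hnbr : ∀ x ∈ D1, ∀ v, SameNbr D1 x v → v = x := by
    intro x hx v hs
    obtain ⟨g, hg⟩ := hmove x hx
    have hs' := hs.conj hT1.2.1 g
    rw [hg] at hs'
    refine mul_left_cancel (a := g) (mul_right_cancel (b := g⁻¹) ?_)
    rw [hg]
    set w := g * v * g⁻¹
    by_contra hne
    have cwP : ¬ Commute (P₂ : Y₁) w := hs'.not_commute hne
    have h1 := (hs'.2 e he).1 ⟨hP₂.2.1.symm, hP₂.2.2.symm⟩
    have hwN : w ∈ Nb D1 e := ⟨hs'.1, h1.1.symm, h1.2.symm⟩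
    have hFP : (F₂ : Y₁) ≠ P₂ := fun h => hPR (h ▸ cFR)
    have h2 := (hs'.2 _ hF₂.1).1 ⟨hFP, cFP.symm⟩
    set W : ↥(Subgroup.closure (Nb D1 e)) := ⟨w, nb_subset hwN⟩
    have hW2 : (QuotientGroup.mk W : Q D1 e) ∈ img D1 e \ {1} :=
      n1 (X := W) hwN hP₂ fun h => cwP h.symm
    have hP2' := n1 hP₂ hR₂ hPR
    have hWn : (QuotientGroup.mk W : Q D1 e) ∈ Nb (img D1 e) (QuotientGroup.mk F₂) := by
      refine ⟨hW2.1, fun h => cwP ?_, (mk_commute_iff hT1.1 hF₂.1 hwN.1).2 h2.2.symm⟩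
      refine (mk_commute_iff hT1.1 hP₂.1 (y := W) hwN.1).1 ?_
      rw [h]
      exact hp.2.2.symm
    set P₃ : ↥(Subgroup.closure (Nb (img D1 e) (QuotientGroup.mk F₂))) := ⟨_, nb_subset hp⟩
    set W₃ : ↥(Subgroup.closure (Nb (img D1 e) (QuotientGroup.mk F₂))) := ⟨_, nb_subset hWn⟩
    have hc3 : ∀ {X Y : ↥(Subgroup.closure (Nb (img D1 e) (QuotientGroup.mk F₂)))},
        (X : Q D1 e) ∈ img D1 e \ {1} → (Y : Q D1 e) ∈ img D1 e \ {1} →
        (Commute (QuotientGroup.mk X : Q (img D1 e) _) (QuotientGroup.mk Y) ↔ Commute (X : Q D1 e) Y) :=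
      fun hX hY => mk_commute_iff' hT2.1 hX hY
    have hnc3 : ¬ Commute (QuotientGroup.mk P₃ : Q (img D1 e) _) (QuotientGroup.mk W₃) := fun h =>
      cwP ((mk_commute_iff hT1.1 hP₂.1 (y := W) hwN.1).1 ((hc3 (X := P₃) hP2' (Y := W₃) hW2).1 h))
    have hPm : (QuotientGroup.mk P₃ : Q (img D1 e) _) ∈ img (img D1 e) (QuotientGroup.mk F₂) \ {1} :=
      ⟨⟨P₃, hp, rfl⟩, fun h => hnc3 (by rw [h]; exact Commute.one_left _)⟩
    have hWm : (QuotientGroup.mk W₃ : Q (img D1 e) _) ∈ img (img D1 e) (QuotientGroup.mk F₂) \ {1} :=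
      ⟨⟨W₃, hWn, rfl⟩, fun h => hnc3 (by rw [h]; exact Commute.one_right _)⟩
    have hsame : SameNbr (img (img D1 e) (QuotientGroup.mk F₂) \ {1}) (QuotientGroup.mk P₃)
        (QuotientGroup.mk W₃) := by
      refine ⟨hWm, ?_⟩
      rintro _ ⟨⟨X, hX, rfl⟩, hX1⟩
      have hX2 : (X : Q D1 e) ∈ img D1 e \ {1} :=
        ⟨hX.1, fun h => hX1 (by rw [show X = 1 from Subtype.ext h, QuotientGroup.mk_one]; rfl)⟩
      obtain ⟨X', hX', eX⟩ := img_lift hX.1
      have cP : Commute (QuotientGroup.mk P₃ : Q (img D1 e) _) (QuotientGroup.mk X) ↔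
          Commute (P₂ : Y₁) X' := by
        rw [hc3 (X := P₃) hP2' hX2]
        show Commute (QuotientGroup.mk P₂ : Q D1 e) X ↔ _
        rw [← eX, mk_commute_iff hT1.1 hP₂.1 hX'.1]
      have cW : Commute (QuotientGroup.mk W₃ : Q (img D1 e) _) (QuotientGroup.mk X) ↔
          Commute w X' := by
        rw [hc3 (X := W₃) hW2 hX2]
        show Commute (QuotientGroup.mk W : Q D1 e) X ↔ _
        rw [← eX, mk_commute_iff hT1.1 (x := W) hwN.1 hX'.1]
      rw [cP, cW]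
      constructor
      · rintro ⟨hne', hc⟩
        refine ⟨fun h => hnc3 ?_, ((hs'.2 _ hX'.1).1 ⟨fun h => hne' ?_, hc⟩).2⟩
        · rw [← h]; exact cP.2 hc
        · exact congrArg QuotientGroup.mk (Subtype.ext (eX.symm.trans
            (congrArg QuotientGroup.mk (Subtype.ext h))) : X = P₃)
      · rintro ⟨hne', hc⟩
        refine ⟨fun h => hnc3 ?_, ((hs'.2 _ hX'.1).2 ⟨fun h => hne' ?_, hc⟩).2⟩
        · rw [← h]; exact (cW.2 hc).symm
        · exact congrArg QuotientGroup.mk (Subtype.ext (eX.symm.trans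
            (congrArg QuotientGroup.mk (Subtype.ext h : X' = W))) : X = W₃)
    have hm := hsame.mul_mem_pCore hT3 hPm
    rw [hq3, Subgroup.mem_bot, mul_eq_one_iff_eq_inv, TSet.inv hT3.1 hWm] at hm
    exact hnc3 (hm ▸ Commute.refl _)
  exact ⟨hfree1, hnbr⟩

/-- The quotient at a distinguished transposition is primitive of type M(23). -/
theorem local_m23 (hT : Cfsg.IsThreeTranspositionGroup D) (hprim : Cfsg.IsPrimitiveUnderConj D)
    (ht : Cfsg.IsOfTypeM24 G D) : ∃ d ∈ D, Cfsg.IsThreeTranspositionGroup (img D d) ∧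
      Cfsg.IsPrimitiveUnderConj (img D d) ∧ Cfsg.IsOfTypeM23 (Q D d) (img D d) := by
  have hfree : TwinFree D := fun d v hd hs => prim_sameComm_trivial hT hprim hd hs
  obtain ⟨-, d, hd, c, -, -, h23, -⟩ := ht
  have h23' : Cfsg.IsOfTypeM23 (Q D d) (img D d) := h23
  refine ⟨d, hd, img_group hT hprim.1 hfree hd, ?_, h23'⟩
  obtain ⟨hz1, e, he, c', -, -, h22, -⟩ := h23
  have h22' : Cfsg.IsOfTypeM22 (Q (img D d) e) (img (img D d) e) := h22
  obtain ⟨-, f, hf, hq2, hq3, p, hp, q, hqn, hpq⟩ := m22_cores h22'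
  obtain ⟨F₂, hF₂, rfl⟩ := img_lift hf
  obtain ⟨P₂, hP₂, rfl⟩ := img_lift hp.1
  obtain ⟨R₂, hR₂, rfl⟩ := img_lift hqn.1
  obtain ⟨E, hE, rfl⟩ := img_lift (show e ∈ img D d from he)
  have hT1 := img_group hT hprim.1 hfree hd
  have hw : ∃ a ∈ D, ∃ b ∈ D, a ≠ b ∧ Commute a b := ⟨d, hd, E, hE.1, hE.2.1.symm, hE.2.2⟩
  have htr : Trans (img D d) := img_trans (prim_trans_commuting hT hprim hw hd)
  have hPR : ¬ Commute (P₂ : Q D d) (R₂ : Q D d) := fun h => hpq ((mk_commute_iff hT1.1 hP₂.1 hR₂.1).2 h)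
  -- common neighbours
  have hcom : Common (img D d) := by
    obtain ⟨P₁, hP₁, eP⟩ := img_lift hP₂.1
    obtain ⟨R₁, hR₁, eR⟩ := img_lift hR₂.1
    have cEP : Commute (E : G) P₁ := (mk_commute_iff hT.1 hE.1 hP₁.1).1 (eP ▸ hP₂.2.2)
    have cER : Commute (E : G) R₁ := (mk_commute_iff hT.1 hE.1 hR₁.1).1 (eR ▸ hR₂.2.2)
    have h0 : ¬ Commute (P₁ : G) (R₁ : G) := fun h =>
      hPR (eP ▸ eR ▸ (mk_commute_iff hT.1 hP₁.1 hR₁.1).2 h)
    exact common_img hT hprim hfree hP₁.1 hR₁.1 hd hE.1 h0 hE.2.1.symm hE.2.2 hP₁.2.2 hR₁.2.2 cEP cER hd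
  obtain ⟨hfree1, hnbr⟩ := two_levels hT1 htr he hF₂ hP₂ hR₂ hp hqn hpq hq2 hq3
  have hz1' : Subgroup.center (Q D d) = ⊥ := hz1
  refine primitive_of_common hT1 htr hcom ⟨_, hP₂.1, _, hR₂.1, not_commute_ne hPR⟩ ?_ ?_
  · rw [eq_bot_iff, ← hz1']
    haveI : (Cfsg.pCore 2 (Q D d)).Normal := Cfsg.pCore_normal 2 _
    intro g hg
    refine mem_center_of_commute_gen hT1.2.2 fun x hx => ?_
    have h := mul_conj_mem (d := x) hg
    rw [TSet.inv hT1.1 hx] at h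
    exact mul_inv_eq_iff_eq_mul.1 (hfree1 x _ hx ((sameComm_iff hT1 hx).2 ⟨hT1.2.1 g x hx, h⟩))
  · rw [eq_bot_iff, ← hz1']
    haveI : (Cfsg.pCore 3 (Q D d)).Normal := Cfsg.pCore_normal 3 _
    intro g hg
    refine mem_center_of_commute_gen hT1.2.2 fun x hx => ?_
    have h := mul_conj_mem (d := x) hg
    rw [TSet.inv hT1.1 hx] at h
    exact mul_inv_eq_iff_eq_mul.1 (hnbr x hx _ ((sameNbr_iff hT1 hx).2 ⟨hT1.2.1 g x hx, h⟩))

end Cfsg.Agent.FischerUnique24
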