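import Cfsg.Agent.Lib.FischerUnique24.Count

/-!
Parity in a group of type M(24): the derived subgroups of the centralisers of transpositions agree where they
meet, and transporters through common neighbours glue them to a subgroup of index two.
-/

set_option autoImplicit false

namespace Cfsg.Agent.FischerUnique24

open Cfsg.Agent.Fischer
open Cfsg.Agent.Fischer.Factor

variable {G X : Type*} [Group G] [Group X] [Finite G] [Finite X] {D : Set G} {D1 : Set X}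

omit [Finite G] in
/-- Even transporters from `a` to `b`. -/
def Tr (D : Set G) (a b g : G) : Prop :=
  g * a * g⁻¹ = b ∧ ∀ u ∈ Com D a b, ∀ h ∈ Ctx.Ev u, h * a * h⁻¹ = b → h⁻¹ * g ∈ Ctx.Ev a

namespace Ctx

variable (C : Ctx D D1)
include C

theorem near_gen {a b : G} (ha : a ∈ D) (hb : b ∈ Nb D a) {g : G} (hga : Commute g a) (hgb : Commute g b) :
    ∃ x ∈ Subgroup.closure (Com D a b), g = x ∨ g = x * a := by
  obtain ⟨f, hf⟩ := C.chart a ha
  have hgH : g ∈ Hd D a := (C.centralizer ha).le (Subgroup.mem_centralizer_singleton_iff.2 hga.eq)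
  have hb' : b ∈ Hd D a := Subgroup.subset_closure hb
  have hz : f g ∈ Subgroup.closure (f '' (Nb D a ∩ Nb D b)) := by
    rw [hf.nb_inter hb, C.low.closure_nb (hf.mem b hb), Subgroup.mem_centralizer_singleton_iff,
      ← hf.map_mul g hgH b hb', ← hf.map_mul b hb' g hgH, hgb.eq]
  obtain ⟨x, hx, hxH, hxe⟩ := hf.exists_of_mem_closure (S := Nb D a ∩ Nb D b)
    (fun y hy => Subgroup.subset_closure hy.1) hz
  refine ⟨x, hx, ?_⟩
  have h3 : f (x⁻¹ * g) = 1 := by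
    rw [hf.map_mul _ (inv_mem hxH) _ hgH, hf.map_inv hxH, hxe, inv_mul_cancel]
  rcases (C.ker_iff ha hf (mul_mem (inv_mem hxH) hgH)).1 h3 with e | e
  · exact Or.inl (inv_mul_eq_one.1 e).symm
  · exact Or.inr (inv_mul_eq_iff_eq_mul.1 e)

theorem mem_hd {a g : G} (ha : a ∈ D) (h : Commute g a) : g ∈ Hd D a :=
  (C.centralizer ha).le (Subgroup.mem_centralizer_singleton_iff.2 h.eq)

/-- The parities at two transpositions agree on their joint centraliser. -/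
theorem agree {a b g : G} (ha : a ∈ D) (hb : b ∈ D) (hga : Commute g a) (hgb : Commute g b) :
    g ∈ Ev a ↔ g ∈ Ev b := by
  have key : ∀ x ∈ Subgroup.closure (Com D a b),
      x ∈ Hd D a ∧ x ∈ Hd D b ∧ (x ∈ Ev a ↔ x ∈ Ev b) := by
    intro x hx
    induction hx using Subgroup.closure_induction with
    | mem y hy =>
      exact ⟨Subgroup.subset_closure hy.1, Subgroup.subset_closure hy.2,
        iff_of_false ((C.parity ha).2.1 y hy.1) ((C.parity hb).2.1 y hy.2)⟩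
    | one => exact ⟨one_mem _, one_mem _, iff_of_true (one_mem _) (one_mem _)⟩
    | mul p q _ _ hp hq =>
      refine ⟨mul_mem hp.1 hq.1, mul_mem hp.2.1 hq.2.1, ?_⟩
      rw [(C.parity ha).2.2.2 p hp.1 q hq.1, (C.parity hb).2.2.2 p hp.2.1 q hq.2.1, hp.2.2, hq.2.2]
    | inv p _ hp =>
      refine ⟨inv_mem hp.1, inv_mem hp.2.1, ?_⟩
      rw [inv_mem_iff, inv_mem_iff]
      exact hp.2.2
  by_cases hab : Commute a b
  · by_cases e : b = a
    · rw [e]
    have hb' : b ∈ Nb D a := ⟨hb, e, hab⟩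
    have ha' : a ∈ Nb D b := ⟨ha, Ne.symm e, hab.symm⟩
    obtain ⟨x, hx, hgx⟩ := C.near_gen ha hb' hga hgb
    obtain ⟨k1, k2, k3⟩ := key x hx
    rcases hgx with rfl | rfl
    · exact k3
    · rw [(C.parity ha).2.2.2 x k1 a (C.mem_self ha),
        (C.parity hb).2.2.2 x k2 a (Subgroup.subset_closure ha'), k3]
      exact iff_congr Iff.rfl (iff_of_false (C.parity ha).1 ((C.parity hb).2.1 a ha'))
  · refine (key g ?_).2.2
    rw [← C.centralizer_pair hab ha hb, Subgroup.mem_centralizer_iff]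
    rintro v (rfl | rfl)
    exacts [hga.symm.eq, hgb.symm.eq]

theorem exists_com {a b : G} (ha : a ∈ D) (hb : b ∈ D) : (Com D a b).Nonempty := by
  by_cases hab : Commute a b
  · by_cases e : b = a
    · subst e
      obtain ⟨y, hy⟩ := C.nb_nonempty ha
      exact ⟨y, hy, hy⟩
    · exact Set.nonempty_of_ncard_ne_zero (by rw [Com, C.card_edge ha ⟨hb, e, hab⟩]; norm_num)
  · exact C.exists_common ha hb hab

/-- The joint centraliser moves every common neighbour to every other. -/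
theorem trans_all {a b u v : G} (ha : a ∈ D) (hb : b ∈ D) (hu : u ∈ Com D a b) (hv : v ∈ Com D a b) :
    ∃ g, Commute g a ∧ Commute g b ∧ g * u * g⁻¹ = v := by
  by_cases hab : Commute a b
  · by_cases e : b = a
    · subst e
      obtain ⟨g, hg, hgu⟩ := prim_trans_commuting C.group C.prim C.has_pair ha u hu.1 v hv.1
      have := (commute_of_mem_closure_nb hg).symm
      exact ⟨g, this, this, hgu⟩
    · have hb' : b ∈ Nb D a := ⟨hb, e, hab⟩
      obtain ⟨f, hf⟩ := C.chart a ha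
      have hfu : f u ∈ Nb D1 (f b) := by rw [← hf.nb_inter hb']; exact Set.mem_image_of_mem f hu
      have hfv : f v ∈ Nb D1 (f b) := by rw [← hf.nb_inter hb']; exact Set.mem_image_of_mem f hv
      have hw : ∃ p ∈ D1, ∃ q ∈ D1, p ≠ q ∧ Commute p q :=
        ⟨_, hf.mem b hb', _, hfu.1, hfu.2.1.symm, hfu.2.2⟩
      obtain ⟨m, hm, hmv⟩ := prim_trans_commuting C.low.group C.low.prim hw (hf.mem b hb') (f u)
        hfu (f v) hfv
      replace hm : m ∈ Subgroup.closure (Nb D1 (f b)) := hm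
      rw [← hf.nb_inter hb'] at hm

      obtain ⟨x, hx, hxH, rfl⟩ := hf.exists_of_mem_closure (S := Nb D a ∩ Nb D b)
        (fun y hy => Subgroup.subset_closure hy.1) hm
      have hxc := Subgroup.mem_centralizer_iff.1 (C.com_le hx)
      have hxa : Commute x a := (hxc a (Or.inl rfl)).symm
      refine ⟨x, hxa, (hxc b (Or.inr rfl)).symm, ?_⟩
      have hu' : u ∈ Hd D a := Subgroup.subset_closure hu.1
      refine hf.inj _ (by simpa [conj_eq_self_of_commute hxa] using nb_conj C.group x hu.1) _ hv.1 ?_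
      rw [hf.map_mul _ (mul_mem hxH hu') _ (inv_mem hxH), hf.map_mul _ hxH _ hu', hf.map_inv hxH, hmv]
  · obtain ⟨g, hg, hgu⟩ := C.trans_com hab ha hb hu hv
    have h := Subgroup.mem_centralizer_iff.1 (C.com_le hg)
    exact ⟨g, (h a (Or.inl rfl)).symm, (h b (Or.inr rfl)).symm, hgu⟩

theorem exists_even {a b u : G} (ha : a ∈ D) (hb : b ∈ D) (hu : u ∈ Com D a b) :
    ∃ h ∈ Ev u, h * a * h⁻¹ = b := by
  have ha' : a ∈ Nb D u := ⟨ha, hu.1.2.1.symm, hu.1.2.2.symm⟩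
  have hb' : b ∈ Nb D u := ⟨hb, hu.2.2.1.symm, hu.2.2.2.symm⟩
  obtain ⟨h, hh, hhab⟩ := prim_trans_commuting C.group C.prim C.has_pair hu.1.1 a ha' b hb'
  rcases (C.parity hu.1.1).2.2.1 h hh with he | he
  · exact ⟨h, he, hhab⟩
  · refine ⟨u * h, he, ?_⟩
    rw [show u * h * a * (u * h)⁻¹ = u * (h * a * h⁻¹) * u⁻¹ by group, hhab]
    exact conj_eq_self_of_commute hb'.2.2

theorem commute_quot {a b h k : G} (hh : h * a * h⁻¹ = b) (hk : k * a * k⁻¹ = b) : Commute (h⁻¹ * k) a := by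
  refine mul_inv_eq_iff_eq_mul.1 ?_
  calc h⁻¹ * k * a * (h⁻¹ * k)⁻¹ = h⁻¹ * (k * a * k⁻¹) * h := by group
    _ = a := by rw [hk, ← hh]; group

theorem commute_ev {t x : G} (hx : x ∈ Ev t) : Commute x t :=
  Subgroup.mem_centralizer_singleton_iff.1 (ev_le t hx)

/-- Even transporters through different common neighbours differ by an even element. -/
theorem indep {a b u v h k : G} (ha : a ∈ D) (hb : b ∈ D) (hu : u ∈ Com D a b) (hv : v ∈ Com D a b)
    (hh : h ∈ Ev u) (hhab : h * a * h⁻¹ = b) (hk : k ∈ Ev v) (hkab : k * a * k⁻¹ = b) :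
    h⁻¹ * k ∈ Ev a := by
  obtain ⟨g, hga, hgb, hguv⟩ := C.trans_all ha hb hv hu
  set k' := g * k * g⁻¹ with hk'
  have hk'u : k' ∈ Ev u := hguv ▸ ev_conj g hk
  have hk'ab : k' * a * k'⁻¹ = b := by
    calc k' * a * k'⁻¹ = g * (k * (g⁻¹ * a * g⁻¹⁻¹) * k⁻¹) * g⁻¹ := by rw [hk']; group
      _ = b := by rw [conj_eq_self_of_commute hga.inv_left, hkab, conj_eq_self_of_commute hgb]
  have h1 : h⁻¹ * k' ∈ Ev a :=
    (C.agree hu.1.1 ha (commute_ev C (mul_mem (inv_mem hh) hk'u)) (C.commute_quot hhab hk'ab)).1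
      (mul_mem (inv_mem hh) hk'u)
  have hkk : Commute (k⁻¹ * g⁻¹ * k) a := by
    refine mul_inv_eq_iff_eq_mul.1 ?_
    calc k⁻¹ * g⁻¹ * k * a * (k⁻¹ * g⁻¹ * k)⁻¹ = k⁻¹ * (g⁻¹ * (k * a * k⁻¹) * g⁻¹⁻¹) * k := by group
      _ = a := by rw [hkab, conj_eq_self_of_commute hgb.inv_left, ← hkab]; group
  have hback : k⁻¹ * b * k⁻¹⁻¹ = a := by rw [← hkab]; group
  have hiff : k⁻¹ * g⁻¹ * k ∈ Ev a ↔ g ∈ Ev b := by
    rw [← inv_mem_iff (x := g)]
    constructor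
    · intro h'
      have := ev_conj k h'
      rwa [hkab, show k * (k⁻¹ * g⁻¹ * k) * k⁻¹ = g⁻¹ by group] at this
    · intro h'
      have := ev_conj k⁻¹ h'
      rwa [hback, inv_inv] at this
  have h2 : k'⁻¹ * k ∈ Ev a := by
    rw [show k'⁻¹ * k = g * (k⁻¹ * g⁻¹ * k) by rw [hk']; group,
      (C.parity ha).2.2.2 g (C.mem_hd ha hga) _ (C.mem_hd ha hkk), hiff]
    exact C.agree ha hb hga hgb
  have := mul_mem h1 h2
  rwa [show h⁻¹ * k' * (k'⁻¹ * k) = h⁻¹ * k by group] at this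

theorem tr_of {a b u h g : G} (ha : a ∈ D) (hb : b ∈ D) (hu : u ∈ Com D a b) (hh : h ∈ Ev u)
    (hhab : h * a * h⁻¹ = b) (he : h⁻¹ * g ∈ Ev a) : Tr D a b g := by
  refine ⟨?_, fun v hv k hk hkab => ?_⟩
  · calc g * a * g⁻¹ = h * ((h⁻¹ * g) * a * (h⁻¹ * g)⁻¹) * h⁻¹ := by group
      _ = b := by rw [conj_eq_self_of_commute (commute_ev C he), hhab]
  · have := mul_mem (C.indep ha hb hv hu hk hkab hh hhab) he
    rwa [show k⁻¹ * h * (h⁻¹ * g) = k⁻¹ * g by group] at this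

theorem tr_self {a g : G} (ha : a ∈ D) : Tr D a a g ↔ g ∈ Ev a := by
  obtain ⟨u, hu⟩ := C.exists_com ha ha
  constructor
  · intro h
    simpa using h.2 u hu 1 (one_mem _) (by simp)
  · intro h
    exact C.tr_of ha ha hu (one_mem _) (by simp) (by simpa using h)

theorem exists_tr {a b : G} (ha : a ∈ D) (hb : b ∈ D) : ∃ k, Tr D a b k := by
  obtain ⟨u, hu⟩ := C.exists_com ha hb
  obtain ⟨h, hh, hhab⟩ := C.exists_even ha hb hu
  exact ⟨h, C.tr_of ha hb hu hh hhab (by simp)⟩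

theorem tr_symm {a b g : G} (ha : a ∈ D) (hb : b ∈ D) (hg : Tr D a b g) : Tr D b a g⁻¹ := by
  obtain ⟨u, hu⟩ := C.exists_com ha hb
  obtain ⟨h, hh, hhab⟩ := C.exists_even ha hb hu
  refine C.tr_of hb ha (h := h⁻¹) ⟨hu.2, hu.1⟩ (inv_mem hh) (by rw [← hhab]; group) ?_
  have := ev_conj h (inv_mem (hg.2 u hu h hh hhab))
  rwa [hhab, show h * (h⁻¹ * g)⁻¹ * h⁻¹ = h⁻¹⁻¹ * g⁻¹ by group] at this

theorem tr_conj {a b k : G} (g : G) (ha : a ∈ D) (hb : b ∈ D) (hk : Tr D a b k) :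
    Tr D (g * a * g⁻¹) (g * b * g⁻¹) (g * k * g⁻¹) := by
  obtain ⟨u, hu⟩ := C.exists_com ha hb
  obtain ⟨h, hh, hhab⟩ := C.exists_even ha hb hu
  refine C.tr_of (C.group.2.1 g a ha) (C.group.2.1 g b hb)
    ⟨nb_conj C.group g hu.1, nb_conj C.group g hu.2⟩ (ev_conj g hh) (by rw [← hhab]; group) ?_
  have := ev_conj g (hk.2 u hu h hh hhab)
  rwa [show g * (h⁻¹ * k) * g⁻¹ = (g * h * g⁻¹)⁻¹ * (g * k * g⁻¹) by group] at this

theorem comp_of_common {a b c w g g' : G} (ha : a ∈ D) (hb : b ∈ D) (hc : c ∈ D) (wa : w ∈ Nb D a)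
    (wb : w ∈ Nb D b) (wc : w ∈ Nb D c) (hg : Tr D a b g) (hg' : Tr D b c g') : Tr D a c (g' * g) := by
  obtain ⟨h, hh, hhab⟩ := C.exists_even ha hb (u := w) ⟨wa, wb⟩
  obtain ⟨h', hh', hhbc⟩ := C.exists_even hb hc (u := w) ⟨wb, wc⟩
  refine C.tr_of ha hc (u := w) (h := h' * h) ⟨wa, wc⟩ (mul_mem hh' hh) ?_ ?_
  · rw [← hhbc, ← hhab]; group
  · have h1 := ev_conj h⁻¹ (hg'.2 w ⟨wb, wc⟩ h' hh' hhbc)
    rw [show h⁻¹ * b * h⁻¹⁻¹ = a by rw [← hhab]; group] at h1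
    have := mul_mem h1 (hg.2 w ⟨wa, wb⟩ h hh hhab)
    rwa [show h⁻¹ * (h'⁻¹ * g') * h⁻¹⁻¹ * (h⁻¹ * g) = (h' * h)⁻¹ * (g' * g) by group] at this

/-- Three transpositions, two of which commute, have a common neighbour. -/
theorem common_three {x y z : G} (hx : x ∈ D) (hy : y ∈ D) (hz : z ∈ D) (hxy : Commute x y) :
    ∃ w, w ∈ Nb D x ∧ w ∈ Nb D y ∧ w ∈ Nb D z := by
  have sym : ∀ {p q}, p ∈ D → q ∈ Nb D p → p ∈ Nb D q := fun hp hq => ⟨hp, hq.2.1.symm, hq.2.2.symm⟩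
  by_cases e : y = x
  · obtain ⟨w, h1, h2⟩ := C.exists_com hx hz
    exact ⟨w, h1, e ▸ h1, h2⟩
  have hy' : y ∈ Nb D x := ⟨hy, e, hxy⟩
  by_cases hxz : Commute x z
  · by_cases hyz : Commute y z
    · by_cases e1 : z = x
      · obtain ⟨w, h1, h2⟩ := C.exists_com hx hy
        exact ⟨w, h1, h2, e1 ▸ h1⟩
      by_cases e2 : z = y
      · obtain ⟨w, h1, h2⟩ := C.exists_com hx hy
        exact ⟨w, h1, h2, e2 ▸ h2⟩
      obtain ⟨w, ⟨h1, h2⟩, h3⟩ := Set.nonempty_of_ncard_ne_zero (s := Nb D x ∩ Nb D y ∩ Nb D z)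
        (by rw [C.card_triangle hx hy' ⟨hz, e1, hxz⟩ ⟨hz, e2, hyz⟩]; norm_num)
      exact ⟨w, h1, h2, h3⟩
    · obtain ⟨w, ⟨h1, h2⟩, h3⟩ := C.exists_com_nb hyz hy hz (sym hx hy')
      exact ⟨w, h3, h1, h2⟩
  · obtain ⟨w, ⟨h1, h2⟩, h3⟩ := C.exists_com_nb hxz hx hz hy'
    exact ⟨w, h1, h3, h2⟩

theorem comp {a b c g g' : G} (ha : a ∈ D) (hb : b ∈ D) (hc : c ∈ D) (hg : Tr D a b g)
    (hg' : Tr D b c g') : Tr D a c (g' * g) := by
  by_cases h1 : Commute a b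
  · obtain ⟨w, w1, w2, w3⟩ := C.common_three ha hb hc h1
    exact C.comp_of_common ha hb hc w1 w2 w3 hg hg'
  by_cases h2 : Commute b c
  · obtain ⟨w, w1, w2, w3⟩ := C.common_three hb hc ha h2
    exact C.comp_of_common ha hb hc w3 w1 w2 hg hg'
  by_cases h3 : Commute a c
  · obtain ⟨w, w1, w2, w3⟩ := C.common_three ha hc hb h3
    exact C.comp_of_common ha hb hc w1 w3 w2 hg hg'
  obtain ⟨m, hma, hmb⟩ := C.exists_com ha hb
  have hm := hma.1
  obtain ⟨k, hk⟩ := C.exists_tr ha hm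
  obtain ⟨w, w1, w2, w3⟩ := C.common_three ha hm hb hma.2.2
  have t1 : Tr D b m (k * g⁻¹) := C.comp_of_common hb ha hm w3 w1 w2 (C.tr_symm ha hb hg) hk
  obtain ⟨w', v1, v2, v3⟩ := C.common_three hb hm hc hmb.2.2
  have t2 : Tr D c m (k * g⁻¹ * g'⁻¹) := C.comp_of_common hc hb hm v3 v1 v2 (C.tr_symm hb hc hg') t1
  obtain ⟨w'', u1, u2, u3⟩ := C.common_three ha hm hc hma.2.2
  have t3 := C.comp_of_common ha hm hc u1 u2 u3 hk (C.tr_symm hc hm t2)
  rwa [show (k * g⁻¹ * g'⁻¹)⁻¹ * k = g' * g by group] at t3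

theorem tr_any {a a' g : G} (ha : a ∈ D) (ha' : a' ∈ D) (h : Tr D a (g * a * g⁻¹) g) :
    Tr D a' (g * a' * g⁻¹) g := by
  obtain ⟨k, hk⟩ := C.exists_tr ha ha'
  have t1 := C.comp ha' ha (C.group.2.1 g a ha) (C.tr_symm ha ha' hk) h
  have t2 := C.comp ha' (C.group.2.1 g a ha) (C.group.2.1 g a' ha') t1 (C.tr_conj g ha ha' hk)
  rwa [show g * k * g⁻¹ * (g * k⁻¹) = g by group] at t2

theorem exists_even_subgroup : ∃ N : Subgroup G, N.index = 2 ∧ N.Normal ∧ (∀ t ∈ D, t ∉ N) ∧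
    ∀ t ∈ D, ∀ g, Commute g t → (g ∈ N ↔ g ∈ Ev t) := by
  obtain ⟨a₀, ha₀, -⟩ := C.prim.2.1
  let N : Subgroup G :=
    { carrier := {g | ∀ a ∈ D, Tr D a (g * a * g⁻¹) g}
      one_mem' := fun a ha => by
        rw [one_mul, inv_one, mul_one, C.tr_self ha]; exact one_mem _
      mul_mem' := fun {g h} hg hh a ha => by
        have hha := C.group.2.1 h a ha
        have := C.comp ha hha (C.group.2.1 g _ hha) (hh a ha) (hg _ hha)
        rwa [show g * (h * a * h⁻¹) * g⁻¹ = g * h * a * (g * h)⁻¹ by group] at this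
      inv_mem' := fun {g} hg a ha => by
        have hga := C.group.2.1 g⁻¹ a ha
        have h := hg _ hga
        rw [show g * (g⁻¹ * a * g⁻¹⁻¹) * g⁻¹ = a by group] at h
        exact C.tr_symm hga ha h }
  have hmem : ∀ {g}, g ∈ N ↔ Tr D a₀ (g * a₀ * g⁻¹) g := fun {g} =>
    ⟨fun h => h a₀ ha₀, fun h a ha => C.tr_any ha₀ ha h⟩
  have hloc : ∀ t ∈ D, ∀ g, Commute g t → (g ∈ N ↔ g ∈ Ev t) := fun t ht g hg => by
    refine ⟨fun h => ?_, fun h => ?_⟩
    · have := h t ht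
      rw [conj_eq_self_of_commute hg, C.tr_self ht] at this
      exact this
    · refine fun a ha => C.tr_any ht ha ?_
      rw [conj_eq_self_of_commute hg, C.tr_self ht]
      exact h
  have ha₀N : a₀ ∉ N := fun h => (C.parity ha₀).1 ((hloc a₀ ha₀ a₀ (Commute.refl _)).1 h)
  have hcov : ∀ g, g ∈ N ∨ g * a₀ ∈ N := by
    intro g
    obtain ⟨k, hk⟩ := C.exists_tr ha₀ (C.group.2.1 g a₀ ha₀)
    have hkN : k ∈ N := hmem.2 (by rw [hk.1]; exact hk)
    have hc : Commute (k⁻¹ * g) a₀ := C.commute_quot hk.1 rfl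
    obtain ⟨-, -, hcv, -⟩ := C.parity ha₀
    rcases hcv _ (C.mem_hd ha₀ hc) with h | h
    · exact Or.inl (by simpa using mul_mem hkN ((hloc a₀ ha₀ _ hc).2 h))
    · refine Or.inr ?_
      have := mul_mem hkN ((hloc a₀ ha₀ _ ((Commute.refl a₀).mul_left hc)).2 h)
      rwa [← hc.eq, mul_assoc k⁻¹, mul_inv_cancel_left] at this
  have hidx : N.index = 2 := by
    refine Subgroup.index_eq_two_iff.2 ⟨a₀, fun g => ?_⟩
    rcases hcov g with h | h
    · exact Or.inr ⟨h, fun h' => ha₀N ((Subgroup.mul_mem_cancel_left _ h).1 h')⟩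
    · exact Or.inl ⟨h, fun h' => ha₀N ((Subgroup.mul_mem_cancel_left _ h').1 h)⟩
  exact ⟨N, hidx, Subgroup.normal_of_index_eq_two hidx,
    fun t ht h => (C.parity ht).1 ((hloc t ht t (Commute.refl _)).1 h), hloc⟩

end Ctx

end Cfsg.Agent.FischerUnique24
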