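import Cfsg.Agent.Lib.FischerUnique24.Link

/-!
A map on the centraliser of a transposition that respects enough of the joint centraliser of a
non-commuting pair respects all of it: the normal core of the subgroup in question contains a simple
group O7(3), which pins the second transposition.
-/

set_option autoImplicit false

namespace Cfsg.Agent.FischerUnique24

open Cfsg.Agent.Fischer
open Cfsg.Agent.Fischer.Factor

variable {G G' X : Type*} [Group G] [Group G'] [Group X] [Finite G] [Finite G'] [Finite X]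
  {D : Set G} {D' : Set G'} {D1 : Set X}

omit [Finite X] in
/-- No common neighbour of a far pair commutes with all of them. -/
theorem Is23.not_central [Finite X] (h : Is23 D1) {a d w : X} (ha : a ∈ D1) (hd : d ∈ Far D1 a)
    (hw : w ∈ Nb D1 a ∩ Nb D1 d) (hc : ∀ y ∈ Nb D1 a ∩ Nb D1 d, Commute w y) : False := by
  rcases (h.pair ha hd).2.2.2.1 w hw.1.1 hc with e | e | e
  · exact hw.1.2.1 e
  · exact hw.2.2.1 e
  · have h1 : Commute a (a * d * a) := e ▸ hw.1.2.2
    have hai := TSet.sq h.group.1 ha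
    refine hd.2 (show a * d = d * a from ?_)
    calc a * d = a * (a * (a * d * a)) * a * 1 := by simp [mul_assoc, hai, ← mul_assoc a a]
      _ = a * ((a * d * a) * a) * a := by rw [h1.eq, mul_one]
      _ = d * a := by simp [mul_assoc, hai, ← mul_assoc a a]

omit [Finite X] in
/-- Through every common neighbour there is a wedge leaving its neighbourhood. -/
theorem Is23.wedge [Finite X] (h : Is23 D1) {a d T : X} (ha : a ∈ D1) (hd : d ∈ Far D1 a)
    (hT : T ∈ Nb D1 a ∩ Nb D1 d) :
    ∃ W ∈ Nb D1 a ∩ Nb D1 d, ∃ V ∈ Nb D1 a ∩ Nb D1 d, W ∈ Nb D1 T ∧ ¬ Commute T V ∧ ¬ Commute W V := by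
  obtain ⟨-, -, hsimp, -, U, hU, U', hU', hne, hUU⟩ := h.pair ha hd
  haveI := hsimp
  set S := Nb D1 a ∩ Nb D1 d
  set K := Subgroup.closure S
  by_contra hno
  push Not at hno
  set B : Set X := {v | v ∈ S ∧ ¬ Commute T v}
  set N := Subgroup.closure B
  have hNK : N ≤ K := Subgroup.closure_mono fun y hy => hy.1
  have hKc : K ≤ Subgroup.centralizer ({a, d} : Set X) := (h.pair ha hd).1.le
  have hnorm : (N.subgroupOf K).Normal := by
    rw [Subgroup.normal_subgroupOf_iff_le_normalizer hNK, Subgroup.closure_le]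
    intro w hw
    by_cases hwB : w ∈ B
    · exact Subgroup.le_normalizer (Subgroup.subset_closure hwB)
    by_cases e : w = T
    · subst e
      have hstep : ∀ v ∈ N, w * v * w⁻¹ ∈ N := by
        intro v hv
        induction hv using Subgroup.closure_induction with
        | mem v hv =>
          refine Subgroup.subset_closure ⟨?_, ?_⟩
          · have h1 := Subgroup.mem_centralizer_iff.1 (hKc (Subgroup.subset_closure hw))
            have c1 := nb_conj h.group w hv.1.1
            have c2 := nb_conj h.group w hv.1.2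
            rw [conj_eq_self_of_commute (show Commute a w from h1 a (Or.inl rfl)).symm] at c1
            rw [conj_eq_self_of_commute (show Commute d w from h1 d (Or.inr rfl)).symm] at c2
            exact ⟨c1, c2⟩
          · intro hc
            refine hv.2 ((commute_conj_iff w w v).1 ?_)
            rwa [conj_eq_self_of_commute (Commute.refl w)]
        | one => simp
        | mul p q _ _ hp hq => simpa [mul_assoc] using mul_mem hp hq
        | inv p _ hp => simpa [mul_assoc] using inv_mem hp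
      refine Subgroup.mem_normalizer_iff.2 fun v => ⟨hstep v, fun hv => ?_⟩
      have := hstep _ hv
      rw [show w * (w * v * w⁻¹) * w⁻¹ = (w * w) * v * (w * w)⁻¹ by group, TSet.sq h.group.1 hw.1.1] at this
      simpa using this
    · have hwT : Commute T w := by_contra fun hc => hwB ⟨hw, hc⟩
      refine Subgroup.centralizer_le_normalizer (N : Set X) ?_
      rw [Subgroup.centralizer_closure, Subgroup.mem_centralizer_iff]
      exact fun v hv => (hno w hw v hv.1 ⟨hw.1.1, e, hwT⟩ hv.2).symm.eq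
  obtain ⟨V, hV⟩ : B.Nonempty := by
    by_contra hB
    exact h.not_central ha hd hT fun y hy => by_contra fun hc => hB ⟨y, hy, hc⟩
  rcases hnorm.eq_bot_or_eq_top with e | e
  · rw [Subgroup.subgroupOf_eq_bot, disjoint_iff, inf_eq_left.2 hNK] at e
    exact TSet.ne_one h.group.1 hV.1.1.1 (Subgroup.mem_bot.1 (e ▸ Subgroup.subset_closure hV))
  · rw [Subgroup.subgroupOf_eq_top] at e
    obtain ⟨k, hk, hkU⟩ := h.orb ha hd hU hT
    have hW : k * U' * k⁻¹ ∈ S := by
      have h1 := Subgroup.mem_centralizer_iff.1 (hKc hk)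
      have c1 := nb_conj h.group k hU'.1
      have c2 := nb_conj h.group k hU'.2
      rw [conj_eq_self_of_commute (show Commute a k from h1 a (Or.inl rfl)).symm] at c1
      rw [conj_eq_self_of_commute (show Commute d k from h1 d (Or.inr rfl)).symm] at c2
      exact ⟨c1, c2⟩
    have hWT : k * U' * k⁻¹ ∈ Nb D1 T :=
      hkU ▸ nb_conj h.group k ⟨hU'.1.1, hne.symm, hUU⟩
    refine h.not_central ha hd hW fun y hy => ?_
    have : N ≤ Subgroup.centralizer ({k * U' * k⁻¹} : Set X) := (Subgroup.closure_le _).2 fun v hv =>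
      Subgroup.mem_centralizer_singleton_iff.2 (hno _ hW v hv.1 hWT hv.2).symm.eq
    exact (show Commute y (k * U' * k⁻¹) from
      Subgroup.mem_centralizer_singleton_iff.1 (this (e (Subgroup.subset_closure hy)))).symm

namespace Ctx

variable (C : Ctx D D1)
include C

omit [Finite G'] in
/-- The centraliser of a far pair and a common neighbour. -/
theorem triple_gen {a b s : G} (hab : ¬ Commute a b) (ha : a ∈ D) (hb : b ∈ D) (hs : s ∈ Com D a b) :
    Subgroup.centralizer ({a, b, s} : Set G) = Subgroup.closure (insert s (Nb D s ∩ Com D a b)) := by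
  refine le_antisymm (fun g hg => ?_) ?_
  · obtain ⟨f, hf, h1, h2, hB, himg⟩ := C.com_frame hab ha hb hs
    obtain ⟨hcl, -⟩ := C.low.pair (hf.mem a h1) hB
    rw [← himg] at hcl
    have h := Subgroup.mem_centralizer_iff.1 hg
    have hgH : g ∈ Hd D s := (C.centralizer hs.1.1).le
      (Subgroup.mem_centralizer_singleton_iff.2 (h s (Or.inr (Or.inr rfl))).symm)
    have hfix : ∀ {v}, v ∈ Nb D s → Commute g v → Commute (f g) (f v) := fun {v} hv hc =>
      (C.fix_iff hs.1.1 hf hgH hv).1 hc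
    have hgc : f g ∈ Subgroup.closure (f '' (Nb D s ∩ Com D a b)) := by
      rw [hcl, Subgroup.mem_centralizer_iff]
      rintro v (rfl | rfl)
      exacts [(hfix h1 (h a (Or.inl rfl)).symm).symm.eq, (hfix h2 (h b (Or.inr (Or.inl rfl))).symm).symm.eq]
    obtain ⟨x, hx, hxH, hxe⟩ := hf.exists_of_mem_closure (fun y hy => Subgroup.subset_closure hy.1) hgc
    have hx' := Subgroup.closure_mono (Set.subset_insert s _) hx
    have h3 : f (x⁻¹ * g) = 1 := by
      rw [hf.map_mul _ (inv_mem hxH) _ hgH, hf.map_inv hxH, hxe, inv_mul_cancel]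
    rcases (C.ker_iff hs.1.1 hf (mul_mem (inv_mem hxH) hgH)).1 h3 with e | e
    · rw [← inv_mul_eq_one.1 e]; exact hx'
    · rw [← mul_inv_cancel_left x g, e]
      exact mul_mem hx' (Subgroup.subset_closure (Set.mem_insert _ _))
  · rw [Subgroup.closure_le]
    rintro y (rfl | ⟨hys, hya, hyb⟩) <;> rw [SetLike.mem_coe, Subgroup.mem_centralizer_iff]
    · rintro v (rfl | rfl | rfl)
      exacts [hs.1.2.2.eq, hs.2.2.2.eq, rfl]
    · rintro v (rfl | rfl | rfl)
      exacts [hya.2.2.eq, hyb.2.2.eq, hys.2.2.eq]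

omit [Finite G'] in
/-- The even part of the centraliser of a far pair and a common neighbour is simple. -/
theorem even_simple {a b s : G} (hab : ¬ Commute a b) (ha : a ∈ D) (hb : b ∈ D) (hs : s ∈ Com D a b) :
    ∃ L : Subgroup G, L ≤ Subgroup.centralizer ({a, b, s} : Set G) ∧ IsSimpleGroup L ∧
      Nat.card L = 4585351680 ∧ ∀ x ∈ Nb D s ∩ Com D a b, s * x ∈ L := by
  obtain ⟨f, hf, h1, h2, hB, himg⟩ := C.com_frame hab ha hb hs
  obtain ⟨-, hcard, hsimp, -⟩ := C.low.pair (hf.mem a h1) hB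
  rw [← himg] at hcard hsimp
  obtain ⟨hnot, hodd, hcov, -⟩ := C.parity hs.1.1
  have hgen := C.triple_gen hab ha hb hs
  set S := Nb D s ∩ Com D a b
  set R := Subgroup.centralizer ({a, b, s} : Set G)
  have hSR : ∀ x ∈ S, x ∈ R := fun x hx => hgen.ge (Subgroup.subset_closure (Set.mem_insert_of_mem _ hx))
  have hsR : s ∈ R := hgen.ge (Subgroup.subset_closure (Set.mem_insert _ _))
  have hRH : R ≤ Hd D s := fun g hg => (C.centralizer hs.1.1).le
    (Subgroup.mem_centralizer_singleton_iff.2 (Subgroup.mem_centralizer_iff.1 hg s (Or.inr (Or.inr rfl))).symm)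
  have hs1 : f s = 1 := (C.ker_iff hs.1.1 hf (C.mem_self hs.1.1)).2 (Or.inr rfl)
  set K := Subgroup.closure (f '' S)
  have hfK : ∀ g ∈ R, f g ∈ K := by
    intro g hg
    rw [hgen] at hg
    have hH : Subgroup.closure (insert s S) ≤ Hd D s := hgen ▸ hRH
    induction hg using Subgroup.closure_induction with
    | mem y hy =>
      rcases hy with rfl | hy
      · rw [hs1]; exact one_mem _
      · exact Subgroup.subset_closure ⟨y, hy, rfl⟩
    | one => rw [hf.map_one]; exact one_mem _
    | mul p q hp hq ep eq => rw [hf.map_mul _ (hH hp) _ (hH hq)]; exact mul_mem ep eq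
    | inv p hp ep => rw [hf.map_inv (hH hp)]; exact inv_mem ep
  set L : Subgroup G := Ev s ⊓ R
  have hsR' : ∀ {g}, g ∈ R → s * g ∈ R := fun hg => mul_mem hsR hg
  let φ : L →* K := MonoidHom.mk' (fun x => ⟨f x, hfK x x.2.2⟩)
    fun x y => Subtype.ext (hf.map_mul _ (hRH x.2.2) _ (hRH y.2.2))
  have hbij : Function.Bijective φ := by
    refine ⟨fun x y e => Subtype.ext (C.eq_of_even hs.1.1 hf x.2.1 y.2.1 (congrArg Subtype.val e)), fun z => ?_⟩
    obtain ⟨x, hx, hxH, e⟩ := hf.exists_of_mem_closure (S := S) (fun y hy => Subgroup.subset_closure hy.1)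
      (z := (z : X)) z.2
    have hxR : x ∈ R := hgen.ge (Subgroup.closure_mono (Set.subset_insert _ _) hx)
    rcases hcov x hxH with h | h
    · exact ⟨⟨x, h, hxR⟩, Subtype.ext e⟩
    · refine ⟨⟨s * x, h, hsR' hxR⟩, Subtype.ext ?_⟩
      show f (s * x) = z
      rw [hf.map_mul _ (C.mem_self hs.1.1) _ hxH, hs1, one_mul, e]
  haveI := hsimp
  refine ⟨L, inf_le_right, (MulEquiv.ofBijective φ hbij).isSimpleGroup, ?_, fun x hx => ⟨?_, hsR' (hSR x hx)⟩⟩
  · rw [Nat.card_congr (MulEquiv.ofBijective φ hbij).toEquiv, hcard]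
  · exact (hcov x (Subgroup.subset_closure hx.1)).resolve_left (hodd x hx.1)

end Ctx

/-- A map of the centraliser of `s` that sends the centraliser of the triple and one wedge to elements
commuting with `y'` sends all common neighbours there. -/
theorem rigid (C : Ctx D D1) (C' : Ctx D' D1) {s y t v w : G} {s' y' : G'} {θ : G → G'}
    (h : IsLink D D' s s' θ) (hsy : ¬ Commute s y) (hy : y ∈ D) (hs : s ∈ D) (ht : t ∈ Com D s y)
    (hsy' : ¬ Commute s' y') (hs' : s' ∈ D') (hy' : y' ∈ D') (ht' : θ t ∈ Com D' s' y')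
    (hC : ∀ g ∈ Nb D t ∩ Com D s y, θ g ∈ Com D' s' y')
    (hv : v ∈ Com D s y) (hvt : ¬ Commute t v) (hv' : Commute (θ v) y')
    (hw : w ∈ Nb D t ∩ Com D s y) (hwv : ¬ Commute w v)
    {x : G} (hx : x ∈ Com D s y) : Commute (θ x) y' := by
  set K := Subgroup.closure (Com D s y) with hKd
  have hKH : K ≤ Hd D s := Subgroup.closure_mono Set.inter_subset_left
  have hKc : Subgroup.centralizer ({s, y} : Set G) = K := C.centralizer_pair hsy hs hy
  set S := Nb D t ∩ Com D s y with hSd
  set R := Subgroup.centralizer ({s, y, t} : Set G) with hRd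
  obtain ⟨hRK, hRcard⟩ := C.triple_le hsy hs hy ht
  have hgen := C.triple_gen hsy hs hy ht
  let F : Subgroup G :=
    { carrier := {g | g ∈ K ∧ Commute (θ g) y'}
      one_mem' := ⟨one_mem _, by rw [h.map_one]; exact Commute.one_left _⟩
      mul_mem' := fun {a b} ha hb => ⟨mul_mem ha.1 hb.1, by
        rw [h.map_mul _ (hKH ha.1) _ (hKH hb.1)]; exact ha.2.mul_left hb.2⟩
      inv_mem' := fun {a} ha => ⟨inv_mem ha.1, by rw [h.map_inv (hKH ha.1)]; exact ha.2.inv_left⟩ }
  have hFK : F ≤ K := fun g hg => hg.1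
  have hins : ∀ q ∈ insert t S, q ∈ F := by
    rintro q (rfl | hq)
    · exact ⟨Subgroup.subset_closure ht, ht'.2.2.2.symm⟩
    · exact ⟨Subgroup.subset_closure hq.2, (hC q hq).2.2.2.symm⟩
  have hRF : R ≤ F := by
    rw [hRd, hgen]
    exact (Subgroup.closure_le _).2 hins
  have hvF : v ∈ F := ⟨Subgroup.subset_closure hv, hv'⟩
  -- elements of F moving t onto each of t and its neighbours in the set
  have hmove : ∀ q ∈ insert t S, ∃ m ∈ F, m * t * m⁻¹ = q := by
    rintro q (rfl | hq)
    · exact ⟨1, one_mem _, by group⟩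
    have hwF := hins w (Or.inr hw)
    have htF := hins t (Or.inl rfl)
    obtain ⟨f, hf, h1, h2, hB, himg⟩ := C.com_frame hsy hs hy ht
    obtain ⟨k', hk', hkq⟩ := C.low.orb (hf.mem s h1) hB (u := f w) (v := f q)
      (himg ▸ ⟨w, hw, rfl⟩) (himg ▸ ⟨q, hq, rfl⟩)
    rw [← himg] at hk'
    obtain ⟨k, hk, hkH, hke⟩ := hf.exists_of_mem_closure (S := S) (fun z hz => Subgroup.subset_closure hz.1) hk'
    have hkR : k ∈ R := by rw [hRd, hgen]; exact Subgroup.closure_mono (Set.subset_insert _ _) hk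
    have hkt : k * t * k⁻¹ = t := conj_eq_self_of_commute (commute_of_mem_closure_nb hkH).symm
    have hkw : k * w * k⁻¹ = q := by
      refine hf.inj _ (hkt ▸ nb_conj C.group k hw.1) q hq.1 ?_
      have hwH : w ∈ Hd D t := Subgroup.subset_closure hw.1
      rw [hf.map_mul _ (mul_mem hkH hwH) _ (inv_mem hkH), hf.map_mul _ hkH _ hwH, hf.map_inv hkH, hke, hkq]
    refine ⟨k * ((v * w) * (t * v)), mul_mem (hRF hkR) (mul_mem (mul_mem hvF hwF) (mul_mem htF hvF)), ?_⟩
    calc k * ((v * w) * (t * v)) * t * (k * ((v * w) * (t * v)))⁻¹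
        = k * ((v * w) * ((t * v) * t * (t * v)⁻¹) * (v * w)⁻¹) * k⁻¹ := by group
      _ = q := by
          rw [TSet.conj_swap C.group.1 ht.1.1 hv.1.1 hvt,
            TSet.conj_swap C.group.1 hv.1.1 hw.1.1 (fun e => hwv e.symm), hkw]
  choose m hmF hme using hmove
  have hScard : (insert t S).ncard = 352 := by
    rw [Set.ncard_insert_of_notMem (fun e => e.1.2.1 rfl)]
    have := C.card_angle ht.1.1 (u := s) (v := y) ⟨hs, ht.1.2.1.symm, ht.1.2.2.symm⟩
      ⟨hy, ht.2.2.1.symm, ht.2.2.2.symm⟩ hsy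
    rw [show S = Nb D t ∩ Nb D s ∩ Nb D y from (Set.inter_assoc _ _ _).symm, this]
  have hFcard : 352 * 9170703360 ≤ Nat.card F := by
    rw [← hScard, ← hRcard, ← Nat.card_coe_set_eq, ← Nat.card_prod]
    refine Nat.card_le_card_of_injective
      (fun p : ↥(insert t S) × ↥R => (⟨m p.1 p.1.2 * p.2, mul_mem (hmF _ _) (hRF p.2.2)⟩ : F)) ?_
    rintro ⟨⟨q, hq⟩, r⟩ ⟨⟨q', hq'⟩, r'⟩ e
    have e' : m q hq * (r : G) = m q' hq' * (r' : G) := congrArg Subtype.val e
    have hrt : ∀ r : R, (r : G) * t * (r : G)⁻¹ = t := fun r => conj_eq_self_of_commute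
      (show Commute t (r : G) from Subgroup.mem_centralizer_iff.1 r.2 t (Or.inr (Or.inr rfl))).symm
    obtain rfl : q = q' := by
      have h1 : ∀ (q : G) (hq : q ∈ insert t S) (r : R),
          (m q hq * (r : G)) * t * (m q hq * (r : G))⁻¹ = q := fun q hq r => by
        rw [show m q hq * (r : G) * t * (m q hq * (r : G))⁻¹ =
          m q hq * ((r : G) * t * (r : G)⁻¹) * (m q hq)⁻¹ by group, hrt r, hme]
      rw [← h1 q hq r, e', h1]
    exact Prod.ext rfl (Subtype.ext (mul_left_cancel e'))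
  obtain ⟨L, hLR, hLsimp, hLcard, hLmem⟩ := C.even_simple hsy hs hy ht
  have hLK : L ≤ K := hLR.trans hRK
  -- the conjugates of L lie in F
  have hidx : (F.subgroupOf K).index ≤ 9 := by
    have h1 := Subgroup.card_mul_index (F.subgroupOf K)
    rw [Nat.card_congr (Subgroup.subgroupOfEquivOfLe hFK).toEquiv, C.card_pair_cent hsy hs hy,
      C.card_com hsy hs hy] at h1
    by_contra hn
    have h2 := Nat.mul_le_mul hFcard (show 10 ≤ (F.subgroupOf K).index by omega)
    omega
  have hcore : ∀ l ∈ L, ∀ k ∈ K, k * l * k⁻¹ ∈ F := by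
    let ρ : L →* Equiv.Perm (K ⧸ F.subgroupOf K) :=
      (MulAction.toPermHom K (K ⧸ F.subgroupOf K)).comp (Subgroup.inclusion hLK)
    haveI := hLsimp
    have hker : ρ.ker = ⊤ := (ρ.normal_ker.eq_bot_or_eq_top).resolve_left fun hb => by
      have hle := Nat.card_le_card_of_injective ρ ((MonoidHom.ker_eq_bot_iff ρ).1 hb)
      rw [hLcard, Nat.card_perm, ← Subgroup.index_eq_card] at hle
      have := Nat.factorial_le hidx
      rw [show Nat.factorial 9 = 362880 from rfl] at this
      omega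
    intro l hl k hk
    have hl' : (⟨l, hLK hl⟩ : K) ∈ (MulAction.toPermHom K (K ⧸ F.subgroupOf K)).ker := by
      have : (⟨l, hl⟩ : L) ∈ ρ.ker := hker ▸ Subgroup.mem_top _
      exact this
    rw [← Subgroup.normalCore_eq_ker] at hl'
    exact hl' ⟨k, hk⟩
  -- hence y' is fixed or sent to its twin
  have hfix : ∀ k ∈ K, θ k * y' * (θ k)⁻¹ = y' ∨ θ k * y' * (θ k)⁻¹ = s' * y' * s' := by
    intro k hk
    set p := θ k * y' * (θ k)⁻¹ with hp
    have hkH := hKH hk
    have hpD : p ∈ D' := C'.group.2.1 _ _ hy'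
    have hks : θ k * s' * (θ k)⁻¹ = s' :=
      conj_eq_self_of_commute (commute_of_mem_closure_nb (h.mem_hd k hkH)).symm
    have hps : ¬ Commute s' p := fun hc => hsy' (by rwa [hp, ← hks, commute_conj_iff] at hc)
    have hpl : ∀ l ∈ L, Commute (θ l) p := by
      intro l hl
      have h1 := (hcore l hl k⁻¹ (inv_mem hk)).2
      rw [inv_inv, h.map_mul _ (mul_mem (inv_mem hkH) (hKH (hLK hl))) _ hkH,
        h.map_mul _ (inv_mem hkH) _ (hKH (hLK hl)), h.map_inv hkH] at h1
      have h2 := (commute_conj_iff (θ k) _ y').2 h1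
      rwa [show θ k * ((θ k)⁻¹ * θ l * θ k) * (θ k)⁻¹ = θ l by group] at h2
    set t' := θ t
    have htH : t ∈ Hd D s := Subgroup.subset_closure ht.1
    have hTD := TSet.sq C'.group.1 ht'.1.1
    have hTi := TSet.inv C'.group.1 ht'.1.1
    have hS' : ∀ z ∈ S, Commute (t' * θ z) p ∧ θ z ∈ Nb D' t' := fun z hz => by
      refine ⟨?_, (h.nb_pair ht.1 hz.2.1).2 hz.1⟩
      have := hpl _ (hLmem z hz)
      rwa [h.map_mul _ htH _ (Subgroup.subset_closure hz.2.1)] at this
    have hzp : ∀ z ∈ S, θ z * p * (θ z)⁻¹ = t' * p * t'⁻¹ := fun z hz => by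
      have e := conj_eq_self_of_commute (hS' z hz).1
      calc θ z * p * (θ z)⁻¹ = t'⁻¹ * (t' * θ z * p * (t' * θ z)⁻¹) * t' := by group
        _ = t' * p * t'⁻¹ := by rw [e, hTi]
    have hpt : Commute t' p := by
      by_contra hc
      obtain ⟨z, hz⟩ : S.Nonempty := ⟨w, hw⟩
      have hz' := (hS' z hz).2
      have e := hzp z hz
      by_cases hzc : Commute (θ z) p
      · rw [conj_eq_self_of_commute hzc] at e
        exact hc (mul_inv_eq_iff_eq_mul.1 e.symm)
      · have hbr : ∀ {q}, q ∈ D' → ¬ Commute q p → q * p * q⁻¹ = p * q * p⁻¹ := fun {q} hq hqp => by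
          have h3 := TSet.conj_swap C'.group.1 hpD hq (fun e => hqp e.symm)
          have hpi := TSet.inv C'.group.1 hpD
          calc q * p * q⁻¹ = p⁻¹ * (p * q * p * (p * q)⁻¹) * p := by group
            _ = p * q * p⁻¹ := by rw [h3, hpi]
        rw [hbr hz'.1 hzc, hbr ht'.1.1 hc] at e
        exact hz'.2.1 (mul_left_cancel (mul_right_cancel e))
    have hpt' : p ∈ Nb D' t' := ⟨hpD, fun e => hps (e ▸ ht'.1.2.2), hpt⟩
    have hall : ∀ z' ∈ Nb D' t' ∩ Com D' s' y', Commute p z' := by
      rintro z' ⟨hz1, hz2, hz3⟩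
      obtain ⟨z, hz, rfl⟩ := h.lift z' hz2
      have hzS : z ∈ S ∨ ¬ Commute y z := by
        by_cases hc : Commute y z
        · exact Or.inl ⟨(h.nb_pair ht.1 hz).1 hz1, hz, hz.1, fun e => hsy (e ▸ hz.2.2), hc⟩
        · exact Or.inr hc
      rcases hzS with hzS | hc
      · have h2 := (hpt.mul_left (hS' z hzS).1)
        rw [← mul_assoc, hTD, one_mul] at h2
        exact h2.symm
      · exfalso
        have hsub : θ '' S ⊆ Nb D' t' ∩ Com D' s' y' := by
          rintro _ ⟨q, hq, rfl⟩
          exact ⟨(hS' q hq).2, hC q hq⟩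
        have heq : θ '' S = Nb D' t' ∩ Com D' s' y' := by
          refine Set.eq_of_subset_of_ncard_le hsub ?_ (Set.toFinite _)
          rw [Set.InjOn.ncard_image fun p hp q hq => h.inj p (Subgroup.subset_closure hp.2.1) q
            (Subgroup.subset_closure hq.2.1)]
          have e1 := C'.card_angle ht'.1.1 (u := s') (v := y') ⟨hs', ht'.1.2.1.symm, ht'.1.2.2.symm⟩
            ⟨hy', ht'.2.2.1.symm, ht'.2.2.2.symm⟩ hsy'
          have e2 := C.card_angle ht.1.1 (u := s) (v := y) ⟨hs, ht.1.2.1.symm, ht.1.2.2.symm⟩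
            ⟨hy, ht.2.2.1.symm, ht.2.2.2.symm⟩ hsy
          rw [Com, ← Set.inter_assoc, e1, hSd, Com, ← Set.inter_assoc, e2]
        obtain ⟨q, hq, e⟩ := heq.ge ⟨hz1, hz2, hz3⟩
        rw [h.inj q (Subgroup.subset_closure hq.2.1) z (Subgroup.subset_closure hz) e] at hq
        exact hc hq.2.2.2.2
    rcases C'.twin_two hsy' hs' hy' ht' hpt' hall with e | e | e
    · exact absurd (e ▸ Commute.refl s') hps
    · exact Or.inl e
    · exact Or.inr e
  obtain ⟨k, hk, hkx⟩ := C.trans_com hsy hs hy ht hx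
  have hkH := hKH hk
  rw [← hkx, h.map_conj hkH (Subgroup.subset_closure ht.1)]
  rcases hfix k⁻¹ (inv_mem hk) with e | e <;> rw [h.map_inv hkH, inv_inv] at e
  · have := (commute_conj_iff (θ k) _ _).2 ht'.2.2.2.symm
    rwa [show θ k * y' * (θ k)⁻¹ = y' by nth_rw 1 [← e]; group] at this
  · have c : Commute (θ t) (s' * y' * s') :=
      (ht'.1.2.2.symm.mul_right ht'.2.2.2.symm).mul_right ht'.1.2.2.symm
    have := (commute_conj_iff (θ k) _ _).2 c
    rwa [← e, show θ k * ((θ k)⁻¹ * y' * θ k) * (θ k)⁻¹ = y' by group] at this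

end Cfsg.Agent.FischerUnique24
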