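import Cfsg.Agent.Lib.FischerUnique24.Swap
import Cfsg.Agent.Lib.FischerUnique24.Rigid
import Cfsg.Agent.Lib.FischerUnique24.Parity

/-!
A link of two centralisers extends to a bijection of the classes that respects commuting.
-/

set_option autoImplicit false

namespace Cfsg.Agent.FischerUnique24

open Cfsg.Agent.Fischer
open Cfsg.Agent.Fischer.Factor

variable {G G' X : Type*} [Group G] [Group G'] [Group X] [Finite G] [Finite G'] [Finite X]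
  {D : Set G} {D' : Set G'} {D1 : Set X}

omit [Finite G] [Finite G'] in
/-- A compatible link at a neighbour. -/
def IsAdj (D : Set G) (D' : Set G') (t : G) (t' : G') (θ : G → G') (u : G) (ψ : G → G') : Prop :=
  IsLink D D' u (θ u) ψ ∧ ψ t = t' ∧ ∀ y ∈ Com D t u, ψ y = θ y

omit [Finite G] [Finite G'] in
/-- The condition on the image of a far transposition. -/
def Matched (D : Set G) (D' : Set G') (t : G) (t' : G') (θ : G → G') (w : G) (z : G') : Prop :=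
  z ∈ Far D' t' ∧ ∀ y ∈ Com D t w, Commute z (θ y)

variable {t : G} {t' : G'} {θ : G → G'}

omit [Finite G] [Finite G'] in
theorem twin_commute {z q : G'} (htq : Commute t' q) (hzq : Commute z q) : Commute (t' * z * t') q :=
  (htq.mul_left hzq).mul_left htq

/-- Two compatible links at commuting common neighbours agree up to the twin. -/
theorem adj_step (C : Ctx D D1) (h : IsLink D D' t t' θ) (ht : t ∈ D) {v s r : G} (hv : v ∈ Far D t)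
    (hs : s ∈ Com D t v) (hr : r ∈ Com D t v) (hrs : r ∈ Nb D s) {ψ χ : G → G'}
    (hψ : IsAdj D D' t t' θ s ψ) (hχ : IsAdj D D' t t' θ r χ) :
    ψ v = χ v ∨ ψ v = t' * χ v * t' := by
  have hts : t ∈ Nb D s := ⟨ht, hs.1.2.1.symm, hs.1.2.2.symm⟩
  have htr : t ∈ Nb D r := ⟨ht, hr.1.2.1.symm, hr.1.2.2.symm⟩
  have hvs : v ∈ Nb D s := ⟨hv.1, hs.2.2.1.symm, hs.2.2.2.symm⟩
  have hvr : v ∈ Nb D r := ⟨hv.1, hr.2.2.1.symm, hr.2.2.2.symm⟩
  have hsr : s ∈ Nb D r := ⟨hs.1.1, hrs.2.1.symm, hrs.2.2.symm⟩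
  have e1 : ψ r = θ r := hψ.2.2 r ⟨hr.1, hrs⟩
  have e2 : χ s = θ s := hχ.2.2 s ⟨hs.1, hsr⟩
  have hz : ψ v ∈ Nb D' (θ r) := e1 ▸ (hψ.1.nb_pair hrs hvs).2 hvr
  obtain ⟨p, hp, hpe⟩ := hχ.1.lift _ hz
  have hps : p ∈ Nb D s := (hχ.1.nb_pair hsr hp).1 (by rw [e2, hpe]; exact hψ.1.nb v hvs)
  have hH : ∀ {a b}, b ∈ Nb D a → b ∈ Hd D a := fun hb => Subgroup.subset_closure hb
  have hall : ∀ y ∈ Nb D s ∩ Com D t v, y ∈ Nb D r → Commute p y := by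
    rintro y ⟨hys, hyt, hyv⟩ hyr
    refine (hχ.1.commute_iff (hH hp) (hH hyr)).1 ?_
    rw [hpe, hχ.2.2 y ⟨hyt, hyr⟩, ← hψ.2.2 y ⟨hyt, hys⟩]
    exact (hψ.1.commute_iff (hH hvs) (hH hys)).2 hyv.2.2
  rcases C.twin_three hv.2 ht hv.1 hs ⟨hrs, hr⟩ hps hp hall with e | e | e
  · exfalso
    rw [e, hχ.2.1, ← hψ.2.1] at hpe
    exact hv.2 (hψ.1.inj t (hH hts) v (hH hvs) hpe ▸ Commute.refl t)
  · exact Or.inl (by rw [← hpe, e])
  · refine Or.inr ?_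
    rw [← hpe, e, hχ.1.map_mul _ (mul_mem (hH htr) (hH hvr)) _ (hH htr),
      hχ.1.map_mul _ (hH htr) _ (hH hvr), hχ.2.1]

/-- Every far transposition has an image. -/
theorem exists_matched (C : Ctx D D1) (C' : Ctx D' D1) (h : IsLink D D' t t' θ) (ht : t ∈ D) (ht' : t' ∈ D')
    {w : G} (hw : w ∈ Far D t) : ∃ z, Matched D D' t t' θ w z := by
  obtain ⟨s, hs1, hs2⟩ := C.exists_common ht hw.1 hw.2
  have hs : s ∈ Com D t w := ⟨hs1, hs2⟩
  obtain ⟨ψ, hψ⟩ := exists_adj C C' h ht ht' hs.1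
  have hts : t ∈ Nb D s := ⟨ht, hs.1.2.1.symm, hs.1.2.2.symm⟩
  have hws : w ∈ Nb D s := ⟨hw.1, hs.2.2.1.symm, hs.2.2.2.symm⟩
  have hH : ∀ {a b}, b ∈ Nb D a → b ∈ Hd D a := fun hb => Subgroup.subset_closure hb
  have hz := hψ.1.nb w hws
  refine ⟨ψ w, ⟨hz.1, fun hc => hw.2 ?_⟩, fun y hy => ?_⟩
  · exact (hψ.1.commute_iff (hH hts) (hH hws)).1 (by rwa [hψ.2.1])
  by_cases hys : y = s
  · exact hys ▸ hz.2.2.symm
  by_cases hc : Commute s y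
  · have hys' : y ∈ Nb D s := ⟨hy.1.1, hys, hc⟩
    rw [← hψ.2.2 y ⟨hy.1, hys'⟩]
    exact (hψ.1.commute_iff (hH hws) (hH hys')).2 hy.2.2.2
  -- a neighbour in another component
  have hty : t ∈ Com D s y := ⟨hts, ht, hy.1.2.1.symm, hy.1.2.2.symm⟩
  have hwy : w ∈ Com D s y := ⟨hws, hw.1, hy.2.2.1.symm, hy.2.2.2.symm⟩
  obtain ⟨x, hx⟩ : (Nb D t ∩ Nb D s ∩ Nb D y).Nonempty := Set.nonempty_of_ncard_ne_zero (by
    rw [C.card_angle ht hs.1 hy.1 hc]; norm_num)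
  have hxsy : x ∈ Com D s y := ⟨hx.1.2, hx.2⟩
  obtain ⟨f, hf, h1, h2, hB, himg⟩ := C.com_frame hc hs.1.1 hy.1.1 hxsy
  have htx : t ∈ Nb D x := ⟨ht, hx.1.1.2.1.symm, hx.1.1.2.2.symm⟩
  obtain ⟨W, hW, V, hV, hWT, hTV, hWV⟩ :=
    C.low.wedge (hf.mem s h1) hB (T := f t) (himg ▸ ⟨t, ⟨htx, hty⟩, rfl⟩)
  rw [← himg] at hW hV
  obtain ⟨w₁, hw₁, rfl⟩ := hW
  obtain ⟨v, hv, rfl⟩ := hV
  have hvt : ¬ Commute t v := fun e => hTV ((hf.comm t htx v hv.1).2 e)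
  have hw₁v : ¬ Commute w₁ v := fun e => hWV ((hf.comm w₁ hw₁.1 v hv.1).2 e)
  have hw₁t : w₁ ∈ Nb D t := ⟨hw₁.1.1, fun e => hWT.2.1 (by rw [e]), (hf.comm t htx w₁ hw₁.1).1 hWT.2.2⟩
  have hvF : v ∈ Far D t := ⟨hv.1.1, hvt⟩
  have hsv : s ∈ Com D t v := ⟨hs.1, hs.1.1, hv.2.1.2.1.symm, hv.2.1.2.2.symm⟩
  have hyv : y ∈ Com D t v := ⟨hy.1, hy.1.1, hv.2.2.2.1.symm, hv.2.2.2.2.symm⟩
  have hxv : x ∈ Com D t v := ⟨hx.1.1, hx.1.1.1, hv.1.2.1.symm, hv.1.2.2.symm⟩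
  obtain ⟨χ, hχ⟩ := exists_adj C C' h ht ht' hx.1.1
  obtain ⟨ω, hω⟩ := exists_adj C C' h ht ht' hy.1
  have hsy' : ¬ Commute (θ s) (θ y) := fun e => hc ((h.commute_iff (hH hs.1) (hH hy.1)).1 e)
  have hty' : Commute t' (θ y) := (h.nb y hy.1).2.2
  have hvy' : Commute (ω v) (θ y) := (hω.1.nb v ⟨hv.1.1, hv.2.2.2.1, hv.2.2.2.2⟩).2.2.symm
  have hsq : t' * t' = 1 := TSet.sq C'.group.1 ht'
  have hχy : Commute (χ v) (θ y) := by
    rcases adj_step C h ht hvF hyv hxv hx.2 hω hχ with e | e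
    · exact e ▸ hvy'
    · rw [show χ v = t' * (t' * χ v * t') * t' by simp [mul_assoc, hsq, ← mul_assoc t' t']]
      exact twin_commute hty' (e ▸ hvy')
  have hvy : Commute (ψ v) (θ y) := by
    rcases adj_step C h ht hvF hsv hxv hx.1.2 hψ hχ with e | e
    · exact e ▸ hχy
    · exact e ▸ twin_commute hty' hχy
  have hC : ∀ g ∈ Nb D t ∩ Com D s y, ψ g ∈ Com D' (θ s) (θ y) := fun g hg => by
    rw [hψ.2.2 g ⟨hg.1, hg.2.1⟩]
    exact ⟨(h.nb_pair hs.1 hg.1).2 hg.2.1, (h.nb_pair hy.1 hg.1).2 hg.2.2⟩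
  have ht2 : ψ t ∈ Com D' (θ s) (θ y) := by
    rw [hψ.2.1]
    exact ⟨⟨ht', (h.nb s hs.1).2.1.symm, (h.nb s hs.1).2.2.symm⟩,
      ht', (h.nb y hy.1).2.1.symm, (h.nb y hy.1).2.2.symm⟩
  exact rigid C C' hψ.1 hc hy.1.1 hs.1.1 hty hsy' (h.nb s hs.1).1 (h.nb y hy.1).1 ht2 hC hv.2 hvt hvy
    ⟨hw₁t, hw₁.2⟩ hw₁v hwy

/-- An image is the value of a compatible link or its twin. -/
theorem matched_pair (C : Ctx D D1) (h : IsLink D D' t t' θ) (ht : t ∈ D) {w s : G} {z : G'} {ψ : G → G'}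
    (hw : w ∈ Far D t) (hz : Matched D D' t t' θ w z) (hs : s ∈ Com D t w) (hψ : IsAdj D D' t t' θ s ψ) :
    z = ψ w ∨ z = t' * ψ w * t' := by
  have hts : t ∈ Nb D s := ⟨ht, hs.1.2.1.symm, hs.1.2.2.symm⟩
  have hws : w ∈ Nb D s := ⟨hw.1, hs.2.2.1.symm, hs.2.2.2.symm⟩
  have hzs : z ∈ Nb D' (θ s) :=
    ⟨hz.1.1, fun e => hz.1.2 (e ▸ (h.nb s hs.1).2.2), (hz.2 s hs).symm⟩
  obtain ⟨p, hp, rfl⟩ := hψ.1.lift z hzs
  have hH : ∀ {a b}, b ∈ Nb D a → b ∈ Hd D a := fun hb => Subgroup.subset_closure hb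
  have hall : ∀ y ∈ Nb D s ∩ Com D t w, Commute p y := by
    rintro y ⟨hys, hy⟩
    refine (hψ.1.commute_iff (hH hp) (hH hys)).1 ?_
    rw [hψ.2.2 y ⟨hy.1, hys⟩]
    exact hz.2 y hy
  rcases C.twin_two hw.2 ht hw.1 hs hp hall with e | e | e
  · exact absurd (show Commute t' (ψ p) by rw [e, hψ.2.1]) hz.1.2
  · exact Or.inl (congrArg ψ e)
  · refine Or.inr ?_
    rw [e, hψ.1.map_mul _ (mul_mem (hH hts) (hH hws)) _ (hH hts), hψ.1.map_mul _ (hH hts) _ (hH hws),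
      hψ.2.1]

/-- The link extends equivariantly to the class. -/
theorem exists_phi (C : Ctx D D1) (C' : Ctx D' D1) (h : IsLink D D' t t' θ) (ht : t ∈ D) (ht' : t' ∈ D') :
    ∃ φ : G → G', (∀ y, y ∈ Hd D t → y ∈ D → φ y = θ y) ∧ (∀ y ∈ D, φ y ∈ D') ∧ Set.InjOn φ D ∧
      (∀ w ∈ Far D t, Matched D D' t t' θ w (φ w)) ∧
      ∀ g ∈ Hd D t, ∀ w ∈ Far D t, φ (g * w * g⁻¹) = θ g * φ w * (θ g)⁻¹ := by
  classical
  obtain ⟨w₀, hw₀⟩ : (Far D t).Nonempty := by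
    obtain ⟨b, hb, hb'⟩ := C.exists_far ht
    exact ⟨b, hb, hb'⟩
  obtain ⟨z₀, hz₀⟩ := exists_matched C C' h ht ht' hw₀
  have hKt : Subgroup.centralizer ({t, w₀} : Set G) = Subgroup.closure (Com D t w₀) :=
    C.centralizer_pair hw₀.2 ht hw₀.1
  have hKH : Subgroup.closure (Com D t w₀) ≤ Hd D t := Subgroup.closure_mono Set.inter_subset_left
  have hfix : ∀ g ∈ Subgroup.closure (Com D t w₀), Commute (θ g) z₀ := by
    intro g hg
    induction hg using Subgroup.closure_induction with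
    | mem y hy => exact (hz₀.2 y hy).symm
    | one => rw [h.map_one]; exact Commute.one_left _
    | mul a b ha hb ea eb => rw [h.map_mul _ (hKH ha) _ (hKH hb)]; exact ea.mul_left eb
    | inv a ha ea => rw [h.map_inv (hKH ha)]; exact ea.inv_left
  have hfixiff : ∀ g ∈ Hd D t, Commute (θ g) z₀ → Commute g w₀ := by
    intro g hg hgz
    set K := Subgroup.closure (Com D t w₀)
    set K' := Subgroup.closure (Com D' t' z₀) with hK'
    have hsub : θ '' (K : Set G) ⊆ K' := by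
      rintro _ ⟨x, hx, rfl⟩
      rw [SetLike.mem_coe, hK', ← C'.centralizer_pair hz₀.1.2 ht' hz₀.1.1, Subgroup.mem_centralizer_iff]
      rintro v (rfl | rfl)
      exacts [(commute_of_mem_closure_nb (h.mem_hd x (hKH hx))).eq, (hfix x hx).symm.eq]
    have heq : θ '' (K : Set G) = K' := by
      refine Set.eq_of_subset_of_ncard_le hsub (le_of_eq ?_) (Set.toFinite _)
      rw [Set.InjOn.ncard_image fun p hp q hq => h.inj p (hKH hp) q (hKH hq), ← Nat.card_coe_set_eq,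
        ← Nat.card_coe_set_eq, SetLike.coe_sort_coe, SetLike.coe_sort_coe, C.card_pair_cent hw₀.2 ht hw₀.1,
        C'.card_pair_cent hz₀.1.2 ht' hz₀.1.1, C.card_com hw₀.2 ht hw₀.1, C'.card_com hz₀.1.2 ht' hz₀.1.1]
    have hgK : θ g ∈ (K' : Set G') := by
      rw [SetLike.mem_coe, hK', ← C'.centralizer_pair hz₀.1.2 ht' hz₀.1.1, Subgroup.mem_centralizer_iff]
      rintro v (rfl | rfl)
      exacts [(commute_of_mem_closure_nb (h.mem_hd g hg)).eq, hgz.symm.eq]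
    obtain ⟨x, hx, e⟩ := heq.ge hgK
    rw [← h.inj x (hKH hx) g hg e]
    exact (show Commute w₀ x from
      Subgroup.mem_centralizer_iff.1 (hKt.ge hx) w₀ (Or.inr rfl)).symm
  have htr : ∀ w, ∃ g, w ∈ Far D t → g ∈ Hd D t ∧ g * w₀ * g⁻¹ = w := fun w => by
    by_cases hw : w ∈ Far D t
    · obtain ⟨g, hg1, hg2⟩ := C.trans_far ht hw₀.1 hw₀.2 ht hw.1 hw.2
      exact ⟨g, fun _ => ⟨(C.centralizer ht).le
        (Subgroup.mem_centralizer_singleton_iff.2 (mul_inv_eq_iff_eq_mul.1 hg1)), hg2⟩⟩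
    · exact ⟨1, fun e => absurd e hw⟩
  choose γ hγ using htr
  obtain ⟨φ, hφ⟩ : ∃ φ : G → G', ∀ y, φ y = if y ∈ Far D t then θ (γ y) * z₀ * (θ (γ y))⁻¹ else θ y :=
    ⟨_, fun _ => rfl⟩
  have hφw : ∀ g ∈ Hd D t, φ (g * w₀ * g⁻¹) = θ g * z₀ * (θ g)⁻¹ := by
    intro g hg
    have htg : g * t * g⁻¹ = t := conj_eq_self_of_commute (commute_of_mem_closure_nb hg).symm
    have hF : g * w₀ * g⁻¹ ∈ Far D t :=
      ⟨C.group.2.1 g w₀ hw₀.1, fun e => hw₀.2 ((commute_conj_iff g t w₀).1 (by rwa [htg]))⟩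
    rw [hφ, if_pos hF]
    obtain ⟨hh, he⟩ := hγ _ hF
    set k := γ (g * w₀ * g⁻¹)
    have hm : g⁻¹ * k ∈ Hd D t := mul_mem (inv_mem hg) hh
    have hc : g⁻¹ * k ∈ Subgroup.closure (Com D t w₀) := by
      rw [← hKt, Subgroup.mem_centralizer_iff]
      rintro v (rfl | rfl)
      · exact (commute_of_mem_closure_nb hm).eq
      · refine (mul_inv_eq_iff_eq_mul.1 ?_).symm
        calc g⁻¹ * k * v * (g⁻¹ * k)⁻¹ = g⁻¹ * (k * v * k⁻¹) * g := by group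
          _ = v := by rw [he]; group
    have e : θ k = θ g * θ (g⁻¹ * k) := by rw [← h.map_mul _ hg _ hm, mul_inv_cancel_left]
    rw [e, show θ g * θ (g⁻¹ * k) * z₀ * (θ g * θ (g⁻¹ * k))⁻¹ =
      θ g * (θ (g⁻¹ * k) * z₀ * (θ (g⁻¹ * k))⁻¹) * (θ g)⁻¹ by group,
      conj_eq_self_of_commute (hfix _ hc)]
  have hnear : ∀ y, y ∈ Hd D t → y ∈ D → φ y = θ y := fun y hy _ => by
    rw [hφ, if_neg fun e => e.2 (commute_of_mem_closure_nb hy)]
  have hcases : ∀ y ∈ D, y ∈ Far D t ∨ (y ∈ Hd D t ∧ (y = t ∨ y ∈ Nb D t)) := fun y hy => by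
    by_cases hc : Commute t y
    · by_cases e : y = t
      · exact Or.inr ⟨e.symm ▸ C.mem_self ht, Or.inl e⟩
      · exact Or.inr ⟨Subgroup.subset_closure ⟨hy, e, hc⟩, Or.inr ⟨hy, e, hc⟩⟩
    · exact Or.inl ⟨hy, hc⟩
  have hequiv : ∀ g ∈ Hd D t, ∀ w ∈ Far D t, φ (g * w * g⁻¹) = θ g * φ w * (θ g)⁻¹ := by
    intro g hg w hw
    obtain ⟨hk, hkw⟩ := hγ w hw
    rw [← hkw, show g * (γ w * w₀ * (γ w)⁻¹) * g⁻¹ = g * γ w * w₀ * (g * γ w)⁻¹ by group,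
      hφw _ (mul_mem hg hk), hφw _ hk, h.map_mul _ hg _ hk]
    group
  have hmatch : ∀ w ∈ Far D t, Matched D D' t t' θ w (φ w) := by
    intro w hw
    obtain ⟨hk, hkw⟩ := hγ w hw
    rw [← hkw, hφw _ hk, hkw]
    have hk' := h.mem_hd _ hk
    have htk : θ (γ w) * t' * (θ (γ w))⁻¹ = t' :=
      conj_eq_self_of_commute (commute_of_mem_closure_nb hk').symm
    refine ⟨⟨C'.group.2.1 _ _ hz₀.1.1, fun e => hz₀.1.2 ((commute_conj_iff (θ (γ w)) t' z₀).1 (by rwa [htk]))⟩,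
      fun y hy => ?_⟩
    have hki : (γ w)⁻¹ ∈ Hd D t := inv_mem hk
    have hy' : (γ w)⁻¹ * y * γ w ∈ Com D t w₀ := by
      have h1 := nb_conj C.group (γ w)⁻¹ hy.1
      have h2 := nb_conj C.group (γ w)⁻¹ hy.2
      rw [inv_inv] at h1 h2
      rw [show (γ w)⁻¹ * t * γ w = t by
        have := conj_eq_self_of_commute (commute_of_mem_closure_nb hki).symm
        rwa [inv_inv] at this] at h1
      nth_rw 2 [← hkw] at h2
      rw [show (γ w)⁻¹ * (γ w * w₀ * (γ w)⁻¹) * γ w = w₀ by group] at h2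
      exact ⟨h1, h2⟩
    have := (commute_conj_iff (θ (γ w)) _ _).2 (hz₀.2 _ hy')
    rw [h.map_mul _ (mul_mem hki (Subgroup.subset_closure hy.1)) _ hk,
      h.map_mul _ hki _ (Subgroup.subset_closure hy.1), h.map_inv hk] at this
    rwa [show θ (γ w) * ((θ (γ w))⁻¹ * θ y * θ (γ w)) * (θ (γ w))⁻¹ = θ y by group] at this
  refine ⟨φ, hnear, fun y hy => ?_, fun x hx y hy e => ?_, hmatch, hequiv⟩
  · rcases hcases y hy with hF | ⟨hH, rfl | hN⟩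
    · exact (hmatch y hF).1.1
    · rw [hnear y hH hy, h.self]; exact ht'
    · rw [hnear y hH hy]; exact (h.nb y hN).1
  · have hsep : ∀ {a b}, a ∈ Far D t → b ∈ Hd D t → b ∈ D → φ a ≠ φ b := fun {a b} ha hb hbD e => by
      refine (hmatch a ha).1.2 ?_
      rw [e, hnear b hb hbD]
      exact commute_of_mem_closure_nb (h.mem_hd b hb)
    rcases hcases x hx with hF | ⟨hH, -⟩ <;> rcases hcases y hy with hF' | ⟨hH', -⟩
    · obtain ⟨ha, hae⟩ := hγ x hF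
      obtain ⟨hb, hbe⟩ := hγ y hF'
      rw [← hae, ← hbe, hφw _ ha, hφw _ hb] at e
      have hm : (γ y)⁻¹ * γ x ∈ Hd D t := mul_mem (inv_mem hb) ha
      have hcm : Commute (θ ((γ y)⁻¹ * γ x)) z₀ := by
        refine mul_inv_eq_iff_eq_mul.1 ?_
        rw [h.map_mul _ (inv_mem hb) _ ha, h.map_inv hb]
        calc (θ (γ y))⁻¹ * θ (γ x) * z₀ * ((θ (γ y))⁻¹ * θ (γ x))⁻¹
            = (θ (γ y))⁻¹ * (θ (γ x) * z₀ * (θ (γ x))⁻¹) * θ (γ y) := by group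
          _ = z₀ := by rw [e]; group
      have := conj_eq_self_of_commute (hfixiff _ hm hcm)
      rw [← hae, ← hbe]
      nth_rw 2 [← this]
      group
    · exact absurd e (hsep hF hH' hy)
    · exact absurd e.symm (hsep hF' hH hx)
    · rw [hnear x hH hx, hnear y hH' hy] at e
      exact h.inj x hH y hH' e

end Cfsg.Agent.FischerUnique24
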