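import Cfsg.Agent.Lib.FischerUnique24.Symmetric

/-!
The simple normal subgroup of the joint centraliser of two non-commuting transpositions and the commuting
width of the common neighbours.
-/

set_option autoImplicit false
set_option maxRecDepth 100000

namespace Cfsg.Agent.FischerUnique24

open Cfsg.Agent.Fischer
open Cfsg.Agent.Fischer.Factor
open Cfsg.Agent.FischerPresented

variable {G X : Type*} [Group G] [Group X] [Finite G] [Finite X] {D : Set G} {D1 : Set X}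

omit [Finite G] [Finite X] in
theorem commutingWidth_image {H : Type*} [Group H] [Finite H] {K : Type*} [Group K] [Finite K] (T : H ≃* K)
    (E : Set H) : Cfsg.commutingWidth (T '' E) = Cfsg.commutingWidth E := by
  unfold Cfsg.commutingWidth
  congr 1
  ext n
  constructor
  · rintro ⟨A, hA, -, hc, rfl⟩
    refine ⟨T ⁻¹' A, fun x hx => ?_, Set.toFinite _, fun x hx y hy => ?_, ?_⟩
    · obtain ⟨w, hw, e⟩ := hA hx
      rwa [← T.injective e]
    · simpa using (hc _ hx _ hy).map T.symm.toMonoidHom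
    · rw [← Set.ncard_image_of_injective _ T.injective, Set.image_preimage_eq _ T.surjective]
  · rintro ⟨A, hA, -, hc, rfl⟩
    refine ⟨T '' A, Set.image_mono hA, Set.toFinite _, ?_, Set.ncard_image_of_injective _ T.injective⟩
    rintro _ ⟨x, hx, rfl⟩ _ ⟨y, hy, rfl⟩
    exact (hc x hx y hy).map T.toMonoidHom

theorem Is23.width_common (h : Is23 D1) {a d : X} (ha : a ∈ D1) (hd : d ∈ Far D1 a) :
    Cfsg.commutingWidth (Nb D1 a ∩ Nb D1 d) = 7 := by
  obtain ⟨T, hTD, rfl, rfl⟩ := FischerUnique23.exists_frame_noncomm h.group h.prim h.type ha hd.1 hd.2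
  haveI := Fi23.order_facts.1
  rw [← FischerUnique23.width_seven, ← commutingWidth_image T]
  congr 1
  ext y
  obtain ⟨w, rfl⟩ := T.surjective y
  simp only [T.injective.mem_set_image, Set.mem_inter_iff, SetLike.mem_coe, FischerUnique23.mem_C1]
  have hiff : T w ∈ D1 ↔ w ∈ Fi23.D := by
    rw [← hTD]; exact T.injective.mem_set_image
  have hc : ∀ u v, Commute (T u) (T v) ↔ Commute u v := fun u v =>
    ⟨fun e => by simpa using e.map T.symm.toMonoidHom, fun e => e.map T.toMonoidHom⟩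
  constructor
  · rintro ⟨⟨h1, -, h2⟩, -, -, h3⟩
    exact ⟨hiff.1 h1, ((hc _ _).1 h2).symm, ((hc _ _).1 h3).symm⟩
  · rintro ⟨h1, h2, h3⟩
    refine ⟨⟨hiff.2 h1, fun e => ?_, ((hc _ _).2 h2).symm⟩, hiff.2 h1, fun e => ?_, ((hc _ _).2 h3).symm⟩
    · rw [T.injective e] at h3
      exact hd.2 (h3.map T.toMonoidHom)
    · rw [T.injective e] at h2
      exact hd.2 ((h2.map T.toMonoidHom).symm)

omit [Group X] [Finite G] [Finite X] in
theorem bdd_commSet' {H : Type*} [Group H] [Finite H] (E : Set H) :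
    BddAbove {n : ℕ | ∃ A : Set H, A ⊆ E ∧ A.Finite ∧ (∀ a ∈ A, ∀ b ∈ A, Commute a b) ∧ A.ncard = n} := by
  refine ⟨(Set.univ : Set H).ncard, ?_⟩
  rintro n ⟨A, -, -, -, rfl⟩
  exact Set.ncard_le_ncard (Set.subset_univ _) (Set.toFinite _)

namespace Ctx

variable (C : Ctx D D1)
include C

/-- The common neighbours of a non-commuting pair have width eight. -/
theorem width_com {a b : G} (hab : ¬ Commute a b) (ha : a ∈ D) (hb : b ∈ D) :
    Cfsg.commutingWidth (Com D a b) = 8 := by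
  classical
  have hkey : ∀ s ∈ Com D a b, ∃ f : G → X, IsChart D D1 s f ∧
      f '' (Nb D s ∩ Com D a b) = Nb D1 (f a) ∩ Nb D1 (f b) ∧
      Cfsg.commutingWidth (Nb D1 (f a) ∩ Nb D1 (f b)) = 7 := fun s hs => by
    obtain ⟨f, hf, h1, -, hB, himg⟩ := C.com_frame hab ha hb hs
    exact ⟨f, hf, himg, C.low.width_common (hf.mem a h1) hB⟩
  have hne : ∀ {H : Set G}, {n : ℕ | ∃ A : Set G, A ⊆ H ∧ A.Finite ∧ (∀ a ∈ A, ∀ b ∈ A, Commute a b) ∧
      A.ncard = n}.Nonempty := ⟨0, ∅, Set.empty_subset _, Set.finite_empty,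
    fun _ h => absurd h (Set.notMem_empty _), Set.ncard_empty _⟩
  refine le_antisymm (csSup_le hne ?_) ?_
  · rintro n ⟨E, hE, hfin, hc, rfl⟩
    rcases E.eq_empty_or_nonempty with rfl | ⟨s, hs⟩
    · simp
    obtain ⟨f, hf, himg, h7⟩ := hkey s (hE hs)
    have hsub : ∀ y ∈ E \ {s}, y ∈ Nb D s ∩ Com D a b :=
      fun y hy => ⟨⟨(hE hy.1).1.1, hy.2, hc s hs y hy.1⟩, hE hy.1⟩
    have h1 : (E \ {s}).ncard ≤ 7 := by
      rw [← h7, ← Set.InjOn.ncard_image (f := f) fun p hp q hq =>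
        hf.inj p (hsub p hp).1 q (hsub q hq).1]
      refine le_csSup (bdd_commSet' _) ⟨f '' (E \ {s}), ?_, Set.toFinite _, ?_, rfl⟩
      · rintro _ ⟨y, hy, rfl⟩
        rw [← himg]
        exact Set.mem_image_of_mem f (hsub y hy)
      · rintro _ ⟨y, hy, rfl⟩ _ ⟨w, hw, rfl⟩
        exact (hf.comm y (hsub y hy).1 w (hsub w hw).1).2 (hc y hy.1 w hw.1)
    have h2 := Set.ncard_sdiff_singleton_add_one hs hfin
    omega
  · obtain ⟨s, hs1, hs2⟩ := C.exists_common ha hb hab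
    have hs : s ∈ Com D a b := ⟨hs1, hs2⟩
    obtain ⟨f, hf, himg, h7⟩ := hkey s hs
    obtain ⟨E, hE, -, hc, hn⟩ : 7 ∈ {n : ℕ | ∃ A : Set X, A ⊆ Nb D1 (f a) ∩ Nb D1 (f b) ∧ A.Finite ∧
        (∀ a ∈ A, ∀ b ∈ A, Commute a b) ∧ A.ncard = n} := h7 ▸ Nat.sSup_mem
      ⟨0, ∅, Set.empty_subset _, Set.finite_empty, fun _ h => absurd h (Set.notMem_empty _),
        Set.ncard_empty _⟩ (bdd_commSet' _)
    set S := {y | y ∈ Nb D s ∩ Com D a b ∧ f y ∈ E}
    have hS : f '' S = E := Set.Subset.antisymm (by rintro _ ⟨y, hy, rfl⟩; exact hy.2) fun z hz => by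
      obtain ⟨y, hy, rfl⟩ := himg.ge (hE hz)
      exact ⟨y, ⟨hy, hz⟩, rfl⟩
    have hcard : S.ncard = 7 := by
      rw [← hn, ← hS, Set.InjOn.ncard_image fun p hp q hq => hf.inj p hp.1.1 q hq.1.1]
    refine le_csSup (bdd_commSet' _) ⟨insert s S, ?_, Set.toFinite _, ?_, ?_⟩
    · rintro y (rfl | hy)
      exacts [hs, hy.1.2]
    · rintro y (rfl | hy) w (rfl | hw)
      exacts [Commute.refl _, hw.1.1.2.2, hy.1.1.2.2.symm,
        (hf.comm y hy.1.1 w hw.1.1).1 (hc _ hy.2 _ hw.2)]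
    · rw [Set.ncard_insert_of_notMem (fun h => h.1.1.2.1 rfl), hcard]

end Ctx

end Cfsg.Agent.FischerUnique24
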