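import Cfsg.Agent.Lib.FischerUnique24.Count
import Cfsg.Agent.Lib.Components.FStar

/-!
The normaliser of the group generated by a product of two non-commuting transpositions in a group of
type M(24), and the generalised Fitting subgroup of the joint centraliser.
-/

set_option autoImplicit false

namespace Cfsg.Agent.FischerUnique24

open Cfsg.Agent.Fischer
open Cfsg.Agent.Fischer.Factor
open Cfsg.Agent.FischerUnique23 (product_facts sym_three triangle commute_of_inverts commute_both_of_central)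

/-- A normal simple subgroup with trivial centraliser is the generalised Fitting subgroup. -/
theorem fstar_eq_of_simple {L : Type*} [Group L] [Finite L] {N : Subgroup L} [hN : N.Normal]
    (hs : IsSimpleGroup N) (hnc : ∃ x y : N, ¬ Commute x y) (hC : Subgroup.centralizer (N : Set L) = ⊥) :
    Cfsg.generalizedFittingSubgroup L = N := by
  haveI := hs
  have hcen : Subgroup.center N = ⊥ :=
    (Subgroup.Normal.eq_bot_or_eq_top inferInstance).resolve_right fun h => by
      obtain ⟨x, y, hxy⟩ := hnc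
      exact hxy ((Subgroup.mem_center_iff.1 (h ▸ Subgroup.mem_top x) y).symm)
  have hq : Cfsg.IsQuasisimple N := by
    refine ⟨⟨?_⟩, ?_⟩
    · refine (Subgroup.commutator_normal (⊤ : Subgroup N) ⊤).eq_bot_or_eq_top.resolve_left fun h => ?_
      obtain ⟨x, y, hxy⟩ := hnc
      refine hxy (commutatorElement_eq_one_iff_commute.1 ?_)
      rw [← Subgroup.mem_bot, ← h]
      exact Subgroup.commutator_mem_commutator (Subgroup.mem_top _) (Subgroup.mem_top _)
    · exact ((QuotientGroup.quotientMulEquivOfEq hcen).trans QuotientGroup.quotientBot).isSimpleGroup_congr.2 hs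
  have hcomp : Cfsg.IsComponent N := ⟨hN.isSubnormal, hq⟩
  refine le_antisymm (sup_le ?_ ?_) ((Components.component_le_layer hcomp).trans le_sup_left)
  · refine Components.layer_le_iff.2 fun M hM => ?_
    by_cases e : M = N
    · exact e.le
    · have hc : M ≤ Subgroup.centralizer (N : Set L) :=
        Subgroup.commutator_eq_bot_iff_le_centralizer.1 (Components.components_commute hM hcomp e)
      rw [hC, le_bot_iff] at hc
      exact absurd hc (Components.component_ne_bot hM)
  · refine sSup_le ?_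
    rintro R ⟨hR, hnil⟩
    haveI := hR
    haveI := hnil
    have hRN : R ⊓ N = ⊥ := by
      have hn : ((R ⊓ N).subgroupOf N).Normal := inferInstance
      rcases hn.eq_bot_or_eq_top with h | h
      · rwa [Subgroup.subgroupOf_eq_bot, disjoint_iff, inf_assoc, inf_idem] at h
      · exfalso
        rw [Subgroup.subgroupOf_eq_top, le_inf_iff] at h
        haveI : Group.IsSolvable R := inferInstance
        haveI := Group.isSolvable_of_isSolvable_injective (Subgroup.inclusion_injective h.1)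
        haveI : Nontrivial N := hs.toNontrivial
        exact (Group.IsSolvable.commutator_lt_top_of_nontrivial N).ne hq.1.commutator_eq_top
    have hc : R ≤ Subgroup.centralizer (N : Set L) :=
      Subgroup.commutator_eq_bot_iff_le_centralizer.1
        (le_bot_iff.1 ((Subgroup.commutator_le_inf R N).trans hRN.le))
    rw [hC, le_bot_iff] at hc
    rw [hc]
    exact bot_le

variable {G X : Type*} [Group G] [Group X] [Finite G] [Finite X] {D : Set G} {D1 : Set X}

namespace Ctx

variable (C : Ctx D D1)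
include C

/-- Only three transpositions centralise all common neighbours. -/
theorem three {a b y : G} (hab : ¬ Commute a b) (ha : a ∈ D) (hb : b ∈ D) (hy : y ∈ D)
    (hc : ∀ w ∈ Com D a b, Commute y w) : y = a ∨ y = b ∨ y = a * b * a := by
  obtain ⟨s, hs1, hs2⟩ := C.exists_common ha hb hab
  have hs : s ∈ Com D a b := ⟨hs1, hs2⟩
  obtain ⟨f, hf, h1, h2, hB, himg⟩ := C.com_frame hab ha hb hs
  have hys : y ≠ s := fun e => by
    subst e
    have hm : (⟨y, Subgroup.subset_closure hs⟩ : Subgroup.closure (Com D a b)) ∈ Subgroup.center _ := by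
      refine Subgroup.mem_center_iff.2 fun k => Subtype.ext ?_
      have : (k : G) ∈ Subgroup.centralizer ({y} : Set G) :=
        (Subgroup.closure_le _).2 (fun w hw => Subgroup.mem_centralizer_singleton_iff.2 (hc w hw).symm.eq) k.2
      exact Subgroup.mem_centralizer_singleton_iff.1 this
    rw [C.center_pair hab ha hb, Subgroup.mem_bot] at hm
    exact TSet.ne_one C.group.1 hy (congrArg Subtype.val hm)
  have hy' : y ∈ Nb D s := ⟨hy, hys, (hc s hs).symm⟩
  obtain ⟨-, -, -, h3, -⟩ := C.low.pair (hf.mem a h1) hB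
  have key : ∀ Y ∈ Nb D1 (f a) ∩ Nb D1 (f b), Commute (f y) Y := by
    rw [← himg]
    rintro _ ⟨w, hw, rfl⟩
    exact (hf.comm y hy' w hw.1).2 (hc w hw.2)
  have ha' : a ∈ Hd D s := Subgroup.subset_closure h1
  have hb' : b ∈ Hd D s := Subgroup.subset_closure h2
  have h3' : a * b * a ∈ Nb D s := by
    have := nb_conj C.group a h2
    rwa [conj_eq_self_of_commute h1.2.2.symm, TSet.inv C.group.1 ha] at this
  rcases h3 _ (hf.mem y hy') key with e | e | e
  · exact Or.inl (hf.inj y hy' a h1 e)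
  · exact Or.inr (Or.inl (hf.inj y hy' b h2 e))
  · refine Or.inr (Or.inr (hf.inj y hy' _ h3' ?_))
    rw [e, hf.map_mul _ (mul_mem ha' hb') _ ha', hf.map_mul _ ha' _ hb']

theorem inverts_three {a b : G} (hab : ¬ Commute a b) (ha : a ∈ D) (hb : b ∈ D) :
    ∀ y ∈ D, y * (a * b) * y = (a * b)⁻¹ → y = a ∨ y = b ∨ y = a * b * a := fun y hy hinv => by
  obtain ⟨h3, h1, -⟩ := product_facts C.group ha hb hab
  refine C.three hab ha hb hy fun w hw => ?_
  exact commute_of_inverts C.group h3 h1 hy hinv hw.1.1 (hw.1.2.2.symm.mul_right hw.2.2.2.symm)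

/-- The transpositions centralising the product are the common neighbours. -/
theorem central_eq {a b : G} (hab : ¬ Commute a b) (ha : a ∈ D) (hb : b ∈ D) :
    D ∩ (Subgroup.centralizer ((Subgroup.zpowers (a * b) : Subgroup G) : Set G) : Set G) = Com D a b := by
  refine Set.Subset.antisymm ?_ ?_
  · rintro y ⟨hy, hc⟩
    obtain ⟨c1, c2⟩ := commute_both_of_central C.group ha hb hab (C.inverts_three hab ha hb) hy
      (Subgroup.mem_centralizer_iff.1 hc _ (Subgroup.mem_zpowers _)).symm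
    exact ⟨⟨hy, fun e => hab (e ▸ c2).symm, c1⟩, hy, fun e => hab (e ▸ c1), c2⟩
  · intro y hy
    refine ⟨hy.1.1, Subgroup.mem_centralizer_iff.2 ?_⟩
    rintro v ⟨k, rfl⟩
    exact ((hy.1.2.2.symm.mul_right hy.2.2.2.symm).zpow_right k).symm.eq

theorem normalizer_pair {a b g : G} (hab : ¬ Commute a b) (ha : a ∈ D) (hb : b ∈ D)
    (hg : g ∈ Subgroup.normalizer ((Subgroup.zpowers (a * b) : Subgroup G) : Set G)) :
    g ∈ Subgroup.closure ({a, b} : Set G) ⊔ Subgroup.centralizer ({a, b} : Set G) := by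
  obtain ⟨h3, h1, -, ia, ib, -⟩ := product_facts C.group ha hb hab
  obtain ⟨k, hk⟩ := Subgroup.mem_zpowers_iff.1
    ((Subgroup.mem_normalizer_iff.1 hg _).1 (Subgroup.mem_zpowers (a * b)))
  have himg : ∀ e ∈ D, e * (a * b) * e = (a * b)⁻¹ → ∃ i, g * e * g⁻¹ = ![a, b, a * b * a] i := by
    intro e he hinv
    have he' := C.group.2.1 g e he
    have hinv2 : (g * e * g⁻¹) * (a * b) * (g * e * g⁻¹) = (a * b)⁻¹ := by
      have hinv' : (g * e * g⁻¹) * ((a * b) ^ k) * (g * e * g⁻¹) = ((a * b) ^ k)⁻¹ := by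
        rw [hk, show (g * e * g⁻¹) * (g * (a * b) * g⁻¹) * (g * e * g⁻¹) = g * (e * (a * b) * e) * g⁻¹ by group,
          hinv]
        group
      have hne : (a * b) ^ k ≠ 1 := fun e1 => h1 (by
        rw [e1, eq_comm, mul_inv_eq_one] at hk
        exact mul_eq_left.1 hk)
      obtain ⟨m, rfl | rfl | rfl⟩ : ∃ m : ℤ, k = 3 * m ∨ k = 3 * m + 1 ∨ k = 3 * m + 2 := ⟨k / 3, by omega⟩
      · exact absurd (by rw [zpow_mul, show (a * b) ^ (3 : ℤ) = (a * b) ^ 3 from zpow_natCast _ 3, h3,
          one_zpow]) hne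
      · rwa [zpow_add, zpow_mul, show (a * b) ^ (3 : ℤ) = (a * b) ^ 3 from zpow_natCast _ 3, h3, one_zpow,
          one_mul, zpow_one] at hinv'
      · have e2 : (a * b) ^ (3 * m + 2) = (a * b)⁻¹ := by
          rw [zpow_add, zpow_mul, show (a * b) ^ (3 : ℤ) = (a * b) ^ 3 from zpow_natCast _ 3, h3, one_zpow,
            one_mul, show (a * b) ^ (2 : ℤ) = (a * b) ^ 2 from zpow_natCast _ 2, eq_inv_iff_mul_eq_one,
            ← pow_succ, h3]
        rw [e2, inv_inv] at hinv'
        have hi : (g * e * g⁻¹)⁻¹ = g * e * g⁻¹ := TSet.inv C.group.1 he'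
        have := congrArg (·⁻¹) hinv'
        simpa [hi, TSet.inv C.group.1 he, mul_inv_rev, mul_assoc] using this
    rcases C.inverts_three hab ha hb _ he' hinv2 with h | h | h
    · exact ⟨0, h⟩
    · exact ⟨1, h⟩
    · exact ⟨2, h⟩
  obtain ⟨i, hi⟩ := himg a ha ia
  obtain ⟨j, hj⟩ := himg b hb ib
  have hij : i ≠ j := by
    rintro rfl
    exact not_commute_ne hab (mul_left_cancel (mul_right_cancel (hi.trans hj.symm)))
  have hσ : ∀ i j : Fin 3, i ≠ j → ∃ σ : Equiv.Perm (Fin 3), σ 0 = i ∧ σ 1 = j := by decide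
  obtain ⟨σ, h0, h1'⟩ := hσ i j hij
  obtain ⟨-, -, hs⟩ := sym_three C.group ha hb hab
  obtain ⟨s, hsS, hs⟩ := hs σ
  rw [← mul_inv_cancel_left s g]
  refine mul_mem (Subgroup.mem_sup_left hsS) (Subgroup.mem_sup_right (Subgroup.mem_centralizer_iff.2 ?_))
  rintro v (rfl | rfl)
  · have e0 := hs 0
    rw [h0, ← hi] at e0
    refine (mul_inv_eq_iff_eq_mul.1 ?_).symm
    calc s⁻¹ * g * v * (s⁻¹ * g)⁻¹ = s⁻¹ * (g * v * g⁻¹) * s := by group
      _ = v := by rw [← e0]; simp [mul_assoc]
  · have e0 := hs 1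
    rw [h1', ← hj] at e0
    refine (mul_inv_eq_iff_eq_mul.1 ?_).symm
    calc s⁻¹ * g * v * (s⁻¹ * g)⁻¹ = s⁻¹ * (g * v * g⁻¹) * s := by group
      _ = v := by rw [← e0]; simp [mul_assoc]

/-- A normal simple subgroup of index six in the joint centraliser has trivial centraliser there. -/
theorem centralizer_bot {a b : G} (hab : ¬ Commute a b) (ha : a ∈ D) (hb : b ∈ D)
    {N : Subgroup (Subgroup.closure (Com D a b))} [N.Normal] (hs : IsSimpleGroup N)
    (hnc : ∃ x y : N, ¬ Commute x y) (hidx : N.index = 6) :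
    Subgroup.centralizer (N : Set (Subgroup.closure (Com D a b))) = ⊥ := by
  set K := Subgroup.centralizer (N : Set ↥(Subgroup.closure (Com D a b)))
  haveI : K.Normal := Subgroup.normal_centralizer
  have hKN : K ⊓ N = ⊥ := by
    haveI := hs
    rw [eq_bot_iff]
    rintro x ⟨hxK, hxN⟩
    have hc : (⟨x, hxN⟩ : N) ∈ Subgroup.center N := Subgroup.mem_center_iff.2 fun y =>
      Subtype.ext (Subgroup.mem_centralizer_iff.1 hxK y y.2)
    have hz : Subgroup.center N = ⊥ :=
      (Subgroup.Normal.eq_bot_or_eq_top inferInstance).resolve_right fun h => by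
        obtain ⟨x, y, hxy⟩ := hnc
        exact hxy ((Subgroup.mem_center_iff.1 (h ▸ Subgroup.mem_top x) y).symm)
    rw [hz, Subgroup.mem_bot] at hc
    exact Subgroup.mem_bot.2 (congrArg Subtype.val hc)
  have hdvd : Nat.card K ∣ 6 := by
    rw [← hidx, Subgroup.index_eq_card]
    refine Subgroup.card_dvd_of_injective ((QuotientGroup.mk' N).comp K.subtype) ?_
    rw [← MonoidHom.ker_eq_bot_iff, eq_bot_iff]
    intro x hx
    have : (x : ↥(Subgroup.closure (Com D a b))) ∈ K ⊓ N := ⟨x.2, (QuotientGroup.eq_one_iff _).1 hx⟩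
    rw [hKN, Subgroup.mem_bot] at this
    exact Subgroup.mem_bot.2 (Subtype.ext this)
  have hz := C.center_pair hab ha hb
  by_contra hne
  have h1 : 1 < Nat.card K := (Subgroup.one_lt_card_iff_ne_bot K).2 hne
  by_cases h3 : 3 ∣ Nat.card K
  · haveI := Fact.mk Nat.prime_three
    obtain ⟨⟨p, hpK⟩, hp⟩ := exists_prime_orderOf_dvd_card' 3 h3
    rw [Subgroup.orderOf_mk] at hp
    set P := Subgroup.zpowers (⟨p, hpK⟩ : K) with hPdef
    have hPc : Nat.card P = 3 := by rw [hPdef, Nat.card_zpowers, Subgroup.orderOf_mk, hp]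
    have hPn : P.Normal := by
      have h6 : Nat.card K = 3 ∨ Nat.card K = 6 := by
        have := Nat.le_of_dvd (by norm_num) hdvd
        interval_cases (Nat.card K) <;> omega
      have hm := Subgroup.card_mul_index P
      rw [hPc] at hm
      rcases h6 with h | h <;> rw [h] at hm
      · rw [Subgroup.index_eq_one.1 (show P.index = 1 by omega)]; infer_instance
      · exact Subgroup.normal_of_index_eq_two (by omega)
    have huniq : ∀ g : ↥(Subgroup.closure (Com D a b)), g * p * g⁻¹ = p ∨ g * p * g⁻¹ = p⁻¹ := by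
      intro g
      have hq : g * p * g⁻¹ ∈ K := (inferInstance : K.Normal).conj_mem p hpK g
      haveI := hPn
      set q : K := ⟨_, hq⟩
      have hqP : q ∈ P := by
        have hq3 : q ^ 3 = 1 := Subtype.ext (by
          show (g * p * g⁻¹) ^ 3 = 1
          rw [conj_pow, ← hp, pow_orderOf_eq_one, mul_one, mul_inv_cancel])
        rw [← QuotientGroup.eq_one_iff]
        set π := (QuotientGroup.mk q : K ⧸ P)
        have e2 : orderOf π ∣ Nat.card (K ⧸ P) := orderOf_dvd_natCard π
        have e3 : orderOf π ∣ 3 := orderOf_dvd_of_pow_eq_one (by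
          rw [← QuotientGroup.mk_pow, hq3, QuotientGroup.mk_one])
        have hm := Subgroup.card_mul_index P
        rw [hPc, Subgroup.index_eq_card] at hm
        have h6 := Nat.le_of_dvd (by norm_num) hdvd
        rw [← orderOf_eq_one_iff]
        rcases (Nat.dvd_prime Nat.prime_three).1 e3 with h | h
        · exact h
        · rw [h] at e2
          have := Nat.le_of_dvd Nat.card_pos e2
          have : Nat.card (K ⧸ P) ≤ 2 := by omega
          omega
      obtain ⟨i, hi⟩ := Subgroup.mem_zpowers_iff.1 hqP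
      have hi' : p ^ i = g * p * g⁻¹ := congrArg Subtype.val hi
      rw [← hi', ← zpow_mod_orderOf, hp]
      have hm1 := Int.emod_nonneg i (show ((3 : ℕ) : ℤ) ≠ 0 by norm_num)
      have hm2 := Int.emod_lt_of_pos i (show (0 : ℤ) < ((3 : ℕ) : ℤ) by norm_num)
      obtain h | h | h : i % ((3 : ℕ) : ℤ) = 0 ∨ i % ((3 : ℕ) : ℤ) = 1 ∨ i % ((3 : ℕ) : ℤ) = 2 := by omega
      · exfalso
        have : g * p * g⁻¹ = 1 := by rw [← hi', ← zpow_mod_orderOf, hp, h, zpow_zero]
        rw [conj_eq_one_iff] at this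
        rw [this, orderOf_one] at hp
        omega
      · exact Or.inl (by rw [h, zpow_one])
      · refine Or.inr ?_
        rw [h, show p ^ (2 : ℤ) = p ^ 2 from zpow_natCast p 2, eq_inv_iff_mul_eq_one, ← pow_succ,
          show 2 + 1 = 3 from rfl, ← hp, pow_orderOf_eq_one]
    let mk : ∀ {y}, y ∈ Com D a b → ↥(Subgroup.closure (Com D a b)) := fun {y} hy => ⟨y, Subgroup.subset_closure hy⟩
    have hnc' : ∀ {y} (hy : y ∈ Com D a b), mk hy * p * (mk hy)⁻¹ = p⁻¹ := by
      intro y hy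
      refine (huniq (mk hy)).resolve_left fun hfix => ?_
      have hall : ∀ {w} (hw : w ∈ Com D a b), mk hw * p * (mk hw)⁻¹ = p := by
        intro w hw
        obtain ⟨k, hk, hkw⟩ := C.trans_com hab ha hb hy hw
        have e : mk hw = ⟨k, hk⟩ * mk hy * (⟨k, hk⟩ : ↥(Subgroup.closure (Com D a b)))⁻¹ := Subtype.ext hkw.symm
        have hk' : (⟨k, hk⟩ : ↥(Subgroup.closure (Com D a b)))⁻¹ * p * (⟨k, hk⟩ : ↥(Subgroup.closure (Com D a b))) = p ∨ (⟨k, hk⟩ : ↥(Subgroup.closure (Com D a b)))⁻¹ * p * (⟨k, hk⟩ : ↥(Subgroup.closure (Com D a b))) = p⁻¹ := by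
          simpa using huniq (⟨k, hk⟩ : ↥(Subgroup.closure (Com D a b)))⁻¹
        rw [e]
        rcases hk' with h | h
        · calc ⟨k, hk⟩ * mk hy * (⟨k, hk⟩ : ↥(Subgroup.closure (Com D a b)))⁻¹ * p * (⟨k, hk⟩ * mk hy * (⟨k, hk⟩ : ↥(Subgroup.closure (Com D a b)))⁻¹)⁻¹
              = ⟨k, hk⟩ * (mk hy * ((⟨k, hk⟩ : ↥(Subgroup.closure (Com D a b)))⁻¹ * p * ⟨k, hk⟩) * (mk hy)⁻¹) * (⟨k, hk⟩ : ↥(Subgroup.closure (Com D a b)))⁻¹ := by group
            _ = p := by rw [h, hfix]; conv_lhs => rw [← h]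
                        group
        · calc ⟨k, hk⟩ * mk hy * (⟨k, hk⟩ : ↥(Subgroup.closure (Com D a b)))⁻¹ * p * (⟨k, hk⟩ * mk hy * (⟨k, hk⟩ : ↥(Subgroup.closure (Com D a b)))⁻¹)⁻¹
              = ⟨k, hk⟩ * (mk hy * ((⟨k, hk⟩ : ↥(Subgroup.closure (Com D a b)))⁻¹ * p * ⟨k, hk⟩) * (mk hy)⁻¹) * (⟨k, hk⟩ : ↥(Subgroup.closure (Com D a b)))⁻¹ := by group
            _ = ⟨k, hk⟩ * (mk hy * p * (mk hy)⁻¹)⁻¹ * (⟨k, hk⟩ : ↥(Subgroup.closure (Com D a b)))⁻¹ := by rw [h]; group
            _ = p := by rw [hfix, ← h]; group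
      have hpc : p ∈ Subgroup.center ↥(Subgroup.closure (Com D a b)) := by
        refine mem_center_of_commute_gen (S := {w : ↥(Subgroup.closure (Com D a b)) | (w : G) ∈ Com D a b})
          Subgroup.closure_closure_coe_preimage fun w hw => ?_
        exact (show Commute (mk hw) p from mul_inv_eq_iff_eq_mul.1 (hall hw)).symm
      rw [hz, Subgroup.mem_bot] at hpc
      rw [hpc, orderOf_one] at hp
      omega
    obtain ⟨s, hs1, hs2⟩ := C.exists_common ha hb hab
    have hsC : s ∈ Com D a b := ⟨hs1, hs2⟩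
    obtain ⟨f, hf, f1, f2, hB, himg⟩ := C.com_frame hab ha hb hsC
    obtain ⟨-, -, -, -, U, hU, -, -, -, -⟩ := C.low.pair (hf.mem a f1) hB
    rw [← himg] at hU
    obtain ⟨u, ⟨hus, huC⟩, -⟩ := hU
    set P0 : G := (p : G)
    have e1 : ∀ {y}, y ∈ Com D a b → y * P0 * y = P0⁻¹ := fun {y} hy => by
      have := congrArg Subtype.val (hnc' hy)
      simp only [Subgroup.coe_mul, Subgroup.coe_inv, mk, TSet.inv C.group.1 hy.1.1] at this
      exact this
    have hP3 : P0 ^ 3 = 1 := by rw [← SubgroupClass.coe_pow, ← hp, pow_orderOf_eq_one]; rfl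
    have hP1 : P0 ≠ 1 := fun e => by
      rw [show p = 1 from Subtype.ext e, orderOf_one] at hp
      omega
    have hs'D : P0 * s * P0⁻¹ ∈ D := C.group.2.1 P0 s hs1.1
    have e2 : ∀ {y}, y ∈ Com D a b → y * P0 = P0⁻¹ * y := fun {y} hy => by
      rw [← e1 hy, mul_assoc (y * P0), TSet.sq C.group.1 hy.1.1, mul_one]
    have e3 : ∀ {y}, y ∈ Com D a b → y * P0⁻¹ = P0 * y := fun {y} hy => by
      rw [← e1 hy, ← mul_assoc, ← mul_assoc, TSet.sq C.group.1 hy.1.1, one_mul]
    have hs' : P0 * s * P0⁻¹ = P0 * P0 * s := by rw [mul_assoc, e3 hsC, ← mul_assoc]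
    have hPP : P0⁻¹ * P0⁻¹ = P0 := by
      rw [← mul_inv_rev, inv_eq_iff_mul_eq_one, ← pow_two, ← pow_succ, hP3]
    have key : ∀ {y}, y ∈ Com D a b → Commute y s → y * (P0 * s * P0⁻¹) * y = P0 * s := fun {y} hy hc => by
      have c1 : y * (P0 * P0 * s) * y = (y * P0) * P0 * (s * y) := by simp only [mul_assoc]
      rw [hs', c1, e2 hy, mul_assoc P0⁻¹ y P0, e2 hy, ← hc.eq, ← mul_assoc P0⁻¹ P0⁻¹ y, hPP, mul_assoc P0 y,
        ← mul_assoc y y, TSet.sq C.group.1 hy.1.1, one_mul]
    have hnc2 : ∀ {y}, y ∈ Com D a b → Commute y s → ¬ Commute y (P0 * s * P0⁻¹) := fun {y} hy hc h => by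
      have := key hy hc
      rw [h.eq, mul_assoc, TSet.sq C.group.1 hy.1.1, mul_one, hs'] at this
      exact hP1 (mul_eq_left.1 (mul_right_cancel this))
    have b1 := TSet.braid C.group.1 huC.1.1 hs'D (hnc2 huC hus.2.2.symm)
    have b2 := TSet.braid C.group.1 hs1.1 hs'D (hnc2 hsC (Commute.refl s))
    rw [key huC hus.2.2.symm] at b1
    rw [key hsC (Commute.refl s)] at b2
    exact hus.2.1 (mul_left_cancel (mul_right_cancel (b1.symm.trans b2)))
  · have h2 : Nat.card K = 2 := by
      have := Nat.le_of_dvd (by norm_num) hdvd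
      interval_cases (Nat.card K) <;> omega
    obtain ⟨⟨x, hx⟩, hx0⟩ := Subgroup.ne_bot_iff_exists_ne_one.1 hne
    have hx1 : x ≠ 1 := fun e => hx0 (Subtype.ext e)

    have hxc : x ∈ Subgroup.center (Subgroup.closure (Com D a b)) := by
      refine Subgroup.mem_center_iff.2 fun g => ?_
      obtain ⟨y, -, huniq⟩ := (Nat.card_eq_two_iff' (1 : K)).1 h2
      have hmem : ∀ w : K, w = 1 ∨ w = ⟨x, hx⟩ := fun w => by
        by_cases e : w = 1
        · exact Or.inl e
        · exact Or.inr ((huniq w e).trans (huniq ⟨x, hx⟩ (fun e' => hx1 (congrArg Subtype.val e'))).symm)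

      rcases hmem ⟨g * x * g⁻¹, (inferInstance : K.Normal).conj_mem x hx g⟩ with e | e
      · exact absurd (conj_eq_one_iff.1 (congrArg Subtype.val e)) hx1
      · exact mul_inv_eq_iff_eq_mul.1 (congrArg Subtype.val e)
    rw [hz, Subgroup.mem_bot] at hxc
    exact hx1 hxc

end Ctx

end Cfsg.Agent.FischerUnique24
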