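import Cfsg.Agent.Lib.FischerUnique24.Link
import Cfsg.Agent.Lib.FischerPresented.OutSigma

/-!
Over a link of two centralisers, the centralisers of two commuting partners are linked compatibly:
an element exchanging two commuting transpositions is outer on their joint centraliser, and the
quotient Fi22 has outer automorphism group of order two.
-/

set_option autoImplicit false
set_option maxRecDepth 100000

namespace Cfsg.Agent.FischerUnique24

open Cfsg.Agent.CosetCert
open Cfsg.Agent.CosetData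
open Cfsg.Agent.Fischer
open Cfsg.Agent.Fischer.Factor
open Cfsg.Agent.FischerPresented
open Cfsg.Agent.FischerUnique23 (exists_iso)

local notation "G22" => Setup.G Fi22B.setup

variable {G G' X : Type*} [Group G] [Group G'] [Group X] [Finite G] [Finite G'] [Finite X]
  {D : Set G} {D' : Set G'} {D1 : Set X}

omit [Finite X] in
/-- The group of the neighbours one level down maps onto the presented Fi22 with central kernel. -/
theorem Is23.fi22 [Finite X] (h : Is23 D1) {d : X} (hd : d ∈ D1) :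
    ∃ π : ↥(Subgroup.closure (Nb D1 d)) →* G22, Function.Surjective π ∧
      π.ker = Subgroup.center ↥(Subgroup.closure (Nb D1 d)) := by
  obtain ⟨hcl, -, hcen⟩ := FischerUnique23.centralizer_facts h.group h.prim h.type hd
  obtain ⟨Φ, hΦ⟩ := exists_iso h.group h.prim h.type
  obtain ⟨w, hw, rfl⟩ := hΦ.ge hd
  obtain ⟨g, rfl⟩ := Fi23.mem_D.1 hw
  obtain ⟨T, hT⟩ : ∃ T : Setup.G Fi23A.setup ≃* X, T = (MulAut.conj g).trans Φ := ⟨_, rfl⟩
  have hTz : T Fi23.z = Φ (g * Fi23.z * g⁻¹) := by rw [hT]; rfl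
  rw [← hTz] at hcl hcen ⊢
  have hmap : Subgroup.closure (Nb D1 (T Fi23.z)) = Fi23.K.map T.toMonoidHom := by
    rw [hcl, ← Fi23.centralizer_z]
    ext x
    obtain ⟨w, rfl⟩ := T.surjective x
    simp only [Subgroup.mem_map_equiv, T.symm_apply_apply, Subgroup.mem_centralizer_singleton_iff]
    rw [← map_mul, ← map_mul, T.injective.eq_iff]
  obtain ⟨E, hE⟩ : ∃ E : Fi23.K ≃* ↥(Subgroup.closure (Nb D1 (T Fi23.z))), ∀ x : Fi23.K, (E x : X) = T x :=
    ⟨(MulEquiv.subgroupMap T Fi23.K).trans (MulEquiv.subgroupCongr hmap.symm), fun x => rfl⟩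
  obtain ⟨ι⟩ := Fi23.nonempty_iso
  refine ⟨ι.symm.toMonoidHom.comp ((QuotientGroup.mk' Fi23.Z).comp E.symm.toMonoidHom),
    ι.symm.surjective.comp ((QuotientGroup.mk'_surjective _).comp E.symm.surjective), ?_⟩
  ext x
  obtain ⟨w, rfl⟩ := E.surjective x
  rw [MonoidHom.mem_ker]
  show ι.symm (QuotientGroup.mk (E.symm (E w))) = 1 ↔ _
  rw [E.symm_apply_apply, MulEquiv.map_eq_one_iff, QuotientGroup.eq_one_iff, ← Fi23.center_K,
    Subgroup.mem_center_iff, Subgroup.mem_center_iff]
  constructor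
  · intro hc k
    obtain ⟨k, rfl⟩ := E.surjective k
    rw [← map_mul, ← map_mul, hc k]
  · intro hc k
    exact E.injective (by rw [map_mul, map_mul, hc (E k)])

namespace Ctx

variable (C : Ctx D D1)
include C

omit [Finite G'] in
/-- The joint centraliser maps onto the presented Fi22 with central kernel, and its centre is small. -/
theorem near_quot {t u : G} (ht : t ∈ D) (hu : u ∈ Nb D t) :
    ∃ π : ↥(Subgroup.closure (Com D t u)) →* G22, Function.Surjective π ∧
      π.ker = Subgroup.center ↥(Subgroup.closure (Com D t u)) ∧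
      ∀ x ∈ Subgroup.center ↥(Subgroup.closure (Com D t u)),
        (x : G) = 1 ∨ (x : G) = t ∨ (x : G) = u ∨ (x : G) = t * u := by
  obtain ⟨f, hf⟩ := C.chart t ht
  obtain ⟨htK, huK, -⟩ := C.com_near ht hu
  set K := Subgroup.closure (Com D t u)
  set L := Subgroup.closure (Nb D1 (f u))
  have hKH : K ≤ Hd D t := Subgroup.closure_mono Set.inter_subset_left
  have hfL : ∀ x ∈ K, f x ∈ L := by
    intro x hx
    induction hx using Subgroup.closure_induction with
    | mem y hy => exact Subgroup.subset_closure (hf.nb_inter hu ▸ ⟨y, hy, rfl⟩)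
    | one => rw [hf.map_one]; exact one_mem _
    | mul a b ha hb ea eb => rw [hf.map_mul _ (hKH ha) _ (hKH hb)]; exact mul_mem ea eb
    | inv a ha ea => rw [hf.map_inv (hKH ha)]; exact inv_mem ea
  let φ : K →* L := MonoidHom.mk' (fun x => ⟨f x, hfL x x.2⟩)
    fun x y => Subtype.ext (hf.map_mul _ (hKH x.2) _ (hKH y.2))
  have hφs : Function.Surjective φ := fun z => by
    obtain ⟨x, hx, -, e⟩ := hf.exists_of_mem_closure (S := Com D t u)
      (fun y hy => Subgroup.subset_closure hy.1) (z := (z : X)) (by rw [Com, hf.nb_inter hu]; exact z.2)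
    exact ⟨⟨x, hx⟩, Subtype.ext e⟩
  obtain ⟨-, -, hcen⟩ := FischerUnique23.centralizer_facts C.low.group C.low.prim C.low.type (hf.mem u hu)
  obtain ⟨π, hπs, hπk⟩ := C.low.fi22 (hf.mem u hu)
  have hti := C.mem_self ht
  have hu' : u ∈ Hd D t := Subgroup.subset_closure hu
  have hfour : ∀ x : K, φ x ∈ Subgroup.center L →
      (x : G) = 1 ∨ (x : G) = t ∨ (x : G) = u ∨ (x : G) = t * u := by
    intro x hx
    rw [hcen, Subgroup.mem_subgroupOf, Subgroup.mem_zpowers_iff] at hx
    obtain ⟨n, hn⟩ := hx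
    have hn : f u ^ n = f x := hn
    have hsq : f u ^ (2 : ℤ) = 1 := by
      rw [zpow_two, TSet.sq C.low.group.1 (hf.mem u hu)]
    rcases Int.even_or_odd' n with ⟨m, rfl | rfl⟩
    · rw [zpow_mul, hsq, one_zpow] at hn
      rcases (C.ker_iff ht hf (hKH x.2)).1 hn.symm with h | h
      exacts [Or.inl h, Or.inr (Or.inl h)]
    · rw [zpow_add, zpow_mul, hsq, one_zpow, one_mul, zpow_one] at hn
      have h1 : f ((x : G) * u⁻¹) = 1 := by
        rw [hf.map_mul _ (hKH x.2) _ (inv_mem hu'), hf.map_inv hu', ← hn, mul_inv_cancel]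
      rcases (C.ker_iff ht hf (mul_mem (hKH x.2) (inv_mem hu'))).1 h1 with h | h
      exacts [Or.inr (Or.inr (Or.inl (mul_inv_eq_one.1 h))),
        Or.inr (Or.inr (Or.inr (mul_inv_eq_iff_eq_mul.1 h)))]
  have htc : ∀ {c}, (c = t ∨ c = u) → ∀ y ∈ K, Commute c y := by
    intro c hc y hy
    have := Subgroup.mem_centralizer_iff.1 ((C.com_near ht hu).2.2.ge hy) c
      (hc.imp id (fun h => (Set.mem_singleton_iff.2 h)))
    exact this
  have hker : ∀ x : K, φ x ∈ Subgroup.center L ↔ x ∈ Subgroup.center K := by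
    intro x
    refine ⟨fun hx => Subgroup.mem_center_iff.2 fun k => Subtype.ext ?_, fun hx => ?_⟩
    · show (k : G) * x = x * k
      rcases hfour x hx with h | h | h | h <;> rw [h]
      · rw [one_mul, mul_one]
      · exact (htc (Or.inl rfl) k k.2).symm.eq
      · exact (htc (Or.inr rfl) k k.2).symm.eq
      · exact ((htc (Or.inl rfl) k k.2).mul_left (htc (Or.inr rfl) k k.2)).symm.eq
    · refine Subgroup.mem_center_iff.2 fun z => ?_
      obtain ⟨k, rfl⟩ := hφs z
      rw [← map_mul, ← map_mul, Subgroup.mem_center_iff.1 hx k]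
  refine ⟨π.comp φ, hπs.comp hφs, ?_, fun x hx => hfour x ((hker x).2 hx)⟩
  ext x
  rw [MonoidHom.mem_ker, MonoidHom.comp_apply, ← MonoidHom.mem_ker, hπk, hker]

omit [Finite G'] in
/-- Of two automorphisms of the joint centraliser, neither induced from inside, the product is. -/
theorem near_aut {t u : G} (ht : t ∈ D) (hu : u ∈ Nb D t)
    (a b : MulAut ↥(Subgroup.closure (Com D t u)))
    (hacom : ∀ y : ↥(Subgroup.closure (Com D t u)), (y : G) ∈ Com D t u → (a y : G) ∈ Com D t u)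
    (hbcom : ∀ y : ↥(Subgroup.closure (Com D t u)), (y : G) ∈ Com D t u → (b y : G) ∈ Com D t u)
    (ha : ¬ ∃ k, ∀ y : ↥(Subgroup.closure (Com D t u)), (y : G) ∈ Com D t u → a y = k * y * k⁻¹)
    (hb : ¬ ∃ k, ∀ y : ↥(Subgroup.closure (Com D t u)), (y : G) ∈ Com D t u → b y = k * y * k⁻¹) :
    ∃ k, ∀ y : ↥(Subgroup.closure (Com D t u)), (y : G) ∈ Com D t u → (a * b) y = k * y * k⁻¹ := by
  obtain ⟨f, hf⟩ := C.chart t ht
  obtain ⟨fu, hfu⟩ := C.chart u hu.1
  have htu : t ∈ Nb D u := ⟨ht, hu.2.1.symm, hu.2.2.symm⟩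
  have hfree : TwinFree D := fun d v hd hs => prim_sameComm_trivial C.group C.prim hd hs
  obtain ⟨π, hπs, hπk, hfour⟩ := C.near_quot ht hu
  have hinv : ∀ (c : MulAut ↥(Subgroup.closure (Com D t u))) (x : ↥(Subgroup.closure (Com D t u))), π x = 1 → π (c x) = 1 := by
    intro c x hx
    rw [← MonoidHom.mem_ker, hπk, Subgroup.mem_center_iff] at hx ⊢
    intro k
    obtain ⟨k, rfl⟩ := c.surjective k
    rw [← map_mul, ← map_mul, hx k]
  choose σ hσ using hπs
  have hcongr : ∀ (c : MulAut ↥(Subgroup.closure (Com D t u))) (x y : ↥(Subgroup.closure (Com D t u))), π x = π y → π (c x) = π (c y) := by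
    intro c x y e
    have := hinv c (x⁻¹ * y) (by rw [map_mul, map_inv, e, inv_mul_cancel])
    rwa [map_mul, map_mul, map_inv, map_inv, inv_mul_eq_one] at this
  have hbar : ∀ c : MulAut ↥(Subgroup.closure (Com D t u)), ∃ c' : MulAut G22, ∀ x, c' (π x) = π (c x) := by
    intro c
    refine ⟨⟨⟨fun q => π (c (σ q)), fun q => π (c.symm (σ q)), fun q => ?_, fun q => ?_⟩, fun p q => ?_⟩,
      fun x => hcongr c _ _ (hσ _)⟩
    · show π (c.symm (σ (π (c (σ q))))) = q
      rw [hcongr c.symm _ (c (σ q)) (hσ _), c.symm_apply_apply, hσ]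
    · show π (c (σ (π (c.symm (σ q))))) = q
      rw [hcongr c _ (c.symm (σ q)) (hσ _), c.apply_symm_apply, hσ]
    · show π (c (σ (p * q))) = π (c (σ p)) * π (c (σ q))
      rw [← map_mul, ← map_mul]
      exact hcongr c _ _ (by rw [hσ, map_mul, hσ, hσ])
  have hreal : ∀ c : MulAut ↥(Subgroup.closure (Com D t u)), (∀ y : ↥(Subgroup.closure (Com D t u)), (y : G) ∈ Com D t u → (c y : G) ∈ Com D t u) →
      ∀ c' : MulAut G22, (∀ x, c' (π x) = π (c x)) → c' ∈ Cfsg.Inn G22 →
      ∃ k, ∀ y : ↥(Subgroup.closure (Com D t u)), (y : G) ∈ Com D t u → c y = k * y * k⁻¹ := by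
    rintro c hc c' hc' ⟨g, rfl⟩
    refine ⟨σ g, fun y hy => ?_⟩
    have hq : (↑(σ g * y * (σ g)⁻¹) : G) ∈ Com D t u := by
      rw [Subgroup.coe_mul, Subgroup.coe_mul, Subgroup.coe_inv]
      exact C.conj_com ((C.com_near ht hu).2.2.ge (σ g).2) hy
    have e := hc' y
    rw [MulAut.conj_apply, ← hσ g, ← map_inv, ← map_mul, ← map_mul] at e
    have hz : π ((σ g * y * (σ g)⁻¹)⁻¹ * c y) = 1 := by rw [map_mul, map_inv, e, inv_mul_cancel]
    have hp := hc y hy
    rw [← MonoidHom.mem_ker, hπk] at hz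
    have hcases := hfour _ hz
    obtain ⟨q, hqd⟩ : ∃ q, σ g * y * (σ g)⁻¹ = q := ⟨_, rfl⟩
    rw [hqd] at hz hcases hq ⊢
    have hmul : ∀ {z : G}, (↑(q⁻¹ * c y) : G) = z → (c y : G) = q * z := fun {z} h => by
      rw [← h, ← Subgroup.coe_mul, mul_inv_cancel_left]
    refine Subtype.ext ?_
    rcases hcases with h | h | h | h
    · rw [hmul h, mul_one]
    · exfalso
      have e' := hmul h
      have : (c y : G) = q := hf.inj _ hp.1 _ hq.1 (by
        rw [e', hf.map_mul _ (Subgroup.subset_closure hq.1) _ (C.mem_self ht),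
          (C.ker_iff ht hf (C.mem_self ht)).2 (Or.inr rfl), mul_one])
      rw [e', mul_eq_left] at this
      exact TSet.ne_one C.group.1 ht this
    · exfalso
      have e' := hmul h
      have : (c y : G) = q := hfu.inj _ hp.2 _ hq.2 (by
        rw [e', hfu.map_mul _ (Subgroup.subset_closure hq.2) _ (C.mem_self hu.1),
          (C.ker_iff hu.1 hfu (C.mem_self hu.1)).2 (Or.inr rfl), mul_one])
      rw [e', mul_eq_left] at this
      exact TSet.ne_one C.group.1 hu.1 this
    · exfalso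
      have e' := hmul h
      have cqt : Commute (q : G) t := hq.1.2.2.symm
      have cqu : Commute (q : G) u := hq.2.2.2.symm
      have cpt : Commute (c y : G) t := hp.1.2.2.symm
      have cpu : Commute (c y : G) u := hp.2.2.2.symm
      have cpq : Commute (c y : G) q := by
        rw [e']; exact (Commute.refl (q : G)).mul_left (cqt.mul_right cqu).symm
      have n1 : (c y : G) ≠ q := fun h' => by
        rw [e', mul_eq_left] at h'
        exact hu.2.1 (((eq_inv_of_mul_eq_one_left h').trans (TSet.inv C.group.1 hu.1)).symm)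
      refine noRel_four C.group.1 hfree [(c y : G), (q : G), t, u] ?_ rfl
        (by simp [hp.1.1, hq.1.1, ht, hu.1]) ?_ ?_
      · simp [n1, hp.1.2.1, hp.2.2.1, hq.1.2.1, hq.2.2.1, hu.2.1.symm]
      · simp [cpt, cpt.symm, cpu, cpu.symm, cpq, cpq.symm, cqt, cqt.symm, cqu, cqu.symm, hu.2.2,
          hu.2.2.symm]
      · simp only [List.prod_cons, List.prod_nil, mul_one]
        rw [← e']
        exact TSet.sq C.group.1 hp.1.1
  haveI := Fi22.order_facts.1
  have hidx : (Cfsg.Inn G22).index = 2 := by rw [Subgroup.index_eq_card]; exact Out22.card_out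
  obtain ⟨a', ha'⟩ := hbar a
  obtain ⟨b', hb'⟩ := hbar b
  have hna : a' ∉ Cfsg.Inn G22 := fun h => ha (hreal a hacom a' ha' h)
  have hnb : b' ∉ Cfsg.Inn G22 := fun h => hb (hreal b hbcom b' hb' h)
  refine hreal (a * b) (fun y hy => hacom _ (hbcom y hy)) (a' * b') (fun x => ?_) ?_
  · rw [MulAut.mul_apply, hb', ha', MulAut.mul_apply]
  · rw [Subgroup.mul_mem_iff_of_index_two hidx]
    exact iff_of_false hna hnb

end Ctx

omit [Finite X] in
/-- A link at a neighbour agreeing with a given one on the joint centraliser. -/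
theorem exists_adj [Finite X] (C : Ctx D D1) (C' : Ctx D' D1) {t : G} {t' : G'} {θ : G → G'}
    (h : IsLink D D' t t' θ) (ht : t ∈ D) (ht' : t' ∈ D') {u : G} (hu : u ∈ Nb D t) :
    ∃ ψ, IsLink D D' u (θ u) ψ ∧ ψ t = t' ∧ ∀ y ∈ Com D t u, ψ y = θ y := by
  have hu' := h.nb u hu
  have hut : t ∈ Nb D u := ⟨ht, hu.2.1.symm, hu.2.2.symm⟩
  have hut' : t' ∈ Nb D' (θ u) := ⟨ht', hu'.2.1.symm, hu'.2.2.symm⟩
  obtain ⟨g, hg1, hg2⟩ := C.trans_near ht hu hu.1 hut
  obtain ⟨g', hg1', hg2'⟩ := C'.trans_near ht' hu' hu'.1 hut'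
  obtain ⟨htK, -, hKeq⟩ := C.com_near ht hu
  obtain ⟨htK', -, hKeq'⟩ := C'.com_near ht' hu'
  set K := Subgroup.closure (Com D t u) with hK
  set K' := Subgroup.closure (Com D' t' (θ u)) with hK'
  have hKH : K ≤ Hd D t := Subgroup.closure_mono Set.inter_subset_left
  have hθK : ∀ x ∈ Hd D t, θ x ∈ K' ↔ x ∈ K := by
    intro x hx
    rw [← hKeq', ← hKeq, Subgroup.mem_centralizer_iff, Subgroup.mem_centralizer_iff]
    have hxt : t * x = x * t := (commute_of_mem_closure_nb hx).eq
    have hxt' : t' * θ x = θ x * t' := (commute_of_mem_closure_nb (h.mem_hd x hx)).eq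
    simp only [Set.mem_insert_iff, Set.mem_singleton_iff, forall_eq_or_imp, forall_eq, hxt, hxt', true_and]
    exact (h.commute_iff (Subgroup.subset_closure hu) hx)
  have hconj : ∀ {x}, x ∈ K → g * x * g⁻¹ ∈ K ∧ g⁻¹ * x * g ∈ K := by
    intro x hx
    rw [← hKeq, Subgroup.mem_centralizer_iff] at hx ⊢
    have c1 : Commute t x := hx t (Or.inl rfl)
    have c2 : Commute u x := hx u (Or.inr rfl)
    have e1 : g⁻¹ * t * g = u := by rw [← hg2]; group
    have e2 : g⁻¹ * u * g = t := by rw [← hg1]; group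
    rw [Subgroup.mem_centralizer_iff]
    refine ⟨?_, ?_⟩ <;> rintro v (rfl | rfl)
    · exact (hg2 ▸ (commute_conj_iff g u x).2 c2).eq
    · exact (hg1 ▸ (commute_conj_iff g _ x).2 c1).eq
    · have := (commute_conj_iff g⁻¹ u x).2 c2
      rw [inv_inv, e2] at this
      exact this.eq
    · have := (commute_conj_iff g⁻¹ _ x).2 c1
      rw [inv_inv, e1] at this
      exact this.eq
  have hconj' : ∀ {x}, x ∈ K' → g' * x * g'⁻¹ ∈ K' ∧ g'⁻¹ * x * g' ∈ K' := by
    intro x hx
    rw [← hKeq', Subgroup.mem_centralizer_iff] at hx ⊢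
    have c1 : Commute t' x := hx t' (Or.inl rfl)
    have c2 : Commute (θ u) x := hx _ (Or.inr rfl)
    have e1 : g'⁻¹ * t' * g' = θ u := by rw [← hg2']; group
    have e2 : g'⁻¹ * θ u * g' = t' := by rw [← hg1']; group
    rw [Subgroup.mem_centralizer_iff]
    refine ⟨?_, ?_⟩ <;> rintro v (rfl | rfl)
    · exact (hg2' ▸ (commute_conj_iff g' _ x).2 c2).eq
    · exact (hg1' ▸ (commute_conj_iff g' _ x).2 c1).eq
    · have := (commute_conj_iff g'⁻¹ _ x).2 c2
      rw [inv_inv, e2] at this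
      exact this.eq
    · have := (commute_conj_iff g'⁻¹ _ x).2 c1
      rw [inv_inv, e1] at this
      exact this.eq
  let E : K →* K' := MonoidHom.mk' (fun x => ⟨θ x, (hθK x (hKH x.2)).2 x.2⟩)
    fun x y => Subtype.ext (h.map_mul _ (hKH x.2) _ (hKH y.2))
  have hE : Function.Bijective E := by
    refine ⟨fun x y e => Subtype.ext (h.inj _ (hKH x.2) _ (hKH y.2) (congrArg Subtype.val e)), fun z => ?_⟩
    obtain ⟨x, hx, e⟩ := h.surj z ((Subgroup.closure_mono Set.inter_subset_left : K' ≤ Hd D' t') z.2)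
    exact ⟨⟨x, (hθK x hx).1 (e ▸ z.2)⟩, Subtype.ext e⟩
  let E' : K ≃* K' := MulEquiv.ofBijective E hE
  -- conjugation by the inverse exchange on the first side
  let a : MulAut K :=
    { toFun := fun x => ⟨g⁻¹ * (x : G) * g, (hconj x.2).2⟩
      invFun := fun x => ⟨g * (x : G) * g⁻¹, (hconj x.2).1⟩
      left_inv := fun x => Subtype.ext (by simp [mul_assoc])
      right_inv := fun x => Subtype.ext (by simp [mul_assoc])
      map_mul' := fun x y => Subtype.ext (by simp [mul_assoc]) }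
  let c' : MulAut K' :=
    { toFun := fun x => ⟨g' * (x : G') * g'⁻¹, (hconj' x.2).1⟩
      invFun := fun x => ⟨g'⁻¹ * (x : G') * g', (hconj' x.2).2⟩
      left_inv := fun x => Subtype.ext (by simp [mul_assoc])
      right_inv := fun x => Subtype.ext (by simp [mul_assoc])
      map_mul' := fun x y => Subtype.ext (by simp [mul_assoc]) }
  let b : MulAut K := E'.trans (c'.trans E'.symm)
  have hbval : ∀ x : K, θ (b x) = g' * θ x * g'⁻¹ := fun x => by
    have := congrArg Subtype.val (E'.apply_symm_apply (c' (E' x)))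
    exact this
  have hcomiff : ∀ {x}, x ∈ Hd D t → (θ x ∈ Com D' t' (θ u) ↔ x ∈ Com D t u) := fun {x} hx => by
    refine ⟨fun e => ?_, fun e => h.com_image hu ▸ ⟨x, e, rfl⟩⟩
    rw [← h.com_image hu] at e
    obtain ⟨y, hy, e⟩ := e
    rwa [← h.inj y (Subgroup.subset_closure hy.1) x hx e]
  have hacom : ∀ y : K, (y : G) ∈ Com D t u → (a y : G) ∈ Com D t u := fun y hy => by
    have e1 : g⁻¹ * t * g = u := by rw [← hg2]; group
    have e2 : g⁻¹ * u * g = t := by rw [← hg1]; group
    have h1 := nb_conj C.group g⁻¹ hy.2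
    have h2 := nb_conj C.group g⁻¹ hy.1
    rw [inv_inv] at h1 h2
    rw [e2] at h1
    rw [e1] at h2
    exact ⟨h1, h2⟩
  have hbcom : ∀ y : K, (y : G) ∈ Com D t u → (b y : G) ∈ Com D t u := fun y hy => by
    refine (hcomiff (hKH (b y).2)).1 ?_
    rw [hbval]
    have hy' := (hcomiff (hKH y.2)).2 hy
    exact ⟨hg2' ▸ nb_conj C'.group g' hy'.2, hg1' ▸ nb_conj C'.group g' hy'.1⟩
  have ha : ¬ ∃ k : K, ∀ y : K, (y : G) ∈ Com D t u → a y = k * y * k⁻¹ := by
    rintro ⟨k, hk⟩
    have hfix : ∀ y ∈ K, Commute (g * (k : G)) y := by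
      intro y hy
      induction hy using Subgroup.closure_induction with
      | mem y hy =>
        have e := congrArg Subtype.val (hk ⟨y, Subgroup.subset_closure hy⟩ hy)
        change g⁻¹ * y * g = (k : G) * y * (k : G)⁻¹ at e
        refine mul_inv_eq_iff_eq_mul.1 ?_
        calc g * (k : G) * y * (g * (k : G))⁻¹ = g * ((k : G) * y * (k : G)⁻¹) * g⁻¹ := by group
          _ = y := by rw [← e]; group
      | one => exact Commute.one_right _
      | mul p q _ _ e1 e2 => exact e1.mul_right e2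
      | inv p _ e1 => exact e1.inv_right
    have e := conj_eq_self_of_commute (hfix t htK)
    rw [show g * (k : G) * t * (g * (k : G))⁻¹ = g * ((k : G) * t * (k : G)⁻¹) * g⁻¹ by group,
      conj_eq_self_of_commute (commute_of_mem_closure_nb (hKH k.2)).symm, hg1] at e
    exact hu.2.1 e
  have hb : ¬ ∃ k : K, ∀ y : K, (y : G) ∈ Com D t u → b y = k * y * k⁻¹ := by
    rintro ⟨k, hk⟩
    have hk' : θ k ∈ K' := (hθK _ (hKH k.2)).2 k.2
    have hfix : ∀ y ∈ K', Commute ((θ k)⁻¹ * g') y := by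
      intro y hy
      induction hy using Subgroup.closure_induction with
      | mem y hy =>
        rw [← h.com_image hu] at hy
        obtain ⟨x, hx, rfl⟩ := hy
        have e := hbval ⟨x, Subgroup.subset_closure hx⟩
        rw [hk _ hx, Subgroup.coe_mul, Subgroup.coe_mul, Subgroup.coe_inv,
          h.map_conj (hKH k.2) (Subgroup.subset_closure hx.1)] at e
        refine mul_inv_eq_iff_eq_mul.1 ?_
        calc (θ k)⁻¹ * g' * θ x * ((θ k)⁻¹ * g')⁻¹ = (θ k)⁻¹ * (g' * θ x * g'⁻¹) * θ k := by group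
          _ = θ x := by rw [← e]; group
      | one => exact Commute.one_right _
      | mul p q _ _ e1 e2 => exact e1.mul_right e2
      | inv p _ e1 => exact e1.inv_right
    have e := conj_eq_self_of_commute (hfix t' htK')
    rw [show (θ k)⁻¹ * g' * t' * ((θ k)⁻¹ * g')⁻¹ = (θ k)⁻¹ * (g' * t' * g'⁻¹) * θ k by group, hg1'] at e
    have hku : θ k * θ u * (θ k)⁻¹ = θ u := by
      refine conj_eq_self_of_commute ?_
      have := Subgroup.mem_centralizer_iff.1 (hKeq'.ge hk') (θ u) (Or.inr rfl)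
      exact (show Commute (θ u) (θ k) from this).symm
    refine hu'.2.1 ?_
    rw [← e]
    nth_rw 2 [← hku]
    group
  obtain ⟨k, hk⟩ := C.near_aut ht hu b a hbcom hacom hb ha
  obtain ⟨ψ₀, hψ₀, hψ₀'⟩ : ∃ ψ₀, IsLink D D' u (θ u) ψ₀ ∧ ∀ x, ψ₀ x = g' * θ (g⁻¹ * x * g) * g'⁻¹ := by
    refine ⟨_, ?_, fun x => rfl⟩
    have := h.conj C.group C'.group g g'
    rwa [hg1, hg1'] at this
  have hkc := Subgroup.mem_centralizer_iff.1 (hKeq.ge k.2)
  have hkt : Commute (k : G) t := (show Commute t (k : G) from hkc t (Or.inl rfl)).symm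
  have hku : Commute (k : G) u := (show Commute u (k : G) from hkc u (Or.inr rfl)).symm
  refine ⟨fun x => ψ₀ ((k : G)⁻¹ * x * k), ?_, ?_, fun y hy => ?_⟩
  · have h2 := hψ₀.conj C.group C'.group (k : G) 1
    rw [conj_eq_self_of_commute hku] at h2
    simpa using h2
  · show ψ₀ ((k : G)⁻¹ * t * k) = t'
    rw [show (k : G)⁻¹ * t * k = t by rw [mul_assoc, ← hkt.eq, inv_mul_cancel_left], hψ₀',
      show g⁻¹ * t * g = u by rw [← hg2]; group, hg2']
  · show ψ₀ ((k : G)⁻¹ * y * k) = θ y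
    set x : K := k⁻¹ * ⟨y, Subgroup.subset_closure hy⟩ * k with hx
    have hxe : (x : G) = (k : G)⁻¹ * y * k := rfl
    have hxc : (x : G) ∈ Com D t u := by
      rw [hxe]
      have := C.conj_com (hKeq.ge (inv_mem k.2)) hy
      rwa [inv_inv] at this
    have e := hk x hxc
    rw [MulAut.mul_apply] at e
    have e2 := hbval (a x)
    rw [e, show k * x * k⁻¹ = ⟨y, Subgroup.subset_closure hy⟩ by rw [hx]; group] at e2
    rw [hψ₀']
    exact e2.symm

end Cfsg.Agent.FischerUnique24
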